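import Mathlib.RingTheory.AdicCompletion.RingHom
import Mathlib.RingTheory.MvPowerSeries.Trunc
import Mathlib.RingTheory.MvPowerSeries.NoZeroDivisors
import Mathlib.RingTheory.MvPolynomial.Ideal
import Mathlib

/-!
# Evaluation of power series in an adically complete algebra
-/

namespace Groth.Agent.CAlg48.PSEval

variable {k R σ : Type*} [CommRing k] [CommRing R] [Algebra k R] [Finite σ]

/-- A `k`-algebra map `k[[σ]] → R` with prescribed values `b i ∈ J` on the variables, for `R`
`J`-adically complete. -/
theorem exists_algHom (J : Ideal R) [IsAdicComplete J R] (b : σ → R) (hb : ∀ i, b i ∈ J) :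
    ∃ ψ : MvPowerSeries σ k →ₐ[k] R, ∀ i, ψ (MvPowerSeries.X i) = b i := by
  classical
  let ev : MvPolynomial σ k →ₐ[k] R := MvPolynomial.aeval b
  have hev : MvPolynomial.idealOfVars σ k ≤ J.comap ev.toRingHom := by
    rw [MvPolynomial.idealOfVars, Ideal.span_le]
    rintro _ ⟨i, rfl⟩
    show MvPolynomial.aeval b (MvPolynomial.X i) ∈ J
    rw [MvPolynomial.aeval_X]
    exact hb i
  have hevn : ∀ n, MvPolynomial.idealOfVars σ k ^ n ≤ (J ^ n).comap ev.toRingHom := fun n =>
    (Ideal.pow_right_mono hev n).trans (Ideal.le_comap_pow _ n)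
  let F : ∀ n : ℕ, MvPowerSeries σ k →ₐ[k] R ⧸ J ^ n := fun n =>
    (Ideal.quotientMapₐ (J ^ n) ev (hevn n)).comp ((MvPowerSeries.truncTotalAlgHom σ k n).restrictScalars k)
  have hF : ∀ n φ, F n φ = Ideal.Quotient.mk _ (ev (MvPowerSeries.truncTotal n φ)) := fun n φ => rfl
  have hcompat : ∀ {m n : ℕ} (hle : m ≤ n),
      (Ideal.Quotient.factorₐ k (Ideal.pow_le_pow_right hle)).comp (F n) = F m := by
    intro m n hle
    refine AlgHom.ext fun φ => ?_
    rw [AlgHom.comp_apply, hF, hF]
    show Ideal.Quotient.mk (J ^ m) _ = Ideal.Quotient.mk (J ^ m) _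
    rw [Ideal.Quotient.eq, ← map_sub]
    exact hevn m (MvPowerSeries.truncTotal_sub_truncTotal_mem_pow_idealOfVars hle (le_refl _) φ)
  refine ⟨IsAdicComplete.liftAlgHom J F hcompat, fun i => ?_⟩
  rw [IsHausdorff.eq_iff_smodEq (I := J)]
  intro n
  rw [SModEq.sub_mem, Ideal.smul_eq_mul, Ideal.mul_top, ← Ideal.Quotient.eq,
    IsAdicComplete.mk_liftAlgHom, hF, Ideal.Quotient.eq]
  rcases le_or_gt n 1 with hn | hn
  · have h1 : ev (MvPowerSeries.truncTotal n (MvPowerSeries.X i)) - b i ∈ J := by
      refine Ideal.sub_mem _ ?_ (hb i)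
      interval_cases n
      · have h : MvPowerSeries.truncTotal 0 (MvPowerSeries.X i : MvPowerSeries σ k) = 0 := by
          ext x; simp [MvPowerSeries.coeff_truncTotal_eq_ite]
        rw [h, map_zero]; exact zero_mem _
      · have h : MvPowerSeries.truncTotal 1 (MvPowerSeries.X i : MvPowerSeries σ k) = 0 := by
          ext x
          rw [MvPowerSeries.coeff_truncTotal_eq_ite, MvPowerSeries.coeff_X, MvPolynomial.coeff_zero]
          split_ifs with h1 h2
          · subst h2; simp at h1
          · rfl
          · rfl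
        rw [h, map_zero]; exact zero_mem _
    interval_cases n
    · simp
    · simpa using h1
  · have h : MvPowerSeries.truncTotal n (MvPowerSeries.X i : MvPowerSeries σ k) = MvPolynomial.X i := by
      ext x
      rw [MvPowerSeries.coeff_truncTotal_eq_ite, MvPowerSeries.coeff_X, MvPolynomial.coeff_X]
      split_ifs with h1 h2 h3 h4
      · rfl
      · exact absurd h2.symm h3
      · exact absurd h4.symm h2
      · rfl
      · rename_i h5
        subst h5
        simp [Finsupp.degree_single] at h1
        omega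
      · rfl
    rw [h]; simp [ev]

end Groth.Agent.CAlg48.PSEval
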