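import Mathlib.RingTheory.Smooth.Kaehler
import Mathlib.RingTheory.Smooth.Basic
import Mathlib.RingTheory.Kaehler.Polynomial
import Mathlib.RingTheory.Flat.EquationalCriterion
import Mathlib.RingTheory.Nilpotent.Basic

/-!
# Flat algebras with formally smooth reduction modulo a nilpotent ideal are formally smooth
-/

namespace Groth.Agent.CAlg48.FlatFS

open TensorProduct KaehlerDifferential

universe u v w

variable {R : Type v} {A : Type u} [CommRing R] [CommRing A] [Algebra R A]

/-- Flatness gives `J ∩ I P = I J` for the kernel `J` of a surjection `P → A`. -/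
lemma mem_map_mul_of_flat [Module.Flat R A] {P : Type w} [CommRing P] [Algebra R P]
    (ε : P →ₐ[R] A) (hε : Function.Surjective ε) (I : Ideal R) {x : P}
    (hx : x ∈ I.map (algebraMap R P)) (hx0 : ε x = 0) :
    x ∈ I.map (algebraMap R P) * RingHom.ker ε := by
  classical
  have hx' : x ∈ I • (⊤ : Submodule R P) := by
    rw [Ideal.smul_top_eq_map]; exact hx
  obtain ⟨n, c, p, hc, hsum⟩ : ∃ (n : ℕ) (c : Fin n → R) (p : Fin n → P),
      (∀ k, c k ∈ I) ∧ ∑ k, c k • p k = x := by
    refine Submodule.smul_induction_on hx' (fun r hr y _ => ⟨1, fun _ => r, fun _ => y,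
      fun _ => hr, by simp⟩) ?_
    rintro a b ⟨n, c, p, hc, rfl⟩ ⟨m, d, q, hd, rfl⟩
    refine ⟨n + m, Fin.append c d, Fin.append p q, fun k => ?_, by simp [Fin.sum_univ_add]⟩
    refine Fin.addCases (fun k => ?_) (fun k => ?_) k <;> simp [hc, hd]
  have h0 : ∑ k, c k • ε (p k) = 0 := by
    simpa [← hsum, map_sum] using hx0
  obtain ⟨l, a, y, hy, ha⟩ := Module.Flat.isTrivialRelation_of_sum_smul_eq_zero h0
  choose Y hY using fun j => hε (y j)
  have hker : ∀ k, p k - ∑ j, a k j • Y j ∈ RingHom.ker ε := fun k => by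
    rw [RingHom.mem_ker, map_sub, map_sum]
    simp [hY, hy k]
  have hkey : x = ∑ k, algebraMap R P (c k) * (p k - ∑ j, a k j • Y j) := by
    have h1 : ∑ k, c k • ∑ j, a k j • Y j = 0 := by
      simp_rw [Finset.smul_sum, smul_smul]
      rw [Finset.sum_comm]
      simp_rw [← Finset.sum_smul, ha, zero_smul, Finset.sum_const_zero]
    simp_rw [← Algebra.smul_def, smul_sub]
    rw [Finset.sum_sub_distrib, hsum, h1, sub_zero]
  rw [hkey]
  exact Ideal.sum_mem _ fun k _ => Ideal.mul_mem_mul (Ideal.mem_map_of_mem _ (hc k)) (hker k)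

set_option maxHeartbeats 1600000 in
/-- A flat algebra which is formally smooth modulo a nilpotent ideal of the base is formally
smooth. -/
theorem formallySmooth [Module.Flat R A] (I : Ideal R) (hI : IsNilpotent I)
    [Algebra.FormallySmooth (R ⧸ I) (A ⧸ I.map (algebraMap R A))] :
    Algebra.FormallySmooth R A := by
  classical
  let P := MvPolynomial A R
  let P' := MvPolynomial A (R ⧸ I)
  let A' := A ⧸ I.map (algebraMap R A)
  let ε : P →ₐ[R] A := MvPolynomial.aeval id
  let ε' : P' →ₐ[R ⧸ I] A' := MvPolynomial.aeval fun a => Ideal.Quotient.mk _ a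
  have hεX : ∀ a : A, ε (MvPolynomial.X a) = a := fun a => MvPolynomial.aeval_X _ a
  have hε : Function.Surjective ε := fun a => ⟨MvPolynomial.X a, hεX a⟩
  have hε' : Function.Surjective ε' := fun a => by
    obtain ⟨a, rfl⟩ := Ideal.Quotient.mk_surjective a
    exact ⟨MvPolynomial.X a, MvPolynomial.aeval_X _ a⟩
  let _ : Algebra P A := ε.toRingHom.toAlgebra
  let _ : Algebra P' A' := ε'.toRingHom.toAlgebra
  have : IsScalarTower R P A := .of_algebraMap_eq fun r => (ε.commutes r).symm
  have : IsScalarTower (R ⧸ I) P' A' := .of_algebraMap_eq fun r => (ε'.commutes r).symm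
  let J : Ideal P := RingHom.ker (algebraMap P A)
  let J' : Ideal P' := RingHom.ker (algebraMap P' A')
  let q : P →ₐ[R] P' := MvPolynomial.aeval fun a => MvPolynomial.X a
  have hq : ∀ f : P, ε' (q f) = Ideal.Quotient.mk _ (ε f) := by
    intro f
    induction f using MvPolynomial.induction_on with
    | C r =>
      rw [← MvPolynomial.algebraMap_eq, q.commutes, ε.commutes,
        IsScalarTower.algebraMap_apply R (R ⧸ I) P', ε'.commutes, ← IsScalarTower.algebraMap_apply]
      rfl
    | add f g hf hg => simp only [map_add, hf, hg]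
    | mul_X f a hf =>
      rw [map_mul, map_mul, map_mul, map_mul, hf, hεX, show q (MvPolynomial.X a) = MvPolynomial.X a
        from MvPolynomial.aeval_X _ a, show ε' (MvPolynomial.X a) = Ideal.Quotient.mk _ a
        from MvPolynomial.aeval_X _ a]
  have hqmap : q.toRingHom = MvPolynomial.map (Ideal.Quotient.mk I) := by
    refine MvPolynomial.ringHom_ext (fun r => ?_) fun a => ?_
    · change q (algebraMap R P r) = _
      rw [q.commutes, MvPolynomial.map_C]; rfl
    · change q (MvPolynomial.X a) = _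
      rw [MvPolynomial.map_X]; exact MvPolynomial.aeval_X _ a
  have hqs : Function.Surjective q := fun f => by
    obtain ⟨g, hg⟩ := MvPolynomial.map_surjective _ Ideal.Quotient.mk_surjective f
    exact ⟨g, (RingHom.congr_fun hqmap g).trans hg⟩
  have hqker : ∀ f : P, q f = 0 → f ∈ I.map (algebraMap R P) := fun f hf => by
    have h1 : MvPolynomial.map (Ideal.Quotient.mk I) f = 0 := (RingHom.congr_fun hqmap f).symm.trans hf
    rw [MvPolynomial.algebraMap_eq, MvPolynomial.mem_map_C_iff]
    intro m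
    have h2 := congrArg (MvPolynomial.coeff m) h1
    rw [MvPolynomial.coeff_map, MvPolynomial.coeff_zero] at h2
    exact Ideal.Quotient.eq_zero_iff_mem.mp h2
  have hJ : J ≤ J'.comap q := fun f hf => by
    change ε' (q f) = 0
    rw [hq, show ε f = 0 from hf, map_zero]
  let π : J.Cotangent →ₗ[R] J'.Cotangent := Ideal.mapCotangent J J' q hJ
  have hπ : ∀ (f : P) (m : J.Cotangent), π (f • m) = q f • π m := fun f m => by
    obtain ⟨⟨g, hg⟩, rfl⟩ := Ideal.toCotangent_surjective _ m
    rw [← map_smul, Ideal.mapCotangent_toCotangent, Ideal.mapCotangent_toCotangent, ← map_smul]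
    congr 1
    exact Subtype.ext (map_mul q f g)
  have hJJ' : ∀ g ∈ J', ∃ f ∈ J, q f = g := by
    intro g hg
    obtain ⟨f, rfl⟩ := hqs g
    have h1 : ε f ∈ I.map (algebraMap R A) :=
      Ideal.Quotient.eq_zero_iff_mem.mp ((hq f).symm.trans hg)
    rw [← ε.comp_algebraMap, ← Ideal.map_map] at h1
    obtain ⟨i, hi, hi'⟩ := (Ideal.mem_map_iff_of_surjective ε.toRingHom hε).mp h1
    refine ⟨f - i, ?_, ?_⟩
    · change ε (f - i) = 0
      rw [map_sub, show ε i = ε f from hi', sub_self]
    · have : q i = 0 := by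
        rw [← RingHom.mem_ker]
        refine Ideal.map_le_iff_le_comap.mpr (fun r hr => ?_) hi
        change q (algebraMap R P r) = 0
        rw [q.commutes, IsScalarTower.algebraMap_apply R (R ⧸ I) P',
          Ideal.Quotient.algebraMap_eq, Ideal.Quotient.eq_zero_iff_mem.mpr hr, map_zero]
      rw [map_sub, this, sub_zero]
  have hπs : Function.Surjective π := fun m => by
    obtain ⟨⟨g, hg⟩, rfl⟩ := Ideal.toCotangent_surjective _ m
    obtain ⟨f, hf, rfl⟩ := hJJ' g hg
    exact ⟨J.toCotangent ⟨f, hf⟩, rfl⟩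
  obtain ⟨l', hl'⟩ := (Algebra.FormallySmooth.iff_split_injection (R := R ⧸ I) (P := P') (A := A')
    hε').mp inferInstance
  let r' : Ω[P'⁄R ⧸ I] →ₗ[P'] J'.Cotangent := l' ∘ₗ TensorProduct.mk P' A' _ 1
  choose m hm using fun a : A => hπs (r' (D (R ⧸ I) P' (MvPolynomial.X a)))
  let r : Ω[P⁄R] →ₗ[P] J.Cotangent := (mvPolynomialBasis R A).constr P m
  have hr : ∀ f : P, π (r (D R P f)) = r' (D (R ⧸ I) P' (q f)) := by
    intro f
    induction f using MvPolynomial.induction_on with
    | C c =>
      rw [← MvPolynomial.algebraMap_eq, Derivation.map_algebraMap, q.commutes,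
        IsScalarTower.algebraMap_apply R (R ⧸ I) P', Derivation.map_algebraMap]
      simp
    | add f g hf hg => simp only [map_add, hf, hg]
    | mul_X f a hf =>
      have ha : r (D R P (MvPolynomial.X a)) = m a := by
        rw [← mvPolynomialBasis_apply]; exact (mvPolynomialBasis R A).constr_basis P m a
      rw [Derivation.leibniz, map_add, map_smul, map_smul, map_add, hπ, hπ, ha, hm, hf, map_mul,
        Derivation.leibniz, map_add, map_smul, map_smul,
        show q (MvPolynomial.X a) = MvPolynomial.X a from MvPolynomial.aeval_X _ a]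
  let IP := I.map (algebraMap R P)
  have hπker : ∀ x : J.Cotangent, π x = 0 → x ∈ IP • (⊤ : Submodule P J.Cotangent) := by
    intro x hx
    obtain ⟨⟨f, hf⟩, rfl⟩ := Ideal.toCotangent_surjective _ x
    rw [Ideal.mapCotangent_toCotangent, Ideal.toCotangent_eq_zero] at hx
    have hmap : J.map q = J' := le_antisymm (Ideal.map_le_iff_le_comap.mpr hJ) fun g hg => by
      obtain ⟨f, hf, rfl⟩ := hJJ' g hg
      exact Ideal.mem_map_of_mem _ hf
    change q f ∈ J' ^ 2 at hx
    rw [← hmap, ← Ideal.map_pow, Ideal.mem_map_iff_of_surjective q hqs] at hx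
    obtain ⟨g, hg, hgf⟩ := hx
    have hgJ : g ∈ J := Ideal.pow_le_self two_ne_zero hg
    have h1 : f - g ∈ I.map (algebraMap R P) * RingHom.ker ε :=
      mem_map_mul_of_flat ε hε I (hqker _ (by rw [map_sub, hgf, sub_self]))
        (by rw [map_sub, show ε f = 0 from hf, show ε g = 0 from hgJ, sub_self])
    have h2 : J.toCotangent ⟨f, hf⟩ = J.toCotangent ⟨f - g, sub_mem hf hgJ⟩ :=
      (Ideal.toCotangent_eq J).mpr (by rw [sub_sub_cancel]; exact hg)
    rw [h2]
    have key : ∀ z ∈ IP * J, ∃ hz : z ∈ J,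
        J.toCotangent ⟨z, hz⟩ ∈ IP • (⊤ : Submodule P J.Cotangent) := by
      intro z hz
      refine Submodule.mul_induction_on hz (fun p hp j hj => ⟨J.mul_mem_left p hj, ?_⟩) ?_
      · rw [show (⟨p * j, J.mul_mem_left p hj⟩ : J) = p • ⟨j, hj⟩ from rfl, map_smul]
        exact Submodule.smul_mem_smul hp trivial
      · rintro a b ⟨ha, ha'⟩ ⟨hb, hb'⟩
        refine ⟨add_mem ha hb, ?_⟩
        rw [show (⟨a + b, add_mem ha hb⟩ : J) = ⟨a, ha⟩ + ⟨b, hb⟩ from rfl, map_add]
        exact add_mem ha' hb'
    obtain ⟨_, h3⟩ := key (f - g) h1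
    exact h3
  let d := kerCotangentToTensor R P A
  let Φ : J → Ω[P⁄R] := fun f => D R P f.1
  have hlin : ∀ x y : J, J.toCotangent x = J.toCotangent y → r (Φ x) = r (Φ y) := by
    intro x y hxy
    rw [← sub_eq_zero, ← map_sub, ← map_sub]
    have h2 : x.1 - y.1 ∈ J ^ 2 := (Ideal.toCotangent_eq J).mp hxy
    rw [sq] at h2
    refine Submodule.mul_induction_on h2 (fun a ha b hb => ?_) fun a b ha hb => by
      rw [map_add, map_add, ha, hb, add_zero]
    rw [Derivation.leibniz, map_add, map_smul, map_smul,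
      Ideal.Cotangent.smul_eq_zero_of_mem ha, Ideal.Cotangent.smul_eq_zero_of_mem hb, add_zero]
  choose σ hσ using hε
  have hJkill : ∀ {p p' : P}, ε p = ε p' → ∀ x : J.Cotangent, p • x = p' • x := fun {p p'} h x => by
    rw [← sub_eq_zero, ← sub_smul]
    exact Ideal.Cotangent.smul_eq_zero_of_mem (show ε (p - p') = 0 by rw [map_sub, h, sub_self]) x
  let L : A ⊗[P] Ω[P⁄R] →ₗ[P] J.Cotangent := TensorProduct.lift (LinearMap.mk₂ P
    (fun a ω => σ a • r ω)
    (fun a b ω => by
      rw [hJkill (p := σ (a + b)) (p' := σ a + σ b) (by simp [hσ]) (r ω), add_smul])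
    (fun p a ω => by
      change σ (p • a) • r ω = p • σ a • r ω
      rw [smul_smul]
      exact hJkill (by rw [hσ, map_mul, hσ]; rfl) _)
    (fun a ω ω' => by rw [map_add, smul_add])
    (fun p a ω => by rw [map_smul, smul_comm]))
  let N : Module.End P J.Cotangent := LinearMap.id - L ∘ₗ d
  have hN : ∀ x, N x ∈ IP • (⊤ : Submodule P J.Cotangent) := by
    intro x
    refine hπker _ ?_
    obtain ⟨⟨f, hf⟩, rfl⟩ := Ideal.toCotangent_surjective _ x
    have h1 : L (d (J.toCotangent ⟨f, hf⟩)) = r (D R P f) := by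
      rw [kerCotangentToTensor_toCotangent]
      change σ 1 • r (D R P f) = _
      rw [hJkill (p := σ 1) (p' := 1) (by rw [hσ, map_one]), one_smul]
    have hf' : q f ∈ J' := hJ hf
    have h2 : r' (D (R ⧸ I) P' (q f)) = J'.toCotangent ⟨q f, hf'⟩ := by
      have := LinearMap.congr_fun hl' (J'.toCotangent ⟨q f, hf'⟩)
      rw [LinearMap.comp_apply, kerCotangentToTensor_toCotangent] at this
      exact this
    simp only [N, LinearMap.sub_apply, LinearMap.id_apply, LinearMap.comp_apply]
    rw [map_sub, h1, hr, h2, Ideal.mapCotangent_toCotangent, sub_self]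
  have hNnil : IsNilpotent N := by
    obtain ⟨k, hk⟩ := hI
    have hle : ∀ n : ℕ, ∀ x, (N ^ n) x ∈ IP ^ n • (⊤ : Submodule P J.Cotangent) := by
      intro n
      induction n with
      | zero => simp
      | succ n ih =>
        intro x
        rw [pow_succ' N n, Module.End.mul_apply, pow_succ IP n]
        refine Submodule.smul_induction_on (ih x) (fun p hp y _ => ?_) fun a b ha hb => by
          rw [map_add]; exact add_mem ha hb
        rw [map_smul, Submodule.mul_smul]
        exact Submodule.smul_mem_smul hp (hN y)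
    refine ⟨k, LinearMap.ext fun x => ?_⟩
    have := hle k x
    rw [← Ideal.map_pow, hk, Ideal.zero_eq_bot, Ideal.map_bot, Submodule.bot_smul] at this
    simpa using this
  obtain ⟨u, hu⟩ := hNnil.isUnit_one_sub
  have hudL : (u : Module.End P J.Cotangent) = L ∘ₗ d := by
    rw [hu]; exact sub_sub_cancel _ _
  refine (Algebra.FormallySmooth.iff_split_injection (R := R) (P := P) (A := A)
    (fun a => ⟨σ a, hσ a⟩)).mpr ⟨(↑u⁻¹ : Module.End P J.Cotangent) ∘ₗ L, ?_⟩
  rw [LinearMap.comp_assoc, ← hudL]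
  exact u.inv_mul

end Groth.Agent.CAlg48.FlatFS
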