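import Groth.Agent.FieldSep.MacLane
import Mathlib.RingTheory.Flat.Tensor
import Mathlib.Data.ZMod.Basic
import Mathlib.RingTheory.Unramified.Basic
import Mathlib.Algebra.Field.ULift

/-!
# Fields over prime fields are formally smooth
-/

namespace Groth.Agent.CAlg48.PrimeField

universe v u

/-- A field is formally smooth over any field which is a quotient of `ℤ`. -/
theorem formallySmooth_of_surjective {F : Type v} [Field F]
    (hF : Function.Surjective (Int.castRingHom F)) (K : Type u) [Field K] [Algebra F K] :
    Algebra.FormallySmooth F K := by
  let F' : Subfield K := (algebraMap F K).fieldRange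
  let j : F →+* F' := (algebraMap F K).rangeRestrictField
  let _ : Algebra F F' := j.toAlgebra
  have : IsScalarTower F F' K := IsScalarTower.of_algebraMap_eq' rfl
  have hj : Function.Bijective j :=
    ⟨j.injective, fun y => by obtain ⟨x, hx⟩ := y.2; exact ⟨x, Subtype.ext hx⟩⟩
  have hsub : Subsingleton Ω[F'⁄ℤ] := by
    have : Algebra.FormallyUnramified ℤ F' :=
      Algebra.FormallyUnramified.of_surjective (Algebra.ofId ℤ F') fun x => by
        obtain ⟨y, rfl⟩ := hj.2 x
        obtain ⟨z, rfl⟩ := hF y
        exact ⟨z, by simp [Algebra.ofId_apply]⟩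
    infer_instance
  have : Algebra.FormallySmooth F' K := by
    rw [FieldSep.MacLane.formallySmooth_iff]
    apply FieldSep.MacLane.isGeometricallyReduced_of_injective
    exact Function.injective_of_subsingleton _
  have : Algebra.FormallySmooth F F' :=
    Algebra.FormallySmooth.of_equiv (AlgEquiv.ofBijective (Algebra.ofId F F') hj)
  exact Algebra.FormallySmooth.comp F F' K

end Groth.Agent.CAlg48.PrimeField
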