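import Mathlib.RingTheory.AdicCompletion.Basic

/-!
# Adic completeness only depends on the topology of the ideal
-/

namespace Groth.Agent.CAlg48.AdicPow

variable {R : Type*} [CommRing R] {M : Type*} [AddCommGroup M] [Module R M]

lemma pow_mul_le {I J : Ideal R} {d : ℕ} (hJ : J ^ d ≤ I) (n : ℕ) :
    (J ^ (d * n) • ⊤ : Submodule R M) ≤ I ^ n • ⊤ :=
  Submodule.smul_mono_left (by rw [pow_mul]; exact Ideal.pow_right_mono hJ n)

theorem isAdicComplete_of_pow_le {I J : Ideal R} {c d : ℕ} (hc : 0 < c) (hd : 0 < d)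
    (hI : I ^ c ≤ J) (hJ : J ^ d ≤ I) [IsAdicComplete I M] : IsAdicComplete J M where
  haus' x hx := IsHausdorff.haus (I := I) inferInstance x fun n =>
    SModEq.mono (pow_mul_le hJ n) (hx (d * n))
  prec' f hf := by
    obtain ⟨L, hL⟩ := IsPrecomplete.prec (I := I) inferInstance (f := fun n => f (d * n))
      fun {m n} hmn => SModEq.mono (pow_mul_le hJ m) (hf (Nat.mul_le_mul_left d hmn))
    refine ⟨L, fun n => ?_⟩
    have h1 := SModEq.mono (pow_mul_le (M := M) hI n) (hL (c * n))
    exact (hf (Nat.le_trans (Nat.le_mul_of_pos_left n hc) (Nat.le_mul_of_pos_left _ hd))).trans h1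

end Groth.Agent.CAlg48.AdicPow
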