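import Mathlib.RingTheory.Nilpotent.GeometricallyReduced
import Mathlib.RingTheory.Smooth.Field
import Mathlib.FieldTheory.SeparablyGenerated
import Mathlib.FieldTheory.IsAlgClosed.AlgebraicClosure
import Mathlib.Algebra.CharP.Algebra
import Mathlib.FieldTheory.IsPerfectClosure
import Mathlib.RingTheory.EssentialFiniteness
import Mathlib.RingTheory.Flat.Basic

/-!
# Finitely generated geometrically reduced field extensions are formally smooth
-/

namespace Groth.Agent.CAlg48.SepGen

open TensorProduct

universe u

variable (k K : Type u) [Field k] [Field K] [Algebra k K]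

lemma linearIndepOn_pow [Algebra.IsGeometricallyReduced k K] (p : ℕ) [Fact p.Prime] [CharP k p]
    (s : Finset K) (hs : LinearIndepOn k (_root_.id : K → K) (s : Set K)) :
    LinearIndepOn k (fun x : K => x ^ p) (s : Set K) := by
  classical
  let E := AlgebraicClosure k
  have : CharP E p := charP_of_injective_algebraMap (algebraMap k E).injective p
  have : CharP (E ⊗[k] K) p := charP_of_injective_algebraMap
    (Algebra.TensorProduct.includeLeft_injective (R := k) (S := E) (A := E) (B := K)
      (FaithfulSMul.algebraMap_injective k K)) p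
  have : IsReduced (E ⊗[k] K) := inferInstance
  rw [LinearIndepOn, Fintype.linearIndependent_iff]
  intro c hc
  have hr : ∀ i, ∃ d : E, d ^ p = algebraMap k E (c i) := fun i =>
    IsAlgClosed.exists_pow_nat_eq _ (Fact.out (p := p.Prime)).pos
  choose d hd using hr
  have hz : ∑ i : s, d i ⊗ₜ[k] (i : K) = 0 := by
    refine IsReduced.eq_zero _ ⟨p, ?_⟩
    rw [sum_pow_char]
    simp only [Algebra.TensorProduct.tmul_pow, hd, Algebra.algebraMap_eq_smul_one, smul_tmul,
      ← tmul_sum]
    exact (congrArg (fun z => (1 : E) ⊗ₜ[k] z) hc).trans (tmul_zero K 1)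
  intro i
  have hli : LinearIndependent E (fun x : s => (1 : E) ⊗ₜ[k] (x : K)) := Module.Flat.linearIndependent_one_tmul hs
  have h0 : d i = 0 := Fintype.linearIndependent_iff.mp hli d (by
    simpa [smul_tmul'] using hz) i
  exact (algebraMap k E).injective (by
    rw [← hd, h0, zero_pow (Fact.out (p := p.Prime)).ne_zero, map_zero])

theorem exists_separating [Algebra.EssFiniteType k K] [Algebra.IsGeometricallyReduced k K] :
    ∃ s : Finset K, IsTranscendenceBasis k ((↑) : s → K) ∧
      Algebra.IsSeparable (IntermediateField.adjoin k (s : Set K)) K := by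
  obtain _ | ⟨p, hp, hpk⟩ := CharP.exists' k
  · exact exists_isTranscendenceBasis_and_isSeparable_of_perfectField k K
  have : ExpChar k p := .prime hp.out
  exact exists_isTranscendenceBasis_and_isSeparable_of_linearIndepOn_pow_of_essFiniteType
    p hp.out (linearIndepOn_pow k K p)

theorem formallySmooth [Algebra.EssFiniteType k K] [Algebra.IsGeometricallyReduced k K] :
    Algebra.FormallySmooth k K := by
  obtain ⟨s, hs, H⟩ := exists_separating k K
  have : Algebra.IsSeparable (↥(IntermediateField.adjoin k (Set.range ((↑) : s → K)))) K := by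
    convert! H <;> simp
  exact .of_algebraicIndependent_of_isSeparable hs.1

end Groth.Agent.CAlg48.SepGen
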