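import Groth.Agent.FieldSep.MacLane
import Groth.Agent.CAlg48.PrimeField
import Mathlib.Algebra.Algebra.Rat
import Mathlib.Algebra.Algebra.ZMod
import Mathlib.Algebra.Field.ZMod
import Mathlib.RingTheory.AdicCompletion.RingHom
import Mathlib.RingTheory.LocalRing.ResidueField.Basic
import Mathlib.RingTheory.Smooth.Basic

/-!
# Coefficient fields of complete local rings
-/

namespace Groth.Agent.CAlg48.CoeffField

universe u v

open IsLocalRing

/-- Fields of characteristic zero are formally smooth over `ℚ`. -/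
theorem formallySmooth_rat (K : Type u) [Field K] [Algebra ℚ K] : Algebra.FormallySmooth ℚ K := by
  have : CharZero K := charZero_of_injective_algebraMap (algebraMap ℚ K).injective
  let F' : Subfield K := (algebraMap ℚ K).fieldRange
  have : CharZero F' := charZero_of_injective_ringHom (R := ℚ) (algebraMap ℚ K).rangeRestrictField.injective
  have : IsScalarTower ℚ F' K :=
    ⟨fun a b c => by simp [Subfield.smul_def, Rat.smul_def, Algebra.smul_def, mul_assoc]⟩
  have : Algebra.FormallySmooth F' K := by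
    rw [FieldSep.MacLane.formallySmooth_iff]
    exact FieldSep.MacLane.isGeometricallyReduced_of_charZero K
  have hj : Function.Bijective (algebraMap ℚ F') := by
    refine ⟨(algebraMap ℚ F').injective, fun y => ?_⟩
    obtain ⟨x, hx⟩ := y.2
    refine ⟨x, Subtype.ext ?_⟩
    rw [← hx]
    exact (IsScalarTower.algebraMap_apply ℚ F' K x).symm
  have : Algebra.FormallySmooth ℚ F' :=
    Algebra.FormallySmooth.of_equiv (AlgEquiv.ofBijective (Algebra.ofId ℚ F') hj)
  exact Algebra.FormallySmooth.comp ℚ F' K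

/-- If the residue field of a complete local ring `R` is formally smooth over `k₀`, the residue map
has a `k₀`-linear section. -/
theorem exists_section (R : Type u) [CommRing R] [IsLocalRing R] [IsAdicComplete (maximalIdeal R) R]
    (k₀ : Type v) [CommRing k₀] [Algebra k₀ R] [Algebra.FormallySmooth k₀ (ResidueField R)] :
    ∃ s : ResidueField R →ₐ[k₀] R, ∀ x, residue R (s x) = x := by
  classical
  set m := maximalIdeal R
  let π : ∀ n : ℕ, (R ⧸ m ^ (n + 2)) →ₐ[k₀] R ⧸ m ^ (n + 1) := fun n =>
    Ideal.Quotient.factorₐ k₀ (Ideal.pow_le_pow_right (I := m) (Nat.le_succ (n + 1)))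
  have hπ : ∀ n, Function.Surjective (π n) := fun n =>
    Ideal.Quotient.factor_surjective (Ideal.pow_le_pow_right (I := m) (Nat.le_succ (n + 1)))
  have hπn : ∀ n, IsNilpotent (RingHom.ker (π n : (R ⧸ m ^ (n + 2)) →+* R ⧸ m ^ (n + 1))) := by
    intro n
    refine ⟨2, eq_bot_iff.mpr ?_⟩
    have hk : RingHom.ker (π n : (R ⧸ m ^ (n + 2)) →+* R ⧸ m ^ (n + 1)) =
        (m ^ (n + 1)).map (Ideal.Quotient.mk (m ^ (n + 2))) := by
      refine le_antisymm ?_ ?_
      · intro x hx
        obtain ⟨r, rfl⟩ := Ideal.Quotient.mk_surjective x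
        exact Ideal.mem_map_of_mem _ (Ideal.Quotient.eq_zero_iff_mem.mp hx)
      · rw [Ideal.map_le_iff_le_comap]
        exact fun r hr => Ideal.Quotient.eq_zero_iff_mem.mpr hr
    rw [hk, ← Ideal.map_pow, ← pow_mul]
    refine le_of_eq_of_le ?_ le_rfl
    rw [Ideal.map_eq_bot_iff_le_ker, Ideal.mk_ker]
    exact Ideal.pow_le_pow_right (by omega)
  let e : ResidueField R →ₐ[k₀] R ⧸ m ^ (0 + 1) :=
    Ideal.Quotient.factorₐ k₀ (le_of_eq (by rw [zero_add, pow_one]))
  let u : ∀ n : ℕ, ResidueField R →ₐ[k₀] R ⧸ m ^ (n + 1) :=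
    fun n => Nat.rec (motive := fun n => ResidueField R →ₐ[k₀] R ⧸ m ^ (n + 1)) e
      (fun n un => Algebra.FormallySmooth.liftOfSurjective un (π n) (hπ n) (hπn n)) n
  have hu : ∀ n, (π n).comp (u (n + 1)) = u n := fun n =>
    Algebra.FormallySmooth.comp_liftOfSurjective _ _ _ _
  let G : ∀ n, ResidueField R →ₐ[k₀] R ⧸ m ^ n := fun n =>
    (Ideal.Quotient.factorₐ k₀ (Ideal.pow_le_pow_right n.le_succ)).comp (u n)
  have hG : ∀ {a b : ℕ} (hle : a ≤ b),
      (Ideal.Quotient.factorₐ k₀ (Ideal.pow_le_pow_right hle)).comp (G b) = G a := by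
    intro a b hle
    induction hle with
    | refl =>
      ext x
      obtain ⟨r, hr⟩ := Ideal.Quotient.mk_surjective (G a x)
      simp [← hr]
    | @step b hle ih =>
      rw [← ih]
      simp only [G, ← hu b]
      ext x
      obtain ⟨r, hr⟩ := Ideal.Quotient.mk_surjective (u (b + 1) x)
      simp [π, ← hr]
  refine ⟨IsAdicComplete.liftAlgHom m G hG, fun x => ?_⟩
  have h1 := IsAdicComplete.mk_liftAlgHom m G hG 1 x
  obtain ⟨r, rfl⟩ := residue_surjective x
  rw [← hG (show 1 ≤ 1 from le_rfl)] at h1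
  have h2 : G 1 (residue R r) = Ideal.Quotient.mk (m ^ 1) r := by
    have := AlgHom.congr_fun (hu 0) (residue R r)
    obtain ⟨t, ht⟩ := Ideal.Quotient.mk_surjective (u 1 (residue R r))
    simp only [G, AlgHom.comp_apply, ← ht] at this ⊢
    exact this
  simp only [AlgHom.comp_apply, h2] at h1
  have h3 : Ideal.Quotient.mk (m ^ 1) (IsAdicComplete.liftAlgHom m G hG (residue R r)) =
      Ideal.Quotient.mk (m ^ 1) r := h1
  rw [Ideal.Quotient.eq, pow_one] at h3
  exact Ideal.Quotient.eq.mpr h3

/-- A complete local ring containing a field has a coefficient field. -/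
theorem exists_section_of_equichar (R : Type u) [CommRing R] [IsLocalRing R]
    [IsAdicComplete (maximalIdeal R) R] (k₀ : Type v) [Field k₀] [Algebra k₀ R] :
    ∃ s : ResidueField R →+* R, ∀ x, residue R (s x) = x := by
  obtain ⟨p, hp⟩ := CharP.exists k₀
  rcases CharP.char_is_prime_or_zero k₀ p with hpr | rfl
  · haveI := Fact.mk hpr
    haveI : CharP R p := (RingHom.charP_iff (algebraMap k₀ R) (algebraMap k₀ R).injective p).mp hp
    letI : Algebra (ZMod p) R := _root_.ZMod.algebra R p
    haveI := CAlg48.PrimeField.formallySmooth_of_surjective (F := ZMod p)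
      (ZMod.ringHom_surjective _) (ResidueField R)
    obtain ⟨s, hs⟩ := exists_section R (ZMod p)
    exact ⟨s.toRingHom, hs⟩
  · haveI : CharZero k₀ := CharP.charP_to_charZero k₀
    letI : Algebra ℚ R := ((algebraMap k₀ R).comp (algebraMap ℚ k₀)).toAlgebra
    haveI := formallySmooth_rat (ResidueField R)
    obtain ⟨s, hs⟩ := exists_section R ℚ
    exact ⟨s.toRingHom, hs⟩

end Groth.Agent.CAlg48.CoeffField
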