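import Mathlib.RingTheory.Flat.FaithfullyFlat.Algebra
import Mathlib.RingTheory.Ideal.MinimalPrime.Basic
import Mathlib.RingTheory.Noetherian.Basic
import Mathlib

/-!
# Faithfully flat descent basics
-/

namespace Groth.Agent.CAlg48.FFDescent

variable (R S : Type*) [CommRing R] [CommRing S] [Algebra R S] [Module.FaithfullyFlat R S]

theorem isNoetherianRing [IsNoetherianRing S] : IsNoetherianRing R := by
  have hmono : StrictMono (Ideal.map (algebraMap R S) : Ideal R → Ideal S) :=
    (Monotone.strictMono_of_injective (fun _ _ h => Ideal.map_mono h) fun I J h => by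
      rw [← Ideal.comap_map_eq_self_of_faithfullyFlat (B := S) I, h, Ideal.comap_map_eq_self_of_faithfullyFlat])
  have : WellFoundedGT (Ideal S) := inferInstance
  have : WellFoundedGT (Ideal R) := hmono.wellFoundedGT
  exact isNoetherianRing_iff.mpr (isNoetherian_iff'.mpr this)

variable {R}

/-- A prime over `p`, minimal among those over `p`. -/
theorem exists_minimal_over (p : Ideal R) [p.IsPrime] :
    ∃ q : Ideal S, q.IsPrime ∧ q.comap (algebraMap R S) = p ∧
      ∀ q' : Ideal S, q'.IsPrime → q' ≤ q → q'.comap (algebraMap R S) = p → q' = q := by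
  obtain ⟨P, hP⟩ := PrimeSpectrum.comap_surjective_of_faithfullyFlat (B := S) (⟨p, inferInstance⟩ : PrimeSpectrum R)
  have hP' : P.asIdeal.comap (algebraMap R S) = p := congrArg PrimeSpectrum.asIdeal hP
  obtain ⟨q, hq, hqP⟩ := Ideal.exists_minimalPrimes_le
    (show p.map (algebraMap R S) ≤ P.asIdeal from Ideal.map_le_iff_le_comap.2 hP'.ge)
  have hqp : q.comap (algebraMap R S) = p :=
    le_antisymm ((Ideal.comap_mono hqP).trans hP'.le) (Ideal.map_le_iff_le_comap.1 hq.1.2)
  exact ⟨q, hq.1.1, hqp, fun q' h1 h2 h3 => le_antisymm h2 (hq.2 ⟨h1, Ideal.map_le_iff_le_comap.2 h3.ge⟩ h2)⟩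

end Groth.Agent.CAlg48.FFDescent
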