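import Groth.Prelude.Def_CAlgX
import Mathlib.RingTheory.MvPowerSeries.Equiv
import Mathlib.RingTheory.AdicCompletion.Completeness

/-!
# Adic formal smoothness of power series rings over an adically formally smooth ring
-/

namespace Groth.Agent.CAlg48.PowerSeriesAFS

universe u

variable {σ : Type} [Finite σ]

lemma sub_truncTotal_mem {C : Type u} [CommRing C] (φ : MvPowerSeries σ C) (n : ℕ) :
    φ - ((MvPowerSeries.truncTotal n φ : MvPolynomial σ C) : MvPowerSeries σ C) ∈
      Ideal.span (Set.range (MvPowerSeries.X : σ → MvPowerSeries σ C)) ^ n := by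
  classical
  set ψ := φ - ((MvPowerSeries.truncTotal n φ : MvPolynomial σ C) : MvPowerSeries σ C)
  let Φ := MvPowerSeries.toAdicCompletionAlgEquiv σ C
  have hv : (Φ ψ).val n = 0 := by
    show Ideal.Quotient.mk _ (MvPowerSeries.truncTotal n ψ) = 0
    rw [Ideal.Quotient.eq_zero_iff_mem, Ideal.smul_eq_mul, Ideal.mul_top,
      MvPolynomial.mem_pow_idealOfVars_iff']
    intro x hx
    rw [MvPowerSeries.coeff_truncTotal _ hx, map_sub, MvPolynomial.coeff_coe,
      MvPowerSeries.coeff_truncTotal _ hx, sub_self]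
  have hmem : Φ ψ ∈ (MvPolynomial.idealOfVars σ C ^ n • ⊤ : Submodule (MvPolynomial σ C)
      (AdicCompletion (MvPolynomial.idealOfVars σ C) (MvPolynomial σ C))) := by
    rw [AdicCompletion.pow_smul_top_eq_ker_eval (MvPolynomial.idealOfVars_fg σ C)]
    exact hv
  have hmem' := Submodule.mem_map_of_mem (f := Φ.symm.toLinearMap) hmem
  rw [Submodule.map_smul''] at hmem'
  have hψ : ψ ∈ (MvPolynomial.idealOfVars σ C ^ n • ⊤ :
      Submodule (MvPolynomial σ C) (MvPowerSeries σ C)) := by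
    have h3 : Φ.symm.toLinearMap (Φ ψ) = ψ := Φ.symm_apply_apply ψ
    rw [h3] at hmem'
    exact Submodule.smul_mono le_rfl le_top hmem'
  rw [Ideal.smul_top_eq_map, Submodule.restrictScalars_mem, Ideal.map_pow] at hψ
  refine Ideal.pow_right_mono ?_ n hψ
  rw [MvPolynomial.idealOfVars, Ideal.map_span, Ideal.span_le]
  rintro _ ⟨_, ⟨i, rfl⟩, rfl⟩
  refine Ideal.subset_span ⟨i, ?_⟩
  simp [MvPowerSeries.algebraMap_apply']

theorem isAdicFormallySmooth {R C : Type u} [CommRing R] [CommRing C] [Algebra R C]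
    (𝔫 : Ideal C) (hC : CAlgX.IsAdicFormallySmooth R C 𝔫) (M : Ideal (MvPowerSeries σ C))
    (hM : ∀ i, MvPowerSeries.X i ∈ M) (hMC : 𝔫.map (algebraMap C (MvPowerSeries σ C)) ≤ M) :
    CAlgX.IsAdicFormallySmooth R (MvPowerSeries σ C) M := by
  classical
  intro A _ _ J hJ ψ hψ
  obtain ⟨k, hk⟩ := hψ
  obtain ⟨c, hc⟩ := hC A J hJ (ψ.comp (IsScalarTower.toAlgHom R C (MvPowerSeries σ C))) ⟨k, fun x hx => hk _ (Ideal.pow_right_mono hMC k (by
    rw [← Ideal.map_pow]; exact Ideal.mem_map_of_mem _ hx))⟩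
  let _ : Algebra C A := c.toRingHom.toAlgebra
  have : IsScalarTower R C A := .of_algebraMap_eq fun r => (c.commutes r).symm
  choose a ha using fun i => Ideal.Quotient.mk_surjective (ψ (MvPowerSeries.X i))
  let ev : MvPolynomial σ C →ₐ[C] A := MvPolynomial.aeval a
  have hev : ∀ p : MvPolynomial σ C, Ideal.Quotient.mk J (ev p) = ψ (p : MvPowerSeries σ C) := by
    intro p
    induction p using MvPolynomial.induction_on with
    | C r =>
      rw [← MvPolynomial.algebraMap_eq, ev.commutes, MvPolynomial.algebraMap_eq, MvPolynomial.coe_C]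
      exact AlgHom.congr_fun hc r
    | add p q hp hq => simp only [map_add, hp, hq, MvPolynomial.coe_add]
    | mul_X p i hp =>
      rw [map_mul, map_mul, hp, MvPolynomial.coe_mul, map_mul, MvPolynomial.coe_X,
        show ev (MvPolynomial.X i) = a i from MvPolynomial.aeval_X _ i, ha]
  have hmapX : (MvPolynomial.idealOfVars σ C).map ev ^ k ≤ J := by
    rw [← Ideal.map_pow, Ideal.map_le_iff_le_comap]
    intro p hp
    rw [Ideal.mem_comap, ← Ideal.Quotient.eq_zero_iff_mem, hev]
    refine hk _ ?_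
    have : (MvPolynomial.idealOfVars σ C).map (MvPolynomial.coeToMvPowerSeries.ringHom) ≤ M := by
      rw [MvPolynomial.idealOfVars, Ideal.map_span, Ideal.span_le]
      rintro _ ⟨_, ⟨i, rfl⟩, rfl⟩
      simpa using hM i
    refine Ideal.pow_right_mono this k ?_
    rw [← Ideal.map_pow]
    exact Ideal.mem_map_of_mem MvPolynomial.coeToMvPowerSeries.ringHom hp
  have hN : MvPolynomial.idealOfVars σ C ^ (k * 2) ≤ RingHom.ker ev := by
    intro p hp
    have h1 := Ideal.mem_map_of_mem ev hp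
    rw [Ideal.map_pow, pow_mul] at h1
    have h2 := Ideal.pow_right_mono hmapX 2 h1
    rw [hJ] at h2
    simpa using h2
  let χ₀ : MvPowerSeries σ C →ₐ[C] A := (Ideal.Quotient.liftₐ _ ev hN).comp
    ((MvPowerSeries.truncTotalAlgHom σ C (k * 2)).restrictScalars C)
  refine ⟨χ₀.restrictScalars R, AlgHom.ext fun φ => ?_⟩
  change Ideal.Quotient.mk J (ev (MvPowerSeries.truncTotal (k * 2) φ)) = ψ φ
  rw [hev]
  refine (sub_eq_zero.mp ?_).symm
  rw [← map_sub]
  refine hk _ (Ideal.pow_le_pow_right (Nat.le_mul_of_pos_right k two_pos) ?_)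
  exact Ideal.pow_right_mono (Ideal.span_le.mpr (by rintro _ ⟨i, rfl⟩; exact hM i)) _
    (sub_truncTotal_mem φ (k * 2))

end Groth.Agent.CAlg48.PowerSeriesAFS
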