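import Mathlib
import Groth.Prelude.Def_CAlgX
import Groth.Agent.AdicFS.Basic

/-!
Adic formal smoothness and completion.
-/

set_option autoImplicit false
set_option linter.style.haveILetI false

universe u

namespace Groth.Agent.CAlg48.CompletionFS

open Groth.Agent.AdicFS.Basic

theorem exists_sub_mem {S : Type u} [CommRing S] (I : Ideal S) (hI : I.FG) (k : ℕ)
    (x : AdicCompletion I S) :
    ∃ b, x - algebraMap S (AdicCompletion I S) b ∈ (I ^ k).map (algebraMap S (AdicCompletion I S)) := by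
  obtain ⟨b, hb⟩ := Submodule.mkQ_surjective _ (x.val k)
  refine ⟨b, ?_⟩
  rw [← Submodule.restrictScalars_mem S, ← Ideal.smul_top_eq_map,
      AdicCompletion.pow_smul_top_eq_ker_eval hI, LinearMap.mem_ker, map_sub, sub_eq_zero]
  exact hb.symm

theorem mem_of_algebraMap_mem {S : Type u} [CommRing S] (I : Ideal S) (hI : I.FG) (k : ℕ) (b : S)
    (hb : algebraMap S (AdicCompletion I S) b ∈ (I ^ k).map (algebraMap S (AdicCompletion I S))) :
    b ∈ I ^ k := by
  rw [← Submodule.restrictScalars_mem S, ← Ideal.smul_top_eq_map,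
      AdicCompletion.pow_smul_top_eq_ker_eval hI, LinearMap.mem_ker] at hb
  have hb' : (Submodule.mkQ (I ^ k • ⊤ : Submodule S S)) b = 0 := hb
  rw [Submodule.mkQ_apply, Submodule.Quotient.mk_eq_zero, smul_eq_mul, Ideal.mul_top] at hb'
  exact hb'

variable {R S T : Type u} [CommRing R] [CommRing S] [CommRing T] [Algebra R S] [Algebra R T]

/-- Adic formal smoothness only depends on the truncations. -/
theorem iff_of_truncations (i : S →ₐ[R] T) (𝔫 : Ideal S)
    (hsurj : ∀ k t, ∃ s, t - i s ∈ (𝔫 ^ k).map i.toRingHom)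
    (hinj : ∀ k s, i s ∈ (𝔫 ^ k).map i.toRingHom → s ∈ 𝔫 ^ k) :
    CAlgX.IsAdicFormallySmooth R S 𝔫 ↔ CAlgX.IsAdicFormallySmooth R T (𝔫.map i.toRingHom) := by
  let q : ∀ k, (S ⧸ 𝔫 ^ k) ≃ₐ[R] T ⧸ (𝔫 ^ k).map i.toRingHom := fun k =>
    AlgEquiv.ofBijective (Ideal.quotientMapₐ _ i Ideal.le_comap_map)
      ⟨(injective_iff_map_eq_zero _).2 fun x hx => by
        obtain ⟨s, rfl⟩ := Ideal.Quotient.mk_surjective x
        exact Ideal.Quotient.eq_zero_iff_mem.2 (hinj k s (Ideal.Quotient.eq_zero_iff_mem.1 hx)),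
      fun y => by
        obtain ⟨t, rfl⟩ := Ideal.Quotient.mk_surjective y
        obtain ⟨s, hs⟩ := hsurj k t
        exact ⟨Ideal.Quotient.mk _ s, (Ideal.Quotient.eq.2 hs).symm⟩⟩
  have hq : ∀ k s, (q k).symm (Ideal.Quotient.mk _ (i s)) = Ideal.Quotient.mk _ s := fun k s => by
    rw [AlgEquiv.symm_apply_eq]; rfl
  constructor
  · intro h A _ _ J hJ ψ ⟨k, hk⟩
    have hk' : ∀ t ∈ (𝔫 ^ k).map i.toRingHom, ψ t = 0 := fun t ht =>
      hk t (by rwa [Ideal.map_pow] at ht)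
    obtain ⟨χ, hχ⟩ := h A J hJ (ψ.comp i) ⟨k, fun s hs => hk' _ (Ideal.mem_map_of_mem _ hs)⟩
    obtain ⟨m, hm⟩ := continuous_of_mk J ⟨2, hJ⟩ χ.toRingHom (I := 𝔫) (k := k) fun s hs => by
      rw [← Ideal.Quotient.eq_zero_iff_mem]
      exact (DFunLike.congr_fun hχ s).trans (hk' _ (Ideal.mem_map_of_mem _ hs))
    let M := max k m
    let L : S ⧸ 𝔫 ^ M →ₐ[R] A := Ideal.Quotient.liftₐ (𝔫 ^ M) χ fun s hs =>
      hm s (Ideal.pow_le_pow_right (le_max_right k m) hs)
    let χ' : T →ₐ[R] A := (L.comp (q M).symm.toAlgHom).comp (Ideal.Quotient.mkₐ R _)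
    refine ⟨χ', AlgHom.ext fun t => ?_⟩
    obtain ⟨s, hs⟩ := hsurj M t
    have h1 : Ideal.Quotient.mk ((𝔫 ^ M).map i.toRingHom) t = Ideal.Quotient.mk _ (i s) :=
      Ideal.Quotient.eq.2 hs
    have h2 : χ' t = χ s := by
      show L ((q M).symm (Ideal.Quotient.mk _ t)) = _
      rw [h1, hq]
      rfl
    show Ideal.Quotient.mk J (χ' t) = ψ t
    rw [h2, show Ideal.Quotient.mk J (χ s) = ψ (i s) from DFunLike.congr_fun hχ s, eq_comm,
      ← sub_eq_zero, ← map_sub]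
    exact hk' _ (Ideal.map_mono (Ideal.pow_le_pow_right (le_max_left k m)) hs)
  · intro h A _ _ J hJ ψ ⟨k, hk⟩
    let L : S ⧸ 𝔫 ^ k →ₐ[R] A ⧸ J := Ideal.Quotient.liftₐ (𝔫 ^ k) ψ hk
    let ψ' : T →ₐ[R] A ⧸ J := (L.comp (q k).symm.toAlgHom).comp
      (Ideal.Quotient.mkₐ R _)
    obtain ⟨χ, hχ⟩ := h A J hJ ψ' ⟨k, fun t ht => by
      rw [← Ideal.map_pow] at ht
      show L ((q k).symm (Ideal.Quotient.mk _ t)) = 0
      rw [Ideal.Quotient.eq_zero_iff_mem.2 ht, map_zero, map_zero]⟩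
    refine ⟨χ.comp i, AlgHom.ext fun s => ?_⟩
    show Ideal.Quotient.mk J (χ (i s)) = ψ s
    refine (DFunLike.congr_fun hχ (i s)).trans ?_
    show L ((q k).symm (Ideal.Quotient.mk _ (i s))) = ψ s
    rw [hq]
    rfl

/-- Ring maps out of a completion agreeing on the ring and killing a power of the ideal agree. -/
theorem hom_ext (𝔪 : Ideal R) (h𝔪 : 𝔪.FG) {A : Type u} [CommRing A]
    (f g : AdicCompletion 𝔪 R →+* A)
    (hfg : f.comp (algebraMap R _) = g.comp (algebraMap R _)) (N : ℕ)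
    (hN : ∀ r ∈ 𝔪 ^ N, f (algebraMap R _ r) = 0) : f = g := by
  refine RingHom.ext fun x => ?_
  obtain ⟨r, hr⟩ := exists_sub_mem 𝔪 h𝔪 N x
  have hle : ∀ φ : AdicCompletion 𝔪 R →+* A, (∀ r ∈ 𝔪 ^ N, φ (algebraMap R _ r) = 0) →
      φ x = φ (algebraMap R _ r) := fun φ hφ => by
    rw [← sub_eq_zero, ← map_sub, ← RingHom.mem_ker]
    exact (Ideal.map_le_iff_le_comap (K := RingHom.ker φ)).2 (fun r hr => RingHom.mem_ker.2 (hφ r hr)) hr
  rw [hle f hN, hle g fun r hr => (RingHom.congr_fun hfg r).symm.trans (hN r hr)]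
  exact RingHom.congr_fun hfg r

/-- The completion of the base does not matter. -/
theorem iff_completion_base (𝔪 : Ideal R) (h𝔪 : 𝔪.FG) (𝔫 : Ideal T)
    [Algebra (AdicCompletion 𝔪 R) T] [IsScalarTower R (AdicCompletion 𝔪 R) T]
    (hc : ∃ c : ℕ, (𝔪 ^ c).map (algebraMap R T) ≤ 𝔫) :
    CAlgX.IsAdicFormallySmooth R T 𝔫 ↔
      CAlgX.IsAdicFormallySmooth (AdicCompletion 𝔪 R) T 𝔫 := by
  obtain ⟨c, hc⟩ := hc
  have hcont : ∀ {A : Type u} [CommRing A] (g : R →+* A) (J : Ideal A), J ^ 2 = ⊥ →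
      ∀ k : ℕ, ∀ u : T →+* A ⧸ J, (∀ x ∈ 𝔫 ^ k, u x = 0) →
      u.comp (algebraMap R T) = (Ideal.Quotient.mk J).comp g → ∃ N, ∀ r ∈ 𝔪 ^ N, g r = 0 := by
    intro A _ g J hJ k u hu hug
    refine continuous_of_mk J ⟨2, hJ⟩ g (I := 𝔪) (k := c * k) fun r hr => ?_
    rw [← Ideal.Quotient.eq_zero_iff_mem]
    refine (RingHom.congr_fun hug r).symm.trans (hu _ ?_)
    refine Ideal.pow_right_mono hc k ?_
    rw [← Ideal.map_pow, ← pow_mul]
    exact Ideal.mem_map_of_mem _ hr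
  constructor
  · intro h A _ _ J hJ u ⟨k, hk⟩
    let g : R →+* A := (algebraMap (AdicCompletion 𝔪 R) A).comp (algebraMap R _)
    letI : Algebra R A := g.toAlgebra
    haveI : IsScalarTower R (AdicCompletion 𝔪 R) A := .of_algebraMap_eq fun _ => rfl
    obtain ⟨v, hv⟩ := h A J hJ (u.restrictScalars R) ⟨k, hk⟩
    obtain ⟨N, hN⟩ := hcont g J hJ k u.toRingHom hk
      (RingHom.ext fun r => (u.restrictScalars R).commutes r)
    have key := hom_ext 𝔪 h𝔪 (algebraMap (AdicCompletion 𝔪 R) A)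
      (v.toRingHom.comp (algebraMap (AdicCompletion 𝔪 R) T))
      (RingHom.ext fun r => by
        show algebraMap R A r = v (algebraMap (AdicCompletion 𝔪 R) T (algebraMap R _ r))
        rw [← IsScalarTower.algebraMap_apply, v.commutes]) N hN
    exact ⟨{ v.toRingHom with commutes' := fun r => (RingHom.congr_fun key r).symm },
      AlgHom.ext fun t => (DFunLike.congr_fun hv t :)⟩
  · intro h A _ _ J hJ u ⟨k, hk⟩
    obtain ⟨N, hN⟩ := hcont (algebraMap R A) J hJ k u.toRingHom hk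
      (RingHom.ext fun r => u.commutes r)
    let g : AdicCompletion 𝔪 R →+* A := (Ideal.Quotient.lift (𝔪 ^ N) (algebraMap R A) hN).comp
      (AdicCompletion.evalₐ 𝔪 N).toRingHom
    have hg : ∀ r, g (algebraMap R _ r) = algebraMap R A r := fun r => by
      show Ideal.Quotient.lift (𝔪 ^ N) (algebraMap R A) hN
        (AdicCompletion.evalₐ 𝔪 N (algebraMap R _ r)) = _
      rw [AlgHom.commutes]
      rfl
    letI : Algebra (AdicCompletion 𝔪 R) A := g.toAlgebra
    haveI : IsScalarTower R (AdicCompletion 𝔪 R) A := .of_algebraMap_eq fun r => (hg r).symm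
    have key := hom_ext 𝔪 h𝔪 ((Ideal.Quotient.mk J).comp g)
      (u.toRingHom.comp (algebraMap (AdicCompletion 𝔪 R) T))
      (RingHom.ext fun r => by
        show Ideal.Quotient.mk J (g (algebraMap R _ r)) =
          u (algebraMap (AdicCompletion 𝔪 R) T (algebraMap R _ r))
        rw [hg, ← IsScalarTower.algebraMap_apply, u.commutes]
        rfl) N (fun r hr => by
        show Ideal.Quotient.mk J (g (algebraMap R _ r)) = 0
        rw [hg, hN r hr, map_zero])
    obtain ⟨v, hv⟩ := h A J hJ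
      { u.toRingHom with commutes' := fun r => (RingHom.congr_fun key r).symm } ⟨k, hk⟩
    exact ⟨v.restrictScalars R, AlgHom.ext fun t => (DFunLike.congr_fun hv t :)⟩

/-- Adic formal smoothness passes to and from the completion. -/
theorem iff_completion (𝔫 : Ideal S) (h𝔫 : 𝔫.FG) :
    CAlgX.IsAdicFormallySmooth R S 𝔫 ↔
      CAlgX.IsAdicFormallySmooth R (AdicCompletion 𝔫 S)
        (𝔫.map (algebraMap S (AdicCompletion 𝔫 S))) :=
  iff_of_truncations (IsScalarTower.toAlgHom R S (AdicCompletion 𝔫 S)) 𝔫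
    (fun k t => exists_sub_mem 𝔫 h𝔫 k t) (fun k s hs => mem_of_algebraMap_mem 𝔫 h𝔫 k s hs)

end Groth.Agent.CAlg48.CompletionFS
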