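import Groth.Prelude.Def_CAlgX
import Groth.Agent.AdicFS.Basic
import Mathlib

/-!
# Testing adic formal smoothness on local rings and on small Artinian extensions
-/

namespace Groth.Agent.CAlg48.SmallExt

universe u

open IsLocalRing

variable {R S : Type u} [CommRing R] [CommRing S] [Algebra R S]
variable {C : Type u} [CommRing C] [Algebra R C] {J : Ideal C} (u : S →ₐ[R] C ⧸ J)

/-- The preimage in `C` of the image of `u : S → C/J`. -/
def pre : Subalgebra R C := u.range.comap (Ideal.Quotient.mkₐ R J)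

/-- The ideal `J` in the preimage of the image of `u`. -/
def preIdeal : Ideal (pre u) := J.comap (pre u).val

lemma preIdeal_sq (hJ : J ^ 2 = ⊥) : preIdeal u ^ 2 = ⊥ := by
  rw [eq_bot_iff]
  refine fun x hx => ?_
  have h : (x : C) ∈ (preIdeal u ^ 2).map (pre u).val := Ideal.mem_map_of_mem _ hx
  rw [Ideal.map_pow] at h
  have h2 : (x : C) ∈ J ^ 2 := Ideal.pow_right_mono (Ideal.map_comap_le) 2 h
  rw [hJ, Ideal.mem_bot] at h2
  exact Subtype.ext h2

/-- `u` as a map to the preimage modulo `J`. -/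
theorem exists_preHom : ∃ ψ : S →ₐ[R] pre u ⧸ preIdeal u, Function.Surjective ψ ∧
    (∀ s, ψ s = 0 ↔ u s = 0) ∧
    ∀ χ : S →ₐ[R] pre u, (Ideal.Quotient.mkₐ R (preIdeal u)).comp χ = ψ →
      (Ideal.Quotient.mkₐ R J).comp ((pre u).val.comp χ) = u := by
  let g : (pre u ⧸ preIdeal u) →ₐ[R] C ⧸ J := Ideal.quotientMapₐ J (pre u).val le_rfl
  have hgmk : ∀ a : pre u, g (Ideal.Quotient.mk _ a) = Ideal.Quotient.mk J (a : C) := fun a => rfl
  have hg : Function.Injective g := by
    rw [injective_iff_map_eq_zero]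
    intro x hx
    obtain ⟨a, rfl⟩ := Ideal.Quotient.mk_surjective x
    rw [hgmk, Ideal.Quotient.eq_zero_iff_mem] at hx
    exact Ideal.Quotient.eq_zero_iff_mem.mpr hx
  have hr : ∀ s, u s ∈ g.range := fun s => by
    obtain ⟨c, hc⟩ := Ideal.Quotient.mk_surjective (u s)
    exact ⟨Ideal.Quotient.mk _ ⟨c, ⟨s, hc.symm⟩⟩, hc⟩
  let ψ : S →ₐ[R] pre u ⧸ preIdeal u :=
    (AlgEquiv.ofInjective g hg).symm.toAlgHom.comp (u.codRestrict g.range hr)
  have hψ : ∀ s, g (ψ s) = u s := fun s => by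
    exact congrArg Subtype.val ((AlgEquiv.ofInjective g hg).apply_symm_apply (u.codRestrict g.range hr s))
  refine ⟨ψ, fun x => ?_, fun s => by rw [← hψ s, map_eq_zero_iff g hg], fun χ hχ => AlgHom.ext fun s => ?_⟩
  · obtain ⟨⟨a, s, hs⟩, rfl⟩ := Ideal.Quotient.mk_surjective x
    exact ⟨s, hg ((hψ s).trans hs)⟩
  · rw [← hψ, ← hχ]
    rfl

lemma isLocalHom_mk {A : Type u} [CommRing A] (K : Ideal A) (hK : IsNilpotent K) :
    IsLocalHom (Ideal.Quotient.mk K) := by
  refine ⟨fun a ha => ?_⟩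
  obtain ⟨b, hb⟩ := ha.exists_right_inv
  obtain ⟨b, rfl⟩ := Ideal.Quotient.mk_surjective b
  rw [← map_mul, ← map_one (Ideal.Quotient.mk K), Ideal.Quotient.eq] at hb
  obtain ⟨t, ht⟩ := hK
  have hn : IsNilpotent (a * b - 1) := ⟨t, by
    have := Ideal.pow_mem_pow hb t
    rw [ht] at this
    simpa using this⟩
  have := hn.isUnit_add_one
  rw [sub_add_cancel] at this
  exact isUnit_of_mul_isUnit_left this

variable [IsLocalRing S]

/-- Properties of a local test algebra `(A, K)` receiving `S` surjectively on `A/K`. -/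
theorem of_surjective {A : Type u} [CommRing A] [Algebra R A] (K : Ideal A) (hK : IsNilpotent K)
    (hK' : K ≠ ⊤) (ψ : S →ₐ[R] A ⧸ K) (hψ : Function.Surjective ψ)
    {k : ℕ} (hk : ∀ x ∈ maximalIdeal S ^ k, ψ x = 0) :
    ∃ _ : IsLocalRing A, IsNilpotent (maximalIdeal A) ∧
      (∀ [IsLocalRing R] [IsLocalHom (algebraMap R S)], IsLocalHom (algebraMap R A)) := by
  have : Nontrivial (A ⧸ K) := Ideal.Quotient.nontrivial_iff.mpr hK'
  have : IsLocalRing (A ⧸ K) := IsLocalRing.of_surjective' ψ.toRingHom hψ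
  have := isLocalHom_mk K hK
  have hA : IsLocalRing A := RingHom.domain_isLocalRing (Ideal.Quotient.mk K)
  have hnil : IsNilpotent (maximalIdeal A) := by
    obtain ⟨t, ht⟩ := hK
    refine ⟨k * t, ?_⟩
    rw [pow_mul, Submodule.zero_eq_bot, eq_bot_iff, ← Submodule.zero_eq_bot, ← ht]
    refine Ideal.pow_right_mono ?_ t
    have h1 : maximalIdeal A ≤ ((maximalIdeal S).map ψ).comap (Ideal.Quotient.mk K) := fun a ha => by
      obtain ⟨s, hs⟩ := hψ (Ideal.Quotient.mk K a)
      rw [Ideal.mem_comap, ← hs]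
      refine Ideal.mem_map_of_mem ψ fun hu => ha ?_
      exact isUnit_of_map_unit (Ideal.Quotient.mk K) a (hs ▸ hu.map ψ)
    intro a ha
    have h2 := Ideal.le_comap_pow (Ideal.Quotient.mk K) k (Ideal.pow_right_mono h1 k ha)
    rw [Ideal.mem_comap, ← Ideal.map_pow] at h2
    refine Ideal.Quotient.eq_zero_iff_mem.mp ?_
    refine (Ideal.mem_bot (R := A ⧸ K)).mp (?_ : _ ∈ (⊥ : Ideal (A ⧸ K)))
    exact (Ideal.map_le_iff_le_comap.mpr fun x hx => by simpa using hk x hx) h2
  refine ⟨hA, hnil, fun {_ _} => ⟨fun r hr => ?_⟩⟩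
  by_contra hr'
  have h1 : algebraMap R S r ∈ maximalIdeal S := fun hu => hr' (isUnit_of_map_unit _ _ hu)
  have h2 := hk _ (Ideal.pow_mem_pow h1 k)
  rw [map_pow, AlgHom.commutes] at h2
  have h3 : IsUnit (algebraMap R (A ⧸ K) r ^ k) := ((hr.map (Ideal.Quotient.mk K)).pow k)
  rw [h2] at h3
  exact not_isUnit_zero h3

/-- Reduction of adic formal smoothness to local test algebras with surjection modulo the ideal. -/
theorem isAdicFormallySmooth_of_surjective
    (H : ∀ (A : Type u) [CommRing A] [Algebra R A] (K : Ideal A), K ^ 2 = ⊥ → K ≠ ⊤ →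
      ∀ ψ : S →ₐ[R] A ⧸ K, Function.Surjective ψ → (∃ k : ℕ, ∀ x ∈ maximalIdeal S ^ k, ψ x = 0) →
      ∃ χ : S →ₐ[R] A, (Ideal.Quotient.mkₐ R K).comp χ = ψ) :
    CAlgX.IsAdicFormallySmooth R S (maximalIdeal S) := by
  intro C _ _ J hJ u ⟨k, hk⟩
  obtain ⟨ψ, hψ, h0, hlift⟩ := exists_preHom u
  by_cases htop : J = ⊤
  · subst htop
    rw [Ideal.top_pow] at hJ
    have : Subsingleton C := subsingleton_of_forall_eq 0 fun x => by
      have : x ∈ (⊤ : Ideal C) := trivial
      rwa [hJ, Ideal.mem_bot] at this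
    exact ⟨AlgHom.mk ⟨⟨⟨fun _ => 0, Subsingleton.elim _ _⟩, fun _ _ => Subsingleton.elim _ _⟩,
      Subsingleton.elim _ _, fun _ _ => Subsingleton.elim _ _⟩ fun _ => Subsingleton.elim _ _,
      AlgHom.ext fun _ => Subsingleton.elim _ _⟩
  have hne : preIdeal u ≠ ⊤ := by
    simpa [preIdeal, Ideal.comap_eq_top_iff] using htop
  have hψk : ∀ x ∈ maximalIdeal S ^ k, ψ x = 0 := fun x hx => (h0 x).mpr (hk x hx)
  obtain ⟨χ, hχ⟩ := H (pre u) (preIdeal u) (preIdeal_sq u hJ) hne ψ hψ ⟨k, hψk⟩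
  exact ⟨(pre u).val.comp χ, hlift χ hχ⟩

section Small

variable (R S) [IsLocalRing R] [IsLocalHom (algebraMap R S)]

/-- The small extension lifting property. -/
def SmallLifts : Prop :=
  ∀ (A : Type u) [CommRing A] [IsLocalRing A] [IsArtinianRing A] [Algebra R A]
    [IsLocalHom (algebraMap R A)] (J : Ideal A), J ^ 2 = ⊥ → Module.length A J = 1 →
    ∀ [IsLocalRing (A ⧸ J)] (ψ : S →ₐ[R] A ⧸ J) [IsLocalHom ψ.toRingHom],
      Function.Bijective (ResidueField.map ψ.toRingHom) →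
      ∃ χ : S →ₐ[R] A, (Ideal.Quotient.mkₐ R J).comp χ = ψ

variable {R S}

/-- Lifting along an extension by a vector space over the residue field. -/
theorem lift_of_mul_eq_bot [IsNoetherianRing S] (H : SmallLifts R S)
    (A : Type u) [CommRing A] [IsLocalRing A] [Algebra R A] [IsLocalHom (algebraMap R A)]
    (hnil : IsNilpotent (maximalIdeal A))
    (J : Ideal A) (hJ : J ^ 2 = ⊥) (hmJ : maximalIdeal A * J = ⊥)
    (ψ : S →ₐ[R] A ⧸ J) (hψ : Function.Surjective ψ) :
    ∃ χ : S →ₐ[R] A, (Ideal.Quotient.mkₐ R J).comp χ = ψ := by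
  classical
  set m := maximalIdeal A
  have hJtop : J ≠ ⊤ := fun h => by
    rw [h, Ideal.top_pow] at hJ
    exact top_ne_bot hJ
  haveI : Nontrivial (A ⧸ J) := Ideal.Quotient.nontrivial_iff.mpr hJtop
  have hmul : ∀ x ∈ J, ∀ y ∈ J, x * y = (0 : A) := fun x hx y hy => by
    rw [← Ideal.mem_bot (R := A), ← hJ, pow_two]
    exact Ideal.mul_mem_mul hx hy
  -- `A/J` is Artinian
  haveI : IsNoetherianRing (A ⧸ J) := isNoetherianRing_of_surjective _ _ ψ.toRingHom hψ
  haveI : IsLocalRing (A ⧸ J) := IsLocalRing.of_surjective' _ Ideal.Quotient.mk_surjective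
  haveI hartAJ : IsArtinianRing (A ⧸ J) := by
    rw [isArtinianRing_iff_isNilpotent_maximalIdeal]
    obtain ⟨t, ht⟩ := hnil
    refine ⟨t, ?_⟩
    rw [← IsLocalRing.map_maximalIdeal_of_surjective (Ideal.Quotient.mk J) Ideal.Quotient.mk_surjective, ← Ideal.map_pow, ht]
    exact Ideal.map_bot
  -- `J` as a vector space over the residue field
  have htor : Module.IsTorsionBySet A J (m : Set A) := fun x a => Subtype.ext <| by
    show (a : A) * (x : A) = 0
    rw [← Ideal.mem_bot (R := A), ← hmJ]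
    exact Ideal.mul_mem_mul a.2 x.2
  letI : Field (A ⧸ m) := Ideal.Quotient.field m
  letI modκ : Module (A ⧸ m) J := htor.module
  haveI : IsScalarTower A (A ⧸ m) J := htor.isScalarTower
  let ι := Module.Basis.ofVectorSpaceIndex (A ⧸ m) J
  let b : Module.Basis ι (A ⧸ m) J := Module.Basis.ofVectorSpace (A ⧸ m) J
  let Ki : ι → Ideal A := fun i =>
    (LinearMap.ker ((b.coord i).restrictScalars A)).map (J.subtype : J →ₗ[A] A)
  have hKJ : ∀ i, Ki i ≤ J := fun i => by
    rintro _ ⟨x, -, rfl⟩; exact x.2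
  have hmemK : ∀ i (j : J), (j : A) ∈ Ki i ↔ b.coord i j = 0 := fun i j => by
    refine ⟨?_, fun h => ⟨j, h, rfl⟩⟩
    rintro ⟨x, hx, hxj⟩
    rwa [← (Subtype.ext hxj : x = j)]
  -- the canonical generator of each quotient
  let em : ∀ i, (A ⧸ m) → A ⧸ Ki i := fun i c => Ideal.Quotient.mk (Ki i) ((c • b i : J) : A)
  have hem : ∀ i (j : J), Ideal.Quotient.mk (Ki i) (j : A) = em i (b.coord i j) := fun i j => by
    rw [Ideal.Quotient.eq, ← Submodule.coe_sub, hmemK]
    simp
  have hemadd : ∀ i c d, em i (c + d) = em i c + em i d := fun i c d => by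
    simp [em, add_smul]
  have heminj : ∀ i c, em i c = 0 → c = 0 := fun i c hc => by
    simpa using (hmemK i _).mp (Ideal.Quotient.eq_zero_iff_mem.mp hc)
  have hemsmul : ∀ i (a : A) c, em i (Ideal.Quotient.mk m a * c) = Ideal.Quotient.mk (Ki i) a * em i c := by
    intro i a c
    show Ideal.Quotient.mk (Ki i) _ = Ideal.Quotient.mk (Ki i) a * Ideal.Quotient.mk (Ki i) _
    rw [← map_mul]
    refine congrArg _ ?_
    rw [mul_smul]
    rfl
  have hemmul : ∀ i c d, em i c * em i d = 0 := fun i c d => by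
    show Ideal.Quotient.mk (Ki i) _ * Ideal.Quotient.mk (Ki i) _ = 0
    rw [← map_mul, hmul _ (Submodule.coe_mem _) _ (Submodule.coe_mem _), map_zero]
  -- lifts to the small extensions
  have hstep : ∀ i, ∃ χ : S →ₐ[R] A ⧸ Ki i, ∀ (s : S) (a : A), Ideal.Quotient.mk J a = ψ s →
      ∃ c, χ s = Ideal.Quotient.mk (Ki i) a + em i c := by
    intro i
    have hKtop : Ki i ≠ ⊤ := fun h => hJtop (top_le_iff.mp (h ▸ hKJ i))
    haveI : Nontrivial (A ⧸ Ki i) := Ideal.Quotient.nontrivial_iff.mpr hKtop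
    haveI : IsLocalRing (A ⧸ Ki i) := IsLocalRing.of_surjective' _ Ideal.Quotient.mk_surjective
    haveI : IsLocalHom (algebraMap R (A ⧸ Ki i)) := by
      haveI : IsLocalHom (Ideal.Quotient.mk (Ki i)) := Function.Surjective.isLocalHom _ Ideal.Quotient.mk_surjective
      exact RingHom.isLocalHom_comp (Ideal.Quotient.mk (Ki i)) (algebraMap R A)
    set Ji : Ideal (A ⧸ Ki i) := J.map (Ideal.Quotient.mk (Ki i))
    have hJi : ∀ x, x ∈ Ji ↔ ∃ c, x = em i c := fun x => by
      refine ⟨fun hx => ?_, ?_⟩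
      · obtain ⟨j, hj, rfl⟩ := (Ideal.mem_map_iff_of_surjective _ Ideal.Quotient.mk_surjective).mp hx
        exact ⟨_, hem i ⟨j, hj⟩⟩
      · rintro ⟨c, rfl⟩
        exact Ideal.mem_map_of_mem _ (Submodule.coe_mem _)
    have hsimple : IsSimpleModule (A ⧸ Ki i) Ji := by
      rw [isSimpleModule_iff_isAtom]
      refine ⟨fun h => ?_, fun N hN => ?_⟩
      · have := (hJi (em i 1)).mpr ⟨1, rfl⟩
        rw [h, Submodule.mem_bot] at this
        exact one_ne_zero (heminj i 1 this)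
      · rw [eq_bot_iff]
        intro x hx
        by_contra hx0
        obtain ⟨c, rfl⟩ := (hJi x).mp (hN.le hx)
        have hc : c ≠ 0 := fun h => hx0 (by simp [em, h])
        refine hN.not_ge fun y hy => ?_
        obtain ⟨d, rfl⟩ := (hJi y).mp hy
        obtain ⟨a, ha⟩ := Ideal.Quotient.mk_surjective (d / c)
        rw [show d = Ideal.Quotient.mk m a * c from by rw [ha, div_mul_cancel₀ _ hc], hemsmul]
        exact N.smul_mem _ hx
    have hlen : Module.length (A ⧸ Ki i) Ji = 1 := Module.length_eq_one _ _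
    obtain ⟨e, he⟩ := AdicFS.Basic.exists_comp_factor (hKJ i) ψ
    haveI : IsArtinianRing ((A ⧸ Ki i) ⧸ Ji) :=
      Function.Surjective.isArtinianRing (f := e.symm.toRingEquiv.toRingHom) e.symm.surjective
    haveI : IsArtinianRing (A ⧸ Ki i) := by
      have h1 : IsArtinian (A ⧸ Ki i) ((A ⧸ Ki i) ⧸ Ji) :=
        isArtinian_of_surjective_algebraMap (R := (A ⧸ Ki i) ⧸ Ji) (S := A ⧸ Ki i) Ideal.Quotient.mk_surjective
      exact (isArtinian_iff_submodule_quotient Ji).mpr ⟨inferInstance, h1⟩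
    haveI : Nontrivial ((A ⧸ Ki i) ⧸ Ji) := e.toEquiv.nontrivial
    haveI : IsLocalRing ((A ⧸ Ki i) ⧸ Ji) := IsLocalRing.of_surjective' _ Ideal.Quotient.mk_surjective
    have hψ' : Function.Surjective (e.symm.toAlgHom.comp ψ) := e.symm.surjective.comp hψ
    haveI : IsLocalHom (e.symm.toAlgHom.comp ψ).toRingHom := Function.Surjective.isLocalHom _ hψ'
    have hJi2 : Ji ^ 2 = ⊥ := by rw [← Ideal.map_pow, hJ, Ideal.map_bot]
    obtain ⟨χ, hχ⟩ := H (A ⧸ Ki i) Ji hJi2 hlen (e.symm.toAlgHom.comp ψ)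
      ⟨(ResidueField.map _).injective, fun y => by
        obtain ⟨y, rfl⟩ := residue_surjective y
        obtain ⟨s, rfl⟩ := hψ' y
        exact ⟨residue S s, rfl⟩⟩
    refine ⟨χ, fun s a ha => ?_⟩
    have h1 : χ s - Ideal.Quotient.mk (Ki i) a ∈ Ji := by
      rw [← Ideal.Quotient.eq]
      refine e.injective ?_
      rw [he, ha]
      have := congrArg e (AlgHom.congr_fun hχ s)
      simpa using this
    obtain ⟨c, hc⟩ := (hJi _).mp h1
    exact ⟨c, by rw [← hc]; abel⟩
  choose χ hχ using hstep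
  -- retraction from all families of coordinates
  obtain ⟨r, hr⟩ := LinearMap.exists_leftInverse_of_injective (LinearMap.pi fun i => b.coord i)
    (LinearMap.ker_eq_bot.mpr fun x y h => b.ext_elem fun i => congr_fun h i)
  have hr' : ∀ j : J, r (fun i => b.coord i j) = j := fun j => LinearMap.congr_fun hr j
  let Φ : S → A → Prop := fun s y => ∃ (a : A) (w : ι → A ⧸ m),
    Ideal.Quotient.mk J a = ψ s ∧ (∀ i, χ i s = Ideal.Quotient.mk (Ki i) a + em i (w i)) ∧
      y = a + ((r w : J) : A)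
  have hex : ∀ s, ∃ y, Φ s y := fun s => by
    obtain ⟨a, ha⟩ := Ideal.Quotient.mk_surjective (ψ s)
    choose w hw using fun i => hχ i s a ha
    exact ⟨_, a, w, ha, hw, rfl⟩
  have huniq : ∀ s y y', Φ s y → Φ s y' → y = y' := by
    rintro s _ _ ⟨a, w, ha, hw, rfl⟩ ⟨a', w', ha', hw', rfl⟩
    have hj : a' - a ∈ J := by rw [← Ideal.Quotient.eq, ha, ha']
    have hδ : (fun i => b.coord i ⟨a' - a, hj⟩) = w - w' := by
      funext i
      have h1 := (hw i).symm.trans (hw' i)
      have h2 := hem i ⟨a' - a, hj⟩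
      rw [map_sub, sub_eq_iff_eq_add] at h2
      rw [h2, add_comm (em i _) (Ideal.Quotient.mk _ a), add_assoc, add_right_inj, ← hemadd] at h1
      have h3 : em i (b.coord i ⟨a' - a, hj⟩ + w' i - w i) = 0 := by
        have := hemadd i (b.coord i ⟨a' - a, hj⟩ + w' i - w i) (w i)
        rw [sub_add_cancel, ← h1] at this
        simpa using this
      have h4 := heminj i _ h3
      rw [Pi.sub_apply, eq_sub_iff_add_eq]
      exact sub_eq_zero.mp h4
    have h5 := hr' ⟨a' - a, hj⟩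
    rw [hδ, map_sub] at h5
    have h6 : ((r w : J) : A) - (r w' : J) = a' - a := congrArg Subtype.val h5
    linear_combination h6
  choose f hf using hex
  have hadd : ∀ s t, f (s + t) = f s + f t := fun s t => by
    refine huniq _ _ _ (hf _) ?_
    obtain ⟨a, w, ha, hw, hy⟩ := hf s
    obtain ⟨a', w', ha', hw', hy'⟩ := hf t
    refine ⟨a + a', w + w', by rw [map_add, map_add, ha, ha'], fun i => ?_, ?_⟩
    · rw [map_add, map_add, hw, hw', Pi.add_apply, hemadd]; abel
    · rw [hy, hy', map_add, Submodule.coe_add]; abel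
  have hmul' : ∀ s t, f (s * t) = f s * f t := fun s t => by
    refine huniq _ _ _ (hf _) ?_
    obtain ⟨a, w, ha, hw, hy⟩ := hf s
    obtain ⟨a', w', ha', hw', hy'⟩ := hf t
    refine ⟨a * a', Ideal.Quotient.mk m a • w' + Ideal.Quotient.mk m a' • w,
      by rw [map_mul, map_mul, ha, ha'], fun i => ?_, ?_⟩
    · rw [map_mul, map_mul, hw, hw', Pi.add_apply, hemadd, Pi.smul_apply, Pi.smul_apply, smul_eq_mul,
        smul_eq_mul, hemsmul, hemsmul]
      linear_combination hemmul i (w i) (w' i)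
    · rw [hy, hy', map_add, map_smul, map_smul, Submodule.coe_add]
      show _ = a * a' + (a * ((r w' : J) : A) + a' * ((r w : J) : A))
      linear_combination hmul _ (r w).2 _ (r w').2
  have halg : ∀ x : R, f (algebraMap R S x) = algebraMap R A x := fun x => by
    refine huniq _ _ _ (hf _) ⟨algebraMap R A x, 0, (ψ.commutes x).symm, fun i => ?_, by simp⟩
    rw [AlgHom.commutes]
    simp [em]
  have h0 : f 0 = 0 := by simpa using hadd 0 0
  have h1 : f 1 = 1 := by simpa using halg 1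
  refine ⟨AlgHom.mk ⟨⟨⟨f, h1⟩, hmul'⟩, h0, hadd⟩ halg, AlgHom.ext fun s => ?_⟩
  obtain ⟨a, w, ha, -, hy⟩ := hf s
  show Ideal.Quotient.mk J (f s) = ψ s
  rw [hy, map_add, ha, Ideal.Quotient.eq_zero_iff_mem.mpr (r w).2, add_zero]

/-- Small lifts give lifts along all square-zero extensions with surjective `ψ`. -/
theorem lift_of_pow_mul_eq_bot [IsNoetherianRing S] (H : SmallLifts R S) (t : ℕ) :
    ∀ (A : Type u) [CommRing A] [IsLocalRing A] [Algebra R A] [IsLocalHom (algebraMap R A)],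
      IsNilpotent (maximalIdeal A) → ∀ J : Ideal A, J ^ 2 = ⊥ → maximalIdeal A ^ t * J = ⊥ →
      ∀ ψ : S →ₐ[R] A ⧸ J, Function.Surjective ψ →
      ∃ χ : S →ₐ[R] A, (Ideal.Quotient.mkₐ R J).comp χ = ψ := by
  induction t with
  | zero =>
    intro A _ _ _ _ hnil J hJ hJ0 ψ hψ
    rw [pow_zero, Ideal.one_eq_top, Ideal.top_mul] at hJ0
    exact lift_of_mul_eq_bot H A hnil J hJ (by rw [hJ0, Ideal.mul_bot]) ψ hψ
  | succ t ih =>
    intro A _ _ _ _ hnil J hJ hJt ψ hψ
    set J' := maximalIdeal A * J with hJ'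
    have hJ'J : J' ≤ J := Ideal.mul_le_right
    have hJtop : J ≠ ⊤ := fun h => by
      rw [h, Ideal.top_pow] at hJ
      exact top_ne_bot hJ
    have hJ'top : J' ≠ ⊤ := fun h => hJtop (top_le_iff.mp (h ▸ hJ'J))
    haveI : Nontrivial (A ⧸ J') := Ideal.Quotient.nontrivial_iff.mpr hJ'top
    haveI : IsLocalRing (A ⧸ J') := IsLocalRing.of_surjective' _ Ideal.Quotient.mk_surjective
    haveI : IsLocalHom (Ideal.Quotient.mk J') := Function.Surjective.isLocalHom _ Ideal.Quotient.mk_surjective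
    haveI : IsLocalHom (algebraMap R (A ⧸ J')) := RingHom.isLocalHom_comp (Ideal.Quotient.mk J') (algebraMap R A)
    have hm1 : maximalIdeal (A ⧸ J') = (maximalIdeal A).map (Ideal.Quotient.mk J') :=
      (IsLocalRing.map_maximalIdeal_of_surjective (Ideal.Quotient.mk J') Ideal.Quotient.mk_surjective).symm
    obtain ⟨n, hn⟩ := hnil
    have hnil1 : IsNilpotent (maximalIdeal (A ⧸ J')) :=
      ⟨n, by rw [hm1, ← Ideal.map_pow, hn]; exact Ideal.map_bot⟩
    obtain ⟨e, he⟩ := AdicFS.Basic.exists_comp_factor hJ'J ψ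
    obtain ⟨χ1, hχ1⟩ := lift_of_mul_eq_bot H (A ⧸ J') hnil1 (J.map (Ideal.Quotient.mk J'))
      (by rw [← Ideal.map_pow, hJ, Ideal.map_bot])
      (by rw [hm1, ← Ideal.map_mul, Ideal.map_quotient_self])
      (e.symm.toAlgHom.comp ψ) (e.symm.surjective.comp hψ)
    haveI : Nontrivial (A ⧸ J) := Ideal.Quotient.nontrivial_iff.mpr hJtop
    haveI : IsLocalHom ψ.toRingHom := Function.Surjective.isLocalHom _ hψ
    have hk : ∀ x ∈ maximalIdeal S ^ n, χ1 x = 0 := fun x hx => by
      have h1 : (maximalIdeal S).map χ1 ≤ maximalIdeal (A ⧸ J') := by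
        rw [Ideal.map_le_iff_le_comap]
        refine fun s hs hu => hs ?_
        have h2 := (congrArg e (AlgHom.congr_fun hχ1 s))
        simp at h2
        exact isUnit_of_map_unit ψ.toRingHom s (h2 ▸ (hu.map (Ideal.Quotient.mk _)).map e)
      have h2 := Ideal.pow_right_mono h1 n (Ideal.map_pow χ1 (maximalIdeal S) n ▸ Ideal.mem_map_of_mem χ1 hx)
      rwa [hm1, ← Ideal.map_pow, hn, Submodule.zero_eq_bot, Ideal.map_bot, Ideal.mem_bot] at h2
    obtain ⟨ψ', hψ', h0, hlift⟩ := exists_preHom χ1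
    have hJ'2 : J' ^ 2 = ⊥ := eq_bot_iff.mpr (hJ ▸ Ideal.pow_right_mono hJ'J 2)
    obtain ⟨_, hnil', hloc⟩ := of_surjective (preIdeal χ1) ⟨2, preIdeal_sq χ1 hJ'2⟩
      (by simpa [preIdeal, Ideal.comap_eq_top_iff] using hJ'top) ψ' hψ' (k := n)
      (fun x hx => (h0 x).mpr (hk x hx))
    haveI := @hloc _ _
    have ht : maximalIdeal (pre χ1) ^ t * preIdeal χ1 = ⊥ := by
      rw [eq_bot_iff]
      intro x hx
      have h1 : (maximalIdeal (pre χ1)).map (pre χ1).val ≤ maximalIdeal A := by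
        rw [Ideal.map_le_iff_le_comap]
        intro y hy hu
        obtain ⟨l, hl⟩ := hnil'
        have hyl : y ^ l = 0 := by simpa [hl] using Ideal.pow_mem_pow hy l
        have := (hu.pow l)
        rw [← map_pow, hyl, map_zero] at this
        exact not_isUnit_zero this
      have h2 : (x : A) ∈ (maximalIdeal (pre χ1) ^ t * preIdeal χ1).map (pre χ1).val :=
        Ideal.mem_map_of_mem _ hx
      rw [Ideal.map_mul, Ideal.map_pow] at h2
      have h3 : (x : A) ∈ maximalIdeal A ^ t * J' :=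
        Ideal.mul_mono (Ideal.pow_right_mono h1 t) Ideal.map_comap_le h2
      have h4 : (x : A) ∈ maximalIdeal A ^ (t + 1) * J := by
        rw [pow_succ, mul_assoc]; exact h3
      rw [hJt, Ideal.mem_bot] at h4
      exact Subtype.ext h4
    obtain ⟨χ, hχ⟩ := ih (pre χ1) hnil' (preIdeal χ1) (preIdeal_sq χ1 hJ'2) ht ψ' hψ'
    refine ⟨(pre χ1).val.comp χ, AlgHom.ext fun s => ?_⟩
    have h4 := AlgHom.congr_fun (hlift χ hχ) s
    have h5 := congrArg e (AlgHom.congr_fun hχ1 s)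
    simp at h4 h5
    rw [← h4] at h5
    simpa [he] using h5

end Small

end Groth.Agent.CAlg48.SmallExt
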