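import Groth.Agent.S9294
import Groth.Agent.EGA4Lib.FibreBC
import Groth.Agent.GeomFieldLib.HomBC
import Mathlib

/-!
# Regular homomorphisms: localisation, locality
-/

set_option autoImplicit false
set_option linter.style.haveILetI false

universe u

open TensorProduct

namespace Groth.Agent.CAlg48.RegHom

/-- A regular algebra over a regular ring is regular. -/
theorem isRegularRing_of_regularHom (A B : Type u) [CommRing A] [CommRing B] [Algebra A B] [IsRegularRing A]
    [IsNoetherianRing B] (h : CAlg.IsRegularHom A B) : IsRegularRing B := by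
  haveI := h.1
  rw [isRegularRing_iff]
  intro Q _
  let q := Q.comap (algebraMap A B)
  haveI : IsRegularRing (q.Fiber B) := S9294.isRegularRing_of_geom q.ResidueField _ (h.2 q).2
  haveI := GeomFieldLib.isRegularLocalRing_fibLocRing_of_regular_fiber (A := A) Q
  haveI : IsRegularLocalRing (Localization.AtPrime q) := IsRegularRing.isRegularLocalRing_localization q
  exact EGA4Lib.isRegularLocalRing_of_regular_fibre (A := A) Q

/-- Composition with Noetherian target. -/
theorem comp (A B C : Type u) [CommRing A] [CommRing B] [CommRing C] [Algebra A B] [Algebra B C]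
    [Algebra A C] [IsScalarTower A B C] [IsNoetherianRing C] (hAB : CAlg.IsRegularHom A B)
    (hBC : CAlg.IsRegularHom B C) : CAlg.IsRegularHom A C :=
  S9294.result A B C hAB hBC fun p _ => EGA4Lib.forall_isCohenMacaulayRing_fiber_iff.isNoetherianRing_fiber A p

/-- A localisation is a regular homomorphism. -/
theorem of_isLocalization (B B' : Type u) [CommRing B] [CommRing B'] [Algebra B B'] (M : Submonoid B)
    [IsLocalization M B'] : CAlg.IsRegularHom B B' := by
  haveI : Module.Flat B B' := IsLocalization.flat B' M
  have key : ∀ (K : Type u) [Field K] [Algebra B K], IsRegularRing (K ⊗[B] B') := by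
    intro K _ _
    letI : Algebra B' (K ⊗[B] B') := Algebra.TensorProduct.rightAlgebra
    haveI : IsLocalization (Algebra.algebraMapSubmonoid K M) (K ⊗[B] B') :=
      (Algebra.isLocalization_iff_isPushout M B').mpr inferInstance
    exact GeomFieldLib.isRegularRing_of_isLocalization (R := K) (Algebra.algebraMapSubmonoid K M)
  refine ⟨inferInstance, fun p _ => ⟨?_, fun K' _ _ _ => ?_⟩⟩
  · haveI := key p.ResidueField
    exact inferInstanceAs (IsNoetherianRing (p.ResidueField ⊗[B] B'))
  · letI : Algebra B K' := ((algebraMap p.ResidueField K').comp (algebraMap B p.ResidueField)).toAlgebra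
    haveI : IsScalarTower B p.ResidueField K' := IsScalarTower.of_algebraMap_eq' rfl
    haveI := key K'
    exact IsRegularRing.of_ringEquiv (R := K' ⊗[B] B')
      (Algebra.TensorProduct.cancelBaseChange B p.ResidueField K' K' B').symm.toRingEquiv

/-- Regularity of `R → Λ` gives that of the local homomorphisms. -/
theorem localRingHom (R Λ : Type u) [CommRing R] [CommRing Λ] [Algebra R Λ] [IsNoetherianRing Λ]
    (h : CAlg.IsRegularHom R Λ) (q : Ideal Λ) [q.IsPrime] :
    letI := (Localization.localRingHom (Ideal.comap (algebraMap R Λ) q) q (algebraMap R Λ) rfl).toAlgebra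
    CAlg.IsRegularHom (Localization.AtPrime (Ideal.comap (algebraMap R Λ) q)) (Localization.AtPrime q) := by
  letI := (Localization.localRingHom (Ideal.comap (algebraMap R Λ) q) q (algebraMap R Λ) rfl).toAlgebra
  let p := Ideal.comap (algebraMap R Λ) q
  let Rp := Localization.AtPrime p
  let Λq := Localization.AtPrime q
  haveI : IsScalarTower R Rp Λq := IsScalarTower.of_algebraMap_eq fun x => by
    rw [IsScalarTower.algebraMap_apply R Λ Λq]
    exact (Localization.localRingHom_to_map _ _ _ _ x).symm
  haveI : IsNoetherianRing Λq := IsLocalization.isNoetherianRing q.primeCompl Λq inferInstance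
  exact EGA4Lib.isRegularHom_baseChange (A := R) (B := Λq) (EGA4Lib.isQuotLike_of_isLocalization p.primeCompl)
    (IsLocalization.algebraLid p.primeCompl Rp Λq).symm (comp R Λ Λq h (of_isLocalization Λ Λq q.primeCompl))

/-- Regularity may be checked on the local homomorphisms at maximal ideals. -/
theorem of_forall_maximal (R Λ : Type u) [CommRing R] [CommRing Λ] [Algebra R Λ] [IsNoetherianRing Λ]
    (h : ∀ (n : Ideal Λ) [n.IsMaximal],
      letI := (Localization.localRingHom (Ideal.comap (algebraMap R Λ) n) n (algebraMap R Λ) rfl).toAlgebra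
      CAlg.IsRegularHom (Localization.AtPrime (Ideal.comap (algebraMap R Λ) n)) (Localization.AtPrime n)) :
    CAlg.IsRegularHom R Λ := by
  have hn : ∀ (n : Ideal Λ) [n.IsMaximal], CAlg.IsRegularHom R (Localization.AtPrime n) := by
    intro n _
    let m := Ideal.comap (algebraMap R Λ) n
    letI : Algebra (Localization.AtPrime m) (Localization.AtPrime n) :=
      (Localization.localRingHom m n (algebraMap R Λ) rfl).toAlgebra
    haveI : IsScalarTower R (Localization.AtPrime m) (Localization.AtPrime n) :=
      IsScalarTower.of_algebraMap_eq fun x => by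
        rw [IsScalarTower.algebraMap_apply R Λ (Localization.AtPrime n)]
        exact (Localization.localRingHom_to_map _ _ _ _ x).symm
    haveI : IsNoetherianRing (Localization.AtPrime n) := IsLocalization.isNoetherianRing n.primeCompl _ inferInstance
    exact comp R (Localization.AtPrime m) _ (of_isLocalization R _ m.primeCompl) (h n)
  have hflat : Module.Flat R Λ :=
    Module.flat_of_isLocalized_maximal Λ Λ (fun P => Localization.AtPrime P)
      (fun P _ => Algebra.linearMap Λ (Localization.AtPrime P)) fun P _ => (hn P).1
  refine ⟨hflat, fun p _ => ?_⟩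
  haveI hN : IsNoetherianRing (p.Fiber Λ) :=
    EGA4Lib.forall_isCohenMacaulayRing_fiber_iff.isNoetherianRing_fiber R p
  refine ⟨hN, fun k' _ _ hf => ?_⟩
  letI : Algebra R k' := ((algebraMap p.ResidueField k').comp (algebraMap R p.ResidueField)).toAlgebra
  haveI : IsScalarTower R p.ResidueField k' := IsScalarTower.of_algebraMap_eq' rfl
  let T := Λ ⊗[R] k'
  let e₀ : k' ⊗[p.ResidueField] p.Fiber Λ ≃+* T :=
    (Algebra.TensorProduct.cancelBaseChange R p.ResidueField k' k' Λ).toRingEquiv.trans
      (Algebra.TensorProduct.comm R k' Λ).toRingEquiv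
  haveI : IsNoetherianRing T := by
    haveI : IsNoetherianRing ((p.Fiber Λ) ⊗[p.ResidueField] k') := IsNoetherianRing.of_finite (p.Fiber Λ) _
    haveI : IsNoetherianRing (k' ⊗[p.ResidueField] p.Fiber Λ) :=
      isNoetherianRing_of_ringEquiv _ (Algebra.TensorProduct.comm p.ResidueField (p.Fiber Λ) k').toRingEquiv
    exact isNoetherianRing_of_ringEquiv _ e₀
  suffices IsRegularRing T from IsRegularRing.of_ringEquiv e₀.symm
  rw [isRegularRing_iff]
  intro Q _
  obtain ⟨n, hnmax, hqn⟩ := Ideal.exists_le_maximal (Q.comap (algebraMap Λ T)) (Ideal.IsPrime.ne_top inferInstance)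
  haveI := hnmax
  let Λn := Localization.AtPrime n
  let T' := T ⊗[Λ] Λn
  letI : Algebra Λn T' := Algebra.TensorProduct.rightAlgebra
  haveI hloc : IsLocalization (Algebra.algebraMapSubmonoid T n.primeCompl) T' :=
    (Algebra.isLocalization_iff_isPushout n.primeCompl Λn).mpr inferInstance
  haveI : IsNoetherianRing T' := IsLocalization.isNoetherianRing (Algebra.algebraMapSubmonoid T n.primeCompl) T' inferInstance
  let e₁ : T' ≃+* k' ⊗[R] Λn :=
    (Algebra.TensorProduct.comm Λ T Λn).toRingEquiv.trans
      ((Algebra.TensorProduct.cancelBaseChange R Λ Λn Λn k').toRingEquiv.trans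
        (Algebra.TensorProduct.comm R Λn k').toRingEquiv)
  haveI : IsNoetherianRing (k' ⊗[R] Λn) := isNoetherianRing_of_ringEquiv _ e₁
  haveI := isRegularRing_of_regularHom k' (k' ⊗[R] Λn) (GeomFieldLib.isRegularHom_tensor R Λn k' (hn n))
  haveI : IsRegularRing T' := IsRegularRing.of_ringEquiv e₁.symm
  have hdisj : Disjoint (Algebra.algebraMapSubmonoid T n.primeCompl : Set T) (Q : Set T) := by
    rw [Set.disjoint_left]
    rintro _ ⟨s, hs, rfl⟩ hsQ
    exact hs (hqn hsQ)
  haveI hQ : (Q.map (algebraMap T T')).IsPrime :=
    IsLocalization.isPrime_of_isPrime_disjoint (Algebra.algebraMapSubmonoid T n.primeCompl) _ _ ‹_› hdisj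
  haveI h1 := IsLocalization.isLocalization_isLocalization_atPrime_isLocalization
    (Algebra.algebraMapSubmonoid T n.primeCompl)
    (Localization.AtPrime (Q.map (algebraMap T T'))) (Q.map (algebraMap T T'))
  have hu : (Q.map (algebraMap T T')).under T = Q :=
    IsLocalization.under_map_of_isPrime_disjoint (Algebra.algebraMapSubmonoid T n.primeCompl) _ ‹_› hdisj
  haveI : IsLocalization Q.primeCompl (Localization.AtPrime (Q.map (algebraMap T T'))) := by
    have : ((Q.map (algebraMap T T')).under T).primeCompl = Q.primeCompl := by ext; simp [hu]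
    exact this ▸ h1
  haveI := IsRegularRing.isRegularLocalRing_localization (R := T') (Q.map (algebraMap T T'))
  exact IsRegularLocalRing.of_ringEquiv (R := Localization.AtPrime (Q.map (algebraMap T T')))
    (IsLocalization.algEquiv Q.primeCompl _ (Localization.AtPrime Q)).toRingEquiv

end Groth.Agent.CAlg48.RegHom
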