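import Mathlib
import Groth.Prelude.Def_CAlgX
import Groth.Agent.LocFlat.Basic

/-!
Quasi-regular sequences under base change and localization.
-/

set_option autoImplicit false
set_option linter.style.haveILetI false

universe u

open TensorProduct Function

namespace Groth.Agent.CAlg48.QRBase

variable {B : Type u} [CommRing B] {r : ℕ} (f : Fin r → B)

/-- Exponent vectors of degree `n`. -/
abbrev Mon (r n : ℕ) := {d : Fin r →₀ ℕ // d ∈ (Finset.univ : Finset (Fin r)).finsuppAntidiag n}

lemma mem_mon {n : ℕ} (d : Fin r →₀ ℕ) :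
    d ∈ (Finset.univ : Finset (Fin r)).finsuppAntidiag n ↔ d.degree = n := by
  simp [Finset.mem_finsuppAntidiag, Finsupp.degree_eq_sum]

/-- The value of a family of coefficients. -/
noncomputable def value (n : ℕ) : (Mon r n → B) →ₗ[B] B where
  toFun c := ∑ d, c d * (d.1.prod fun i e => f i ^ e)
  map_add' a b := by simp [add_mul, Finset.sum_add_distrib]
  map_smul' a c := by simp [Finset.mul_sum, mul_assoc]

/-- The homogeneous polynomial with given coefficients. -/
noncomputable def poly {R : Type u} [CommRing R] (n : ℕ) (c : Mon r n → R) :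
    MvPolynomial (Fin r) R :=
  ∑ d, MvPolynomial.monomial d.1 (c d)

lemma poly_isHomogeneous {R : Type u} [CommRing R] (n : ℕ) (c : Mon r n → R) :
    (poly n c).IsHomogeneous n :=
  MvPolynomial.IsHomogeneous.sum _ _ _ fun d _ =>
    MvPolynomial.isHomogeneous_monomial _ ((mem_mon d.1).1 d.2)

lemma coeff_poly {R : Type u} [CommRing R] (n : ℕ) (c : Mon r n → R) (d : Mon r n) :
    (poly n c).coeff d.1 = c d := by
  classical
  simp only [poly, MvPolynomial.coeff_sum, MvPolynomial.coeff_monomial]
  rw [Finset.sum_eq_single d (fun b _ hb => if_neg fun h => hb (Subtype.ext h))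
    (fun h => absurd (Finset.mem_univ d) h), if_pos rfl]

lemma eval_poly (n : ℕ) (c : Mon r n → B) : MvPolynomial.eval f (poly n c) = value f n c := by
  simp [poly, value, MvPolynomial.eval_monomial]

lemma poly_coeff {R : Type u} [CommRing R] {n : ℕ} {P : MvPolynomial (Fin r) R}
    (hP : P.IsHomogeneous n) : poly n (fun d => P.coeff d.1) = P := by
  classical
  ext d
  by_cases hd : d.degree = n
  · exact coeff_poly n (fun d => P.coeff d.1) ⟨d, (mem_mon d).2 hd⟩
  · rw [hP.coeff_eq_zero hd, (poly_isHomogeneous n _).coeff_eq_zero hd]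

lemma value_mem (n : ℕ) (c : Mon r n → B) :
    value f n c ∈ Ideal.span (Set.range f) ^ n :=
  (Ideal.mem_span_pow_iff_exists_isHomogeneous f (value f n c)).2
    ⟨poly n c, poly_isHomogeneous n c, eval_poly f n c⟩

lemma exists_value_eq (n : ℕ) {x : B} (hx : x ∈ Ideal.span (Set.range f) ^ n) :
    ∃ c, value f n c = x := by
  obtain ⟨P, hP, rfl⟩ := (Ideal.mem_span_pow_iff_exists_isHomogeneous f x).1 hx
  exact ⟨fun d => P.coeff d.1, by rw [← eval_poly, poly_coeff hP]⟩

/-- The map `(B/J)^{Mon n} → B/J^(n+1)`. -/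
noncomputable def gr (n : ℕ) :
    (Mon r n → B ⧸ Ideal.span (Set.range f)) →ₗ[B] B ⧸ Ideal.span (Set.range f) ^ (n + 1) :=
  ∑ d : Mon r n, (Submodule.liftQ (Ideal.span (Set.range f))
    (LinearMap.toSpanSingleton B (B ⧸ Ideal.span (Set.range f) ^ (n + 1))
      (Ideal.Quotient.mk _ (d.1.prod fun i e => f i ^ e))) (by
      intro x hx
      show x • Ideal.Quotient.mk _ (d.1.prod fun i e => f i ^ e) = 0
      rw [show x • Ideal.Quotient.mk (Ideal.span (Set.range f) ^ (n + 1))
            (d.1.prod fun i e => f i ^ e) = Ideal.Quotient.mk _ (x * d.1.prod fun i e => f i ^ e) from rfl,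
        Ideal.Quotient.eq_zero_iff_mem, pow_succ']
      refine Ideal.mul_mem_mul hx ((Ideal.mem_span_pow_iff_exists_isHomogeneous f _).2
        ⟨MvPolynomial.monomial d.1 1, MvPolynomial.isHomogeneous_monomial _ ((mem_mon d.1).1 d.2), ?_⟩)
      simp [MvPolynomial.eval_monomial])) ∘ₗ LinearMap.proj d

lemma gr_mk (n : ℕ) (c : Mon r n → B) :
    gr f n (fun d => Ideal.Quotient.mk _ (c d)) = Ideal.Quotient.mk _ (value f n c) := by
  simp only [gr, LinearMap.sum_apply, value, LinearMap.coe_mk, AddHom.coe_mk, map_sum]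
  rfl

theorem injective_gr (hq : CAlgX.IsQuasiRegular f) (n : ℕ) : Injective (gr f n) := by
  rw [injective_iff_map_eq_zero]
  intro x hx
  choose c hc using fun d => Ideal.Quotient.mk_surjective (x d)
  obtain rfl : (fun d => Ideal.Quotient.mk _ (c d)) = x := funext hc
  rw [gr_mk, Ideal.Quotient.eq_zero_iff_mem] at hx
  funext d
  show Ideal.Quotient.mk _ (c d) = 0
  rw [Ideal.Quotient.eq_zero_iff_mem, ← coeff_poly n c d]
  exact hq n _ (poly_isHomogeneous n c) (by rwa [eval_poly]) _

/-- `B/J^(n+1) → B/J^n`. -/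
noncomputable def proj (n : ℕ) :
    (B ⧸ Ideal.span (Set.range f) ^ (n + 1)) →ₗ[B] B ⧸ Ideal.span (Set.range f) ^ n :=
  Submodule.factor (Ideal.pow_le_pow_right n.le_succ)

theorem exact_gr (n : ℕ) : Exact (gr f n) (proj f n) := by
  intro y
  obtain ⟨b, rfl⟩ := Ideal.Quotient.mk_surjective y
  constructor
  · intro hb
    obtain ⟨c, hc⟩ := exists_value_eq f n (Ideal.Quotient.eq_zero_iff_mem.1 hb)
    exact ⟨fun d => Ideal.Quotient.mk _ (c d), by rw [gr_mk, hc]; rfl⟩
  · rintro ⟨x, hx⟩
    choose c hc using fun d => Ideal.Quotient.mk_surjective (x d)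
    obtain rfl : (fun d => Ideal.Quotient.mk _ (c d)) = x := funext hc
    rw [gr_mk] at hx
    rw [← hx]
    exact Ideal.Quotient.eq_zero_iff_mem.2 (value_mem f n c)

/-- An extension of flat modules is flat. -/
theorem flat_of_exact {A X Y Z : Type u} [CommRing A] [AddCommGroup X] [Module A X] [AddCommGroup Y]
    [Module A Y] [AddCommGroup Z] [Module A Z] [Module.Flat A X] [Module.Flat A Z] (a : X →ₗ[A] Y)
    (b : Y →ₗ[A] Z) (hab : Exact a b) (hb : Surjective b) (ha : Injective a) : Module.Flat A Y := by
  rw [Module.Flat.iff_rTensor_preserves_injective_linearMap]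
  intro P Q _ _ _ _ g hg
  rw [injective_iff_map_eq_zero]
  intro z hz
  have h1 : b.lTensor P z = 0 := by
    apply Module.Flat.rTensor_preserves_injective_linearMap (M := Z) g hg
    rw [map_zero, ← LinearMap.comp_apply, LinearMap.rTensor_comp_lTensor,
      ← LinearMap.lTensor_comp_rTensor, LinearMap.comp_apply, hz, map_zero]
  obtain ⟨w, rfl⟩ := (lTensor_exact P hab hb z).1 h1
  have h2 : a.lTensor Q (g.rTensor X w) = 0 := by
    rw [← LinearMap.comp_apply, LinearMap.lTensor_comp_rTensor,
      ← LinearMap.rTensor_comp_lTensor, LinearMap.comp_apply, hz]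
  have h3 := LocFlat.lTensor_injective_of_flat_coker a b hab hb ha Q (h2.trans (map_zero _).symm)
  rw [Module.Flat.rTensor_preserves_injective_linearMap (M := X) g hg (h3.trans (map_zero _).symm),
    map_zero]

theorem proj_surjective (n : ℕ) : Surjective (proj f n) := Submodule.factor_surjective (Ideal.pow_le_pow_right n.le_succ)

attribute [local irreducible] gr proj

variable (A : Type u) [CommRing A] [Algebra A B]

/-- If `B/J` is flat over `A` then so is every `B/J^n`. -/
theorem flat_quotient_pow (hq : CAlgX.IsQuasiRegular f)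
    [Module.Flat A (B ⧸ Ideal.span (Set.range f))] :
    ∀ n : ℕ, Module.Flat A (B ⧸ Ideal.span (Set.range f) ^ n)
  | 0 => by
    haveI : Subsingleton (B ⧸ Ideal.span (Set.range f) ^ 0) :=
      Ideal.Quotient.subsingleton_iff.2 (by rw [pow_zero, Ideal.one_eq_top])
    infer_instance
  | n + 1 => by
    haveI := flat_quotient_pow hq n
    classical
    haveI : Module.Flat A (Π₀ _ : Mon r n, B ⧸ Ideal.span (Set.range f)) := inferInstance
    haveI : Module.Flat A (Mon r n → B ⧸ Ideal.span (Set.range f)) :=
      Module.Flat.of_linearEquiv (DFinsupp.linearEquivFunOnFintype (R := A)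
        (M := fun _ : Mon r n => B ⧸ Ideal.span (Set.range f))).symm
    let a : (Mon r n → B ⧸ Ideal.span (Set.range f)) →ₗ[A] B ⧸ Ideal.span (Set.range f) ^ (n + 1) :=
      (gr f n).restrictScalars A
    let b : (B ⧸ Ideal.span (Set.range f) ^ (n + 1)) →ₗ[A] B ⧸ Ideal.span (Set.range f) ^ n :=
      (proj f n).restrictScalars A
    exact flat_of_exact a b (exact_gr f n) (proj_surjective f n) (injective_gr f hq n)

variable (A' : Type u) [CommRing A'] [Algebra A A']

/-- Base change of a quasi-regular sequence, when the graded maps stay injective. -/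
theorem isQuasiRegular_tensor (hinj : ∀ n, Injective (((gr f n).restrictScalars A).lTensor A')) :
    CAlgX.IsQuasiRegular (fun i => ((1 : A') ⊗ₜ[A] f i : A' ⊗[A] B)) := by
  classical
  intro n P hP hev d
  let J := Ideal.span (Set.range f)
  let f' : Fin r → A' ⊗[A] B := fun i => 1 ⊗ₜ[A] f i
  let J' := Ideal.span (Set.range f')
  let ι : B →ₐ[A] A' ⊗[A] B := Algebra.TensorProduct.includeRight
  have hJ : J' = J.map ι := by
    rw [Ideal.map_span, ← Set.range_comp]
    rfl
  have hmk : ∀ (K : Ideal B) (w : A' ⊗[A] B),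
      ((K.mkQ).restrictScalars A).lTensor A' w = 0 ↔ w ∈ K.map ι := by
    intro K w
    have hex := lTensor_exact A' (f := (K.restrictScalars A).subtype)
      (g := (K.mkQ).restrictScalars A) (by
        intro y
        simp only [LinearMap.coe_restrictScalars, Submodule.mkQ_apply, Submodule.Quotient.mk_eq_zero,
          Set.mem_range, Submodule.subtype_apply]
        exact ⟨fun h => ⟨⟨y, h⟩, rfl⟩, fun ⟨z, hz⟩ => hz ▸ z.2⟩)
      (Submodule.mkQ_surjective K)
    rw [hex w, ← Submodule.restrictScalars_mem A, Ideal.map_includeRight_eq]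
    rfl
  by_cases hd : d.degree = n
  swap
  · rw [hP.coeff_eq_zero hd]; exact zero_mem _
  let c : Mon r n → A' ⊗[A] B := fun d => P.coeff d.1
  let q : (Mon r n → B) →ₗ[A] (Mon r n → B ⧸ J) :=
    LinearMap.pi fun d => (J.mkQ).restrictScalars A ∘ₗ LinearMap.proj d
  obtain ⟨z, hz⟩ := (TensorProduct.piRight A A A' (fun _ : Mon r n => B)).surjective c
  let pr : (A' ⊗[A] (Mon r n → B)) → Mon r n → A' ⊗[A] B :=
    fun z d => (LinearMap.proj (R := A) d).lTensor A' z
  have hpr : ∀ d, pr z d = c d := by
    intro d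
    rw [← hz]
    clear hz
    show (LinearMap.proj (R := A) d).lTensor A' z = _
    induction z with
    | zero => simp
    | tmul a x => simp
    | add x y hx hy => simp [map_add, hx, hy]
  have hval : (((value f n).restrictScalars A).lTensor A') z = MvPolynomial.eval f' P := by
    conv_rhs => rw [← poly_coeff hP, eval_poly]
    show _ = ∑ d, c d * _
    simp only [← hpr]
    clear hz hpr
    induction z with
    | zero => simp [pr]
    | tmul a x =>
      simp only [pr, LinearMap.lTensor_tmul, LinearMap.coe_restrictScalars, value, LinearMap.coe_mk,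
        AddHom.coe_mk, LinearMap.proj_apply, tmul_sum]
      refine Finset.sum_congr rfl fun d _ => ?_
      have : (d.1.prod fun i e => f' i ^ e) = ι (d.1.prod fun i e => f i ^ e) := by
        simp [Finsupp.prod, map_prod, f', ι]
      rw [this, Algebra.TensorProduct.includeRight_apply, Algebra.TensorProduct.tmul_mul_tmul, mul_one]
    | add x y hx hy => simp only [pr, map_add, hx, hy, add_mul, Finset.sum_add_distrib]
  have hcomm : ((gr f n).restrictScalars A).lTensor A' (q.lTensor A' z) =
      (((J ^ (n + 1)).mkQ).restrictScalars A).lTensor A'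
        (((value f n).restrictScalars A).lTensor A' z) := by
    rw [← LinearMap.comp_apply, ← LinearMap.lTensor_comp, ← LinearMap.comp_apply,
      ← LinearMap.lTensor_comp]
    congr 2
    exact LinearMap.ext fun x => gr_mk f n x
  have h0 : q.lTensor A' z = 0 := by
    apply hinj n
    rw [map_zero, hcomm, hmk, hval, Ideal.map_pow, ← hJ]
    exact hev
  have h1 : ((J.mkQ).restrictScalars A).lTensor A' (c ⟨d, (mem_mon d).2 hd⟩) = 0 := by
    rw [← hpr, ← LinearMap.comp_apply, ← LinearMap.lTensor_comp,
      show (J.mkQ).restrictScalars A ∘ₗ LinearMap.proj (R := A) ⟨d, (mem_mon d).2 hd⟩ =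
        LinearMap.proj (R := A) (φ := fun _ : Mon r n => B ⧸ J) ⟨d, (mem_mon d).2 hd⟩ ∘ₗ q from rfl,
      LinearMap.lTensor_comp, LinearMap.comp_apply, h0, map_zero]
  rw [hmk, ← hJ] at h1
  exact h1

/-- Base change when `B/J` is flat. -/
theorem isQuasiRegular_baseChange (hq : CAlgX.IsQuasiRegular f)
    [Module.Flat A (B ⧸ Ideal.span (Set.range f))] :
    CAlgX.IsQuasiRegular (fun i => ((1 : A') ⊗ₜ[A] f i : A' ⊗[A] B)) :=
  isQuasiRegular_tensor f A A' fun n => by
    haveI := flat_quotient_pow f A hq n
    let b : (B ⧸ Ideal.span (Set.range f) ^ (n + 1)) →ₗ[A] B ⧸ Ideal.span (Set.range f) ^ n :=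
      (proj f n).restrictScalars A
    exact LocFlat.lTensor_injective_of_flat_coker ((gr f n).restrictScalars A) b (exact_gr f n)
      (proj_surjective f n) (injective_gr f hq n) A'

variable {f}

/-- Transport along a ring isomorphism. -/
theorem isQuasiRegular_of_ringEquiv {C : Type u} [CommRing C] (e : B ≃+* C)
    (hq : CAlgX.IsQuasiRegular f) : CAlgX.IsQuasiRegular (fun i => e (f i)) := by
  intro n P hP hev d
  have hP' := hP.map (e.symm : C →+* B)
  have hspan : (Ideal.span (Set.range fun i => e (f i))).map (e.symm : C →+* B) =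
      Ideal.span (Set.range f) := by
    rw [Ideal.map_span, ← Set.range_comp]
    congr 1
    ext
    simp
  have h := hq n _ hP' (by
    have h1 : MvPolynomial.eval f (MvPolynomial.map (e.symm : C →+* B) P) =
        e.symm (MvPolynomial.eval (fun i => e (f i)) P) := by
      rw [MvPolynomial.eval_map]
      refine Eq.trans ?_ (MvPolynomial.eval₂_comp (e.symm : C →+* B) (fun i => e (f i)) P).symm
      congr 1
      funext i
      simp
    rw [h1, ← hspan, ← Ideal.map_pow]
    exact Ideal.mem_map_of_mem _ hev) d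
  rw [MvPolynomial.coeff_map] at h
  have := Ideal.mem_map_of_mem (e : B →+* C) h
  rw [Ideal.map_span, ← Set.range_comp] at this
  simpa [Function.comp_def] using this

/-- Quasi-regularity passes to flat algebras. -/
theorem isQuasiRegular_of_flat {C : Type u} [CommRing C] [Algebra B C] [Module.Flat B C]
    (hq : CAlgX.IsQuasiRegular f) : CAlgX.IsQuasiRegular (fun i => algebraMap B C (f i)) := by
  have h := isQuasiRegular_tensor f B C fun n =>
    Module.Flat.lTensor_preserves_injective_linearMap _ (injective_gr f hq n)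
  have h2 := isQuasiRegular_of_ringEquiv (Algebra.TensorProduct.rid B B C).toRingEquiv h
  convert h2 using 2 with i
  simp [Algebra.TensorProduct.rid_tmul, Algebra.smul_def]

end Groth.Agent.CAlg48.QRBase
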