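import Groth.Agent.CAlg48.ColimBC

/-!
# Properties of base changes descend to some index of a colimit
-/

namespace Groth.Agent.CAlg48.ColimBC

open TensorProduct

universe u w

variable {B : Type u} [CommRing B] {ι : Type w} {G : ι → Type u} [∀ i, CommRing (G i)]
  [∀ i, Algebra B (G i)] {A : Type u} [CommRing A] [Algebra B A] {g : ∀ i, G i →ₐ[B] A}
  {C : Type u} [CommRing C] [Algebra B C]

/-- Finitely many elements of a tensor product die along one transition map. -/
theorem IsColim.kill_rTensor_family (hc : IsColim g) (M : Type u) [AddCommGroup M] [Module B M] {i : ι}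
    {n : Type*} [Finite n] (x : n → G i ⊗[B] M) (hx : ∀ t, (g i).toLinearMap.rTensor M (x t) = 0) :
    ∃ (j : ι) (φ : G i →ₐ[B] G j), (g j).comp φ = g i ∧ ∀ t, φ.toLinearMap.rTensor M (x t) = 0 := by
  classical
  have := Fintype.ofFinite n
  suffices ∀ s : Finset n, ∃ (j : ι) (φ : G i →ₐ[B] G j),
      (g j).comp φ = g i ∧ ∀ t ∈ s, φ.toLinearMap.rTensor M (x t) = 0 by
    obtain ⟨j, φ, h₁, h₂⟩ := this Finset.univ
    exact ⟨j, φ, h₁, fun t => h₂ t (Finset.mem_univ t)⟩
  intro s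
  induction s using Finset.induction_on with
  | empty => exact ⟨i, AlgHom.id B _, AlgHom.comp_id _, by simp⟩
  | insert a s _ ih =>
    obtain ⟨j, φ, hφ, hs⟩ := ih
    obtain ⟨k, ψ, hψ, ha⟩ := hc.kill_rTensor M j (φ.toLinearMap.rTensor M (x a)) (by
      rw [← LinearMap.rTensor_comp_apply,
        show (g j).toLinearMap.comp φ.toLinearMap = (g i).toLinearMap from congrArg AlgHom.toLinearMap hφ]
      exact hx a)
    refine ⟨k, ψ.comp φ, by rw [← AlgHom.comp_assoc, hψ, hφ], fun t ht => ?_⟩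
    rw [show (ψ.comp φ).toLinearMap = ψ.toLinearMap.comp φ.toLinearMap from rfl, LinearMap.rTensor_comp_apply]
    rcases Finset.mem_insert.mp ht with rfl | ht
    · exact ha
    · rw [hs t ht, map_zero]

/-- Finitely many elements of a tensor product lift to one index above a given one. -/
theorem IsColim.exists_lift_rTensor_family (hc : IsColim g) (M : Type u) [AddCommGroup M] [Module B M]
    (i₀ : ι) {n : Type*} [Finite n] (a : n → A ⊗[B] M) :
    ∃ (i : ι) (φ : G i₀ →ₐ[B] G i) (x : n → G i ⊗[B] M),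
      (g i).comp φ = g i₀ ∧ ∀ t, (g i).toLinearMap.rTensor M (x t) = a t := by
  classical
  have := Fintype.ofFinite n
  suffices ∀ s : Finset n, ∃ (i : ι) (φ : G i₀ →ₐ[B] G i), (g i).comp φ = g i₀ ∧
      ∀ t ∈ s, ∃ x, (g i).toLinearMap.rTensor M x = a t by
    obtain ⟨i, φ, h₁, h₂⟩ := this Finset.univ
    choose x hx using fun t => h₂ t (Finset.mem_univ t)
    exact ⟨i, φ, x, h₁, hx⟩
  intro s
  induction s using Finset.induction_on with
  | empty => exact ⟨i₀, AlgHom.id B _, AlgHom.comp_id _, by simp⟩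
  | insert b s _ ih =>
    obtain ⟨i, φ, hφ, hs⟩ := ih
    obtain ⟨j, y, hy⟩ := hc.surj_rTensor M (a b)
    obtain ⟨k, ψ₁, ψ₂, h₁, h₂⟩ := hc.dir i j
    refine ⟨k, ψ₁.comp φ, by rw [← AlgHom.comp_assoc, h₁, hφ], fun t ht => ?_⟩
    rcases Finset.mem_insert.mp ht with rfl | ht
    · refine ⟨ψ₂.toLinearMap.rTensor M y, ?_⟩
      rw [← LinearMap.rTensor_comp_apply,
        show (g k).toLinearMap.comp ψ₂.toLinearMap = (g j).toLinearMap from congrArg AlgHom.toLinearMap h₂, hy]
    · obtain ⟨x, hx⟩ := hs t ht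
      refine ⟨ψ₁.toLinearMap.rTensor M x, ?_⟩
      rw [← LinearMap.rTensor_comp_apply,
        show (g k).toLinearMap.comp ψ₁.toLinearMap = (g i).toLinearMap from congrArg AlgHom.toLinearMap h₁, hx]

/-- An algebra hom out of `P ⊗ C` is determined by the images of the `1 ⊗ c`. -/
lemma range_eq_top_of_mem {P : Type u} [CommRing P] [Algebra B P] {s : Set C} (hs : Algebra.adjoin B s = ⊤)
    (S : Subalgebra P (P ⊗[B] C)) (h : ∀ c ∈ s, (1 : P) ⊗ₜ[B] c ∈ S) : S = ⊤ := by
  have h1 : ∀ c : C, (1 : P) ⊗ₜ[B] c ∈ S := by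
    intro c
    have hle : Algebra.adjoin B s ≤ (S.restrictScalars B).comap Algebra.TensorProduct.includeRight :=
      Algebra.adjoin_le h
    exact hle (hs ▸ Algebra.mem_top)
  rw [eq_top_iff]
  rintro x -
  induction x using TensorProduct.induction_on with
  | zero => exact zero_mem _
  | tmul p c =>
    have : p ⊗ₜ[B] c = algebraMap P (P ⊗[B] C) p * (1 ⊗ₜ[B] c) := by simp
    rw [this]
    exact mul_mem (S.algebraMap_mem p) (h1 c)
  | add a b ha hb => exact add_mem ha hb

/-- Surjectivity descends. -/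
theorem IsColim.exists_surjective (hc : IsColim g) [Algebra.FiniteType B C]
    (h : Function.Surjective (algebraMap A (A ⊗[B] C))) :
    ∃ i, Function.Surjective (algebraMap (G i) (G i ⊗[B] C)) := by
  classical
  obtain ⟨s, hs⟩ := (inferInstance : Algebra.FiniteType B C).out
  choose a ha using fun c : s => h (1 ⊗ₜ[B] (c : C))
  obtain ⟨i, x, hx⟩ := hc.exists_lift_family a
  obtain ⟨j, φ, hφ, hj⟩ := hc.kill_rTensor_family C (fun c : s => x c ⊗ₜ[B] (1 : C) - 1 ⊗ₜ[B] (c : C)) (by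
    intro c
    simp only [map_sub, LinearMap.rTensor_tmul, AlgHom.toLinearMap_apply, map_one, hx]
    rw [← ha c, Algebra.TensorProduct.algebraMap_apply, Algebra.algebraMap_self, RingHom.id_apply, sub_self])
  refine ⟨j, fun y => ?_⟩
  have := range_eq_top_of_mem (P := G j) hs (Algebra.ofId (G j) (G j ⊗[B] C)).range fun c hc => ⟨φ (x ⟨c, hc⟩), by
    have h0 := hj ⟨c, hc⟩
    simp only [map_sub, LinearMap.rTensor_tmul, AlgHom.toLinearMap_apply, map_one, sub_eq_zero] at h0
    simpa [Algebra.ofId_apply] using h0⟩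
  exact (this ▸ Algebra.mem_top : y ∈ (Algebra.ofId (G j) (G j ⊗[B] C)).range)

/-- Bijectivity descends. -/
theorem IsColim.exists_bijective (hc : IsColim g) [Algebra.FinitePresentation B C]
    (h : Function.Bijective (algebraMap A (A ⊗[B] C))) :
    ∃ i, Function.Bijective (algebraMap (G i) (G i ⊗[B] C)) := by
  classical
  let e : A ≃ₐ[A] A ⊗[B] C := AlgEquiv.ofBijective (Algebra.ofId A _) h
  obtain ⟨i, v, hv⟩ := hc.exists_hom_lift C
    ((e.symm.toAlgHom.restrictScalars B).comp Algebra.TensorProduct.includeRight)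
  obtain ⟨s, hs⟩ := (inferInstance : Algebra.FiniteType B C).out
  obtain ⟨j, φ, hφ, hj⟩ := hc.kill_rTensor_family C (fun c : s => v c ⊗ₜ[B] (1 : C) - 1 ⊗ₜ[B] (c : C)) (by
    intro c
    simp only [map_sub, LinearMap.rTensor_tmul, AlgHom.toLinearMap_apply, map_one, sub_eq_zero]
    have h1 : g i (v c) = e.symm (1 ⊗ₜ[B] (c : C)) := AlgHom.congr_fun hv c
    have h2 : algebraMap A (A ⊗[B] C) (e.symm (1 ⊗ₜ[B] (c : C))) = 1 ⊗ₜ[B] (c : C) :=
      e.apply_symm_apply _
    rw [h1]
    rwa [Algebra.TensorProduct.algebraMap_apply, Algebra.algebraMap_self, RingHom.id_apply] at h2)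
  let r : G j ⊗[B] C →ₐ[G j] G j :=
    Algebra.TensorProduct.lift (AlgHom.id (G j) (G j)) (φ.comp v) fun _ _ => Commute.all _ _
  refine ⟨j, fun a b hab => ?_, fun y => ?_⟩
  · have := congrArg r hab
    simpa [r] using this
  · have := range_eq_top_of_mem (P := G j) hs (Algebra.ofId (G j) (G j ⊗[B] C)).range fun c hc => ⟨φ (v c), by
      have h0 := hj ⟨c, hc⟩
      simp only [map_sub, LinearMap.rTensor_tmul, AlgHom.toLinearMap_apply, map_one, sub_eq_zero] at h0
      simpa [Algebra.ofId_apply] using h0⟩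
    exact (this ▸ Algebra.mem_top : y ∈ (Algebra.ofId (G j) (G j ⊗[B] C)).range)

lemma isIntegral_map {P Q : Type u} [CommRing P] [Algebra B P] [CommRing Q] [Algebra B Q] (φ : P →ₐ[B] Q)
    {c : C} (h : IsIntegral P ((1 : P) ⊗ₜ[B] c)) : IsIntegral Q ((1 : Q) ⊗ₜ[B] c) := by
  have h1 := h.map_of_comp_eq (φ : P →+* Q)
    (Algebra.TensorProduct.map φ (AlgHom.id B C) : P ⊗[B] C →+* Q ⊗[B] C)
    (RingHom.ext fun p => by simp)
  simpa using h1

/-- Finiteness descends. -/
theorem IsColim.exists_finite (hc : IsColim g) [Algebra.FiniteType B C]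
    (h : Module.Finite A (A ⊗[B] C)) : ∃ i, Module.Finite (G i) (G i ⊗[B] C) := by
  classical
  obtain ⟨s, hs⟩ := (inferInstance : Algebra.FiniteType B C).out
  have step : ∀ c : C, ∃ i, IsIntegral (G i) ((1 : G i) ⊗ₜ[B] c) := by
    intro c
    obtain ⟨P, hP, hP0⟩ := Algebra.IsIntegral.isIntegral (R := A) ((1 : A) ⊗ₜ[B] c)
    set n := P.natDegree
    obtain ⟨i, x, hx⟩ := hc.exists_lift_family fun t : Fin n => P.coeff t
    let z : G i ⊗[B] C := (1 : G i) ⊗ₜ[B] (c ^ n) + ∑ t : Fin n, x t ⊗ₜ[B] (c ^ (t : ℕ))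
    have hz : (g i).toLinearMap.rTensor C z = 0 := by
      rw [Polynomial.eval₂_eq_sum_range, Finset.sum_range_succ, hP.coeff_natDegree, map_one, one_mul,
        Finset.sum_range] at hP0
      simp only [z, map_add, map_sum, LinearMap.rTensor_tmul, AlgHom.toLinearMap_apply, map_one, hx]
      rw [← hP0, add_comm]
      simp [Algebra.TensorProduct.tmul_pow, Algebra.TensorProduct.algebraMap_apply, n]
    obtain ⟨j, φ, -, hj⟩ := hc.kill_rTensor C i z hz
    refine ⟨j, Polynomial.X ^ n + ∑ t : Fin n, Polynomial.C (φ (x t)) * Polynomial.X ^ (t : ℕ), ?_, ?_⟩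
    · refine Polynomial.monic_X_pow_add ?_
      exact Polynomial.degree_sum_fin_lt _
    · simp only [z, map_add, map_sum, LinearMap.rTensor_tmul, AlgHom.toLinearMap_apply, map_one] at hj
      rw [← hj]
      simp [Polynomial.eval₂_finset_sum, Algebra.TensorProduct.tmul_pow, Algebra.TensorProduct.algebraMap_apply]
  suffices ∀ t : Finset C, ∃ i, ∀ c ∈ t, IsIntegral (G i) ((1 : G i) ⊗ₜ[B] c) by
    obtain ⟨i, hi⟩ := this s
    refine ⟨i, ?_⟩
    have : Algebra.IsIntegral (G i) (G i ⊗[B] C) := by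
      have := range_eq_top_of_mem (P := G i) hs (integralClosure (G i) (G i ⊗[B] C)) hi
      exact ⟨fun y => (this ▸ Algebra.mem_top : y ∈ integralClosure (G i) (G i ⊗[B] C))⟩
    exact Algebra.IsIntegral.finite
  intro t
  induction t using Finset.induction_on with
  | empty => obtain ⟨i⟩ := hc.nonempty; exact ⟨i, by simp⟩
  | insert a t _ ih =>
    obtain ⟨i, hi⟩ := ih
    obtain ⟨j, hj⟩ := step a
    obtain ⟨k, φ, ψ, -, -⟩ := hc.dir i j
    refine ⟨k, fun c hc' => ?_⟩
    rcases Finset.mem_insert.mp hc' with rfl | hc'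
    · exact isIntegral_map ψ hj
    · exact isIntegral_map φ (hi c hc')

/-- Formal unramifiedness descends, above any given index. -/
theorem IsColim.exists_formallyUnramified_above (hc : IsColim g) [Algebra.FiniteType B C]
    (h : Algebra.FormallyUnramified A (A ⊗[B] C)) (i₀ : ι) :
    ∃ (i : ι) (φ : G i₀ →ₐ[B] G i), (g i).comp φ = g i₀ ∧
      Algebra.FormallyUnramified (G i) (G i ⊗[B] C) := by
  classical
  obtain ⟨s, hs⟩ := (inferInstance : Algebra.FiniteType B C).out
  let μ : C ⊗[B] C →ₐ[B] C := Algebra.TensorProduct.lmul' B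
  have : Algebra.EssFiniteType A (A ⊗[B] C) := inferInstance
  obtain ⟨e, he1, he2⟩ := Algebra.FormallyUnramified.iff_exists_tensorProduct.mp h
  -- transport the separability idempotent to `A ⊗ (C ⊗ C)`
  let l : A ⊗[B] C →ₐ[A] A ⊗[B] (C ⊗[B] C) :=
    Algebra.TensorProduct.map (AlgHom.id A A) Algebra.TensorProduct.includeLeft
  let r : A ⊗[B] C →ₐ[A] A ⊗[B] (C ⊗[B] C) :=
    Algebra.TensorProduct.map (AlgHom.id A A) Algebra.TensorProduct.includeRight
  let Ψ : (A ⊗[B] C) ⊗[A] (A ⊗[B] C) →ₐ[A] A ⊗[B] (C ⊗[B] C) :=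
    Algebra.TensorProduct.lift l r fun _ _ => Commute.all _ _
  have hμΨ : ∀ y, Algebra.TensorProduct.map (AlgHom.id A A) μ (Ψ y) = Algebra.TensorProduct.lmul' A y := by
    intro y
    induction y using TensorProduct.induction_on with
    | zero => simp
    | tmul p q =>
      simp only [Ψ, Algebra.TensorProduct.lift_tmul, map_mul, Algebra.TensorProduct.lmul'_apply_tmul]
      congr 1
      · show ((Algebra.TensorProduct.map (AlgHom.id A A) μ).comp l) p = p
        rw [← Algebra.TensorProduct.map_comp]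
        have : μ.comp Algebra.TensorProduct.includeLeft = AlgHom.id B C := by ext; simp [μ]
        rw [this, AlgHom.id_comp, Algebra.TensorProduct.map_id, AlgHom.id_apply]
      · show ((Algebra.TensorProduct.map (AlgHom.id A A) μ).comp r) q = q
        rw [← Algebra.TensorProduct.map_comp]
        have : μ.comp Algebra.TensorProduct.includeRight = AlgHom.id B C := by ext; simp [μ]
        rw [this, AlgHom.id_comp, Algebra.TensorProduct.map_id, AlgHom.id_apply]
    | add a b ha hb => simp [ha, hb]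
  obtain ⟨i, φ₀, z, hφ₀, hz⟩ := hc.exists_lift_rTensor_family (C ⊗[B] C) i₀ fun _ : Unit => Ψ e
  let gM : G i ⊗[B] (C ⊗[B] C) →ₐ[B] A ⊗[B] (C ⊗[B] C) := Algebra.TensorProduct.map (g i) (AlgHom.id B _)
  have hzM : gM (z ()) = Ψ e := hz ()
  obtain ⟨j, φ, hφ, hj⟩ := hc.kill_rTensor_family (C ⊗[B] C)
    (fun c : s => ((1 : G i) ⊗ₜ[B] ((1 : C) ⊗ₜ[B] (c : C) - (c : C) ⊗ₜ[B] (1 : C))) * z ()) (by
      intro c
      show gM (_ * z ()) = 0
      rw [map_mul, hzM]
      have := congrArg Ψ (he1 (1 ⊗ₜ[B] (c : C)))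
      rw [map_mul, map_zero] at this
      refine Eq.trans ?_ this
      congr 1
      simp [gM, Ψ, l, r, TensorProduct.tmul_sub, Algebra.TensorProduct.one_def])
  have hμ : (g j).toLinearMap.rTensor C
      (Algebra.TensorProduct.map (AlgHom.id B (G j)) μ (Algebra.TensorProduct.map φ (AlgHom.id B _) (z ())) - 1) = 0 := by
    show Algebra.TensorProduct.map (g j) (AlgHom.id B C) _ = 0
    rw [map_sub, map_one, ← AlgHom.comp_apply, ← AlgHom.comp_apply, ← Algebra.TensorProduct.map_comp,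
      ← Algebra.TensorProduct.map_comp, AlgHom.comp_id, hφ, AlgHom.id_comp, AlgHom.comp_id]
    have h3 : Algebra.TensorProduct.map (g i) μ (z ()) = Algebra.TensorProduct.map (AlgHom.id A A) μ (gM (z ())) := by
      induction z () using TensorProduct.induction_on with
      | zero => simp
      | tmul p q => simp [gM]
      | add a b ha hb => simp [ha, hb]
    rw [h3, hzM, hμΨ, he2, sub_self]
  obtain ⟨k, ψ, hψ, hk⟩ := hc.kill_rTensor C j _ hμ
  refine ⟨k, (ψ.comp φ).comp φ₀, by rw [← AlgHom.comp_assoc, ← AlgHom.comp_assoc, hψ, hφ, hφ₀], ?_⟩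
  let zk : G k ⊗[B] (C ⊗[B] C) := Algebra.TensorProduct.map (ψ.comp φ) (AlgHom.id B _) (z ())
  -- back to `T ⊗ T`
  let inc : C →ₐ[B] G k ⊗[B] C := Algebra.TensorProduct.includeRight
  let d : C ⊗[B] C →ₐ[B] (G k ⊗[B] C) ⊗[G k] (G k ⊗[B] C) :=
    Algebra.TensorProduct.lift
      ((Algebra.TensorProduct.includeLeft (R := G k) (S := B) (B := G k ⊗[B] C)).comp inc)
      (((Algebra.TensorProduct.includeRight (R := G k) (A := G k ⊗[B] C)).restrictScalars B).comp inc)
      fun _ _ => Commute.all _ _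
  let Φ : G k ⊗[B] (C ⊗[B] C) →ₐ[G k] (G k ⊗[B] C) ⊗[G k] (G k ⊗[B] C) :=
    Algebra.TensorProduct.lift (Algebra.ofId (G k) _) d fun _ _ => Commute.all _ _
  refine Algebra.FormallyUnramified.iff_exists_tensorProduct.mpr ⟨Φ zk, ?_, ?_⟩
  · let S : Subalgebra (G k) (G k ⊗[B] C) :=
      { carrier := {t | ((1 : G k ⊗[B] C) ⊗ₜ[G k] t - t ⊗ₜ[G k] (1 : G k ⊗[B] C)) * Φ zk = 0}
        zero_mem' := by simp
        one_mem' := by simp
        add_mem' := by
          intro a b ha hb
          simp only [Set.mem_setOf_eq, TensorProduct.tmul_add, TensorProduct.add_tmul] at ha hb ⊢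
          linear_combination ha + hb
        mul_mem' := by
          intro a b ha hb
          simp only [Set.mem_setOf_eq] at ha hb ⊢
          have e1 : (1 : G k ⊗[B] C) ⊗ₜ[G k] (a * b) - (a * b) ⊗ₜ[G k] (1 : G k ⊗[B] C) =
              (1 ⊗ₜ[G k] a) * (1 ⊗ₜ[G k] b - b ⊗ₜ[G k] 1) + (b ⊗ₜ[G k] 1) * (1 ⊗ₜ[G k] a - a ⊗ₜ[G k] 1) := by
            simp [mul_sub, Algebra.TensorProduct.tmul_mul_tmul, mul_comm]
          rw [e1, add_mul, mul_assoc, mul_assoc, ha, hb, mul_zero, mul_zero, add_zero]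
        algebraMap_mem' := by
          intro p
          simp only [Set.mem_setOf_eq]
          rw [Algebra.algebraMap_eq_smul_one, TensorProduct.tmul_smul, TensorProduct.smul_tmul', sub_self,
            zero_mul] }
    have hS : S = ⊤ := range_eq_top_of_mem hs S fun c hc' => by
      show ((1 : G k ⊗[B] C) ⊗ₜ[G k] ((1 : G k) ⊗ₜ[B] c) - _) * Φ zk = 0
      have h0 := congrArg (Algebra.TensorProduct.map ψ (AlgHom.id B (C ⊗[B] C))) (hj ⟨c, hc'⟩)
      have h1 : ((1 : G k) ⊗ₜ[B] ((1 : C) ⊗ₜ[B] c - c ⊗ₜ[B] (1 : C))) * zk = 0 := by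
        rw [map_zero] at h0
        refine Eq.trans ?_ h0
        show _ = Algebra.TensorProduct.map ψ (AlgHom.id B _) (Algebra.TensorProduct.map φ (AlgHom.id B _) _)
        rw [← AlgHom.comp_apply, ← Algebra.TensorProduct.map_comp, AlgHom.id_comp, map_mul]
        simp [zk]
      have h2 := congrArg Φ h1
      rw [map_mul, map_zero] at h2
      refine Eq.trans ?_ h2
      congr 1
      simp [Φ, d, inc, Algebra.ofId_apply, Algebra.TensorProduct.one_def, TensorProduct.tmul_sub]
    exact fun t => (hS ▸ Algebra.mem_top : t ∈ S)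
  · have h4 : ∀ y, Algebra.TensorProduct.lmul' (G k) (Φ y) =
        Algebra.TensorProduct.map (AlgHom.id B (G k)) μ y := by
      intro y
      induction y using TensorProduct.induction_on with
      | zero => simp
      | tmul p q =>
        induction q using TensorProduct.induction_on with
        | zero => simp
        | tmul c c' => simp [Φ, d, inc, μ, Algebra.ofId_apply]
        | add a b ha hb => simp [TensorProduct.tmul_add, map_add] at ha hb ⊢; rw [ha, hb]
      | add a b ha hb => simp [ha, hb]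
    rw [h4]
    have h5 : Algebra.TensorProduct.map ψ (AlgHom.id B C)
        (Algebra.TensorProduct.map (AlgHom.id B (G j)) μ (Algebra.TensorProduct.map φ (AlgHom.id B _) (z ()))) = 1 := by
      have := sub_eq_zero.mp ((map_sub (Algebra.TensorProduct.map ψ (AlgHom.id B C)) _ _).symm.trans hk)
      rwa [map_one] at this
    rw [← h5]
    simp only [zk, ← AlgHom.comp_apply, ← Algebra.TensorProduct.map_comp, AlgHom.id_comp, AlgHom.comp_id]

/-- An algebra mapping onto `C` with square-zero kernel through which maps to square-zero extensions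
factor. -/
theorem exists_sqZero_cover [Algebra.FiniteType B C] :
    ∃ (Q : Type u) (_ : CommRing Q) (_ : Algebra B Q) (πQ : Q →ₐ[B] C), Function.Surjective πQ ∧
      RingHom.ker πQ.toRingHom ^ 2 = ⊥ ∧
      ∀ (R' : Type u) [CommRing R'] [Algebra B R'] (J : Ideal R'), J ^ 2 = ⊥ → ∀ u : C →ₐ[B] R' ⧸ J,
        ∃ w : Q →ₐ[B] R', (Ideal.Quotient.mkₐ B J).comp w = u.comp πQ := by
  obtain ⟨n, π, hπ⟩ := Algebra.FiniteType.iff_quotient_mvPolynomial''.mp ‹Algebra.FiniteType B C›
  set I : Ideal (MvPolynomial (Fin n) B) := RingHom.ker π.toRingHom with hI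
  let πQ : MvPolynomial (Fin n) B ⧸ I ^ 2 →ₐ[B] C :=
    Ideal.Quotient.liftₐ (I ^ 2) π fun a ha => Ideal.pow_le_self two_ne_zero ha
  refine ⟨_, inferInstance, inferInstance, πQ, fun c => ?_, ?_, fun R' _ _ J hJ u => ?_⟩
  · obtain ⟨p, rfl⟩ := hπ c
    exact ⟨Ideal.Quotient.mk _ p, rfl⟩
  · rw [show RingHom.ker πQ.toRingHom = I.map (Ideal.Quotient.mk (I ^ 2)) from ?_, ← Ideal.map_pow,
      Ideal.map_quotient_self]
    refine le_antisymm (fun x hx => ?_) (Ideal.map_le_iff_le_comap.mpr fun x hx => hx)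
    obtain ⟨p, rfl⟩ := Ideal.Quotient.mk_surjective x
    exact Ideal.mem_map_of_mem _ hx
  · choose r hr using fun t => Ideal.Quotient.mk_surjective (I := J) (u (π (MvPolynomial.X t)))
    let w₀ : MvPolynomial (Fin n) B →ₐ[B] R' := MvPolynomial.aeval r
    have hw₀ : ∀ p, Ideal.Quotient.mk J (w₀ p) = u (π p) := by
      have : (Ideal.Quotient.mkₐ B J).comp w₀ = u.comp π :=
        MvPolynomial.algHom_ext fun t => by simp [w₀, hr]
      exact fun p => AlgHom.congr_fun this p
    have hw : ∀ a ∈ I ^ 2, w₀ a = 0 := by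
      intro a ha
      have h1 : I.map w₀ ≤ J := Ideal.map_le_iff_le_comap.mpr fun b hb => by
        rw [Ideal.mem_comap, ← Ideal.Quotient.eq_zero_iff_mem, hw₀, show π b = 0 from hb, map_zero]
      have h2 := Ideal.pow_right_mono h1 2 (Ideal.map_pow w₀ I 2 ▸ Ideal.mem_map_of_mem w₀ ha)
      rwa [hJ, Ideal.mem_bot] at h2
    refine ⟨Ideal.Quotient.liftₐ (I ^ 2) w₀ hw, AlgHom.ext fun q => ?_⟩
    obtain ⟨q, rfl⟩ := Ideal.Quotient.mk_surjective q
    exact hw₀ q

/-- Formal smoothness gives a section of a square-zero cover. -/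
theorem exists_section_of_formallySmooth {P : Type u} [CommRing P] [Algebra B P] {Q : Type u} [CommRing Q]
    [Algebra B Q] (πQ : Q →ₐ[B] C) (hπ : Function.Surjective πQ) (hsq : RingHom.ker πQ.toRingHom ^ 2 = ⊥)
    (h : Algebra.FormallySmooth P (P ⊗[B] C)) :
    ∃ v : C →ₐ[B] P ⊗[B] Q, ∀ c, Algebra.TensorProduct.map (AlgHom.id B P) πQ (v c) = (1 : P) ⊗ₜ[B] c := by
  let θ : P ⊗[B] Q →ₐ[P] P ⊗[B] C := Algebra.TensorProduct.map (AlgHom.id P P) πQ
  have hθ : Function.Surjective θ := LinearMap.lTensor_surjective P (g := πQ.toLinearMap) hπ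
  have hker : IsNilpotent (RingHom.ker (θ : P ⊗[B] Q →+* P ⊗[B] C)) := by
    refine ⟨2, ?_⟩
    have h2 : RingHom.ker (θ : P ⊗[B] Q →+* P ⊗[B] C) =
        (RingHom.ker πQ.toRingHom).map
          ((Algebra.TensorProduct.includeRight : Q →ₐ[B] P ⊗[B] Q) : Q →+* P ⊗[B] Q) :=
      Algebra.TensorProduct.lTensor_ker (A := P) πQ hπ
    rw [h2, ← Ideal.map_pow, hsq, Ideal.map_bot]
    rfl
  let s : P ⊗[B] C →ₐ[P] P ⊗[B] Q :=
    Algebra.FormallySmooth.liftOfSurjective (AlgHom.id P _) θ hθ hker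
  exact ⟨(s.restrictScalars B).comp Algebra.TensorProduct.includeRight,
    fun c => Algebra.FormallySmooth.liftOfSurjective_apply (AlgHom.id P _) θ hθ hker _⟩

/-- A section of a square-zero cover gives formal smoothness. -/
theorem formallySmooth_of_section {P : Type u} [CommRing P] [Algebra B P] {Q : Type u} [CommRing Q]
    [Algebra B Q] (πQ : Q →ₐ[B] C)
    (hQ : ∀ (R' : Type u) [CommRing R'] [Algebra B R'] (J : Ideal R'), J ^ 2 = ⊥ → ∀ u : C →ₐ[B] R' ⧸ J,
      ∃ w : Q →ₐ[B] R', (Ideal.Quotient.mkₐ B J).comp w = u.comp πQ)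
    (v : C →ₐ[B] P ⊗[B] Q) (hv : ∀ c, Algebra.TensorProduct.map (AlgHom.id B P) πQ (v c) = (1 : P) ⊗ₜ[B] c) :
    Algebra.FormallySmooth P (P ⊗[B] C) := by
  refine Algebra.FormallySmooth.of_comp_surjective fun R' _ _ J hJ u => ?_
  letI : Algebra B R' := ((algebraMap P R').comp (algebraMap B P)).toAlgebra
  haveI : IsScalarTower B P R' := IsScalarTower.of_algebraMap_eq' rfl
  obtain ⟨w, hw⟩ := hQ R' J hJ ((u.restrictScalars B).comp Algebra.TensorProduct.includeRight)
  let W : P ⊗[B] Q →ₐ[P] R' := Algebra.TensorProduct.lift (Algebra.ofId P R') w fun _ _ => Commute.all _ _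
  have hW : ∀ y, Ideal.Quotient.mk J (W y) = u (Algebra.TensorProduct.map (AlgHom.id B P) πQ y) := by
    intro y
    induction y using TensorProduct.induction_on with
    | zero => simp
    | tmul p q =>
      have hp : (p ⊗ₜ[B] πQ q : P ⊗[B] C) = algebraMap P (P ⊗[B] C) p * (1 ⊗ₜ[B] πQ q) := by simp
      show Ideal.Quotient.mk J (algebraMap P R' p * w q) = u (p ⊗ₜ[B] πQ q)
      rw [hp, map_mul, map_mul, AlgHom.commutes]
      exact congrArg (_ * ·) (AlgHom.congr_fun hw q)
    | add a b ha hb => simp [ha, hb]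
  refine ⟨Algebra.TensorProduct.lift (Algebra.ofId P R') ((W.restrictScalars B).comp v)
    fun _ _ => Commute.all _ _, ?_⟩
  refine Algebra.TensorProduct.ext (by ext) (AlgHom.ext fun c => ?_)
  show Ideal.Quotient.mk J (algebraMap P R' 1 * W (v c)) = u (1 ⊗ₜ[B] c)
  rw [map_one, one_mul, hW, hv]

/-- Smoothness descends, and persists. -/
theorem IsColim.exists_formallySmooth_above (hc : IsColim g) [Algebra.FinitePresentation B C]
    (h : Algebra.FormallySmooth A (A ⊗[B] C)) (i₀ : ι) :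
    ∃ (i : ι) (φ : G i₀ →ₐ[B] G i), (g i).comp φ = g i₀ ∧
      ∀ (k : ι) (_ψ : G i →ₐ[B] G k), Algebra.FormallySmooth (G k) (G k ⊗[B] C) := by
  classical
  obtain ⟨Q, _, _, πQ, hπQ, hsq, hQ⟩ := exists_sqZero_cover (B := B) (C := C)
  obtain ⟨vA, hvA⟩ := exists_section_of_formallySmooth (P := A) πQ hπQ hsq h
  obtain ⟨i₁, v, hv⟩ := (hc.tensor_right Q).exists_hom_lift C vA
  obtain ⟨i, φ₀, φ₁, hφ₀, hφ₁⟩ := hc.dir i₀ i₁
  obtain ⟨gs, hgs⟩ := (inferInstance : Algebra.FiniteType B C).out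
  have hnat : ∀ {P P' : Type u} [CommRing P] [Algebra B P] [CommRing P'] [Algebra B P'] (φ : P →ₐ[B] P')
      (y : P ⊗[B] Q), Algebra.TensorProduct.map φ (AlgHom.id B C) (Algebra.TensorProduct.map (AlgHom.id B P) πQ y) =
        Algebra.TensorProduct.map (AlgHom.id B P') πQ (Algebra.TensorProduct.map φ (AlgHom.id B Q) y) := by
    intro P P' _ _ _ _ φ y
    rw [← AlgHom.comp_apply, ← AlgHom.comp_apply, ← Algebra.TensorProduct.map_comp,
      ← Algebra.TensorProduct.map_comp, AlgHom.comp_id, AlgHom.id_comp, AlgHom.id_comp, AlgHom.comp_id]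
  let v₁ : C →ₐ[B] G i ⊗[B] Q := (Algebra.TensorProduct.map φ₁ (AlgHom.id B Q)).comp v
  obtain ⟨j, φ, hφ, hj⟩ := hc.kill_rTensor_family C (fun c : gs =>
    Algebra.TensorProduct.map (AlgHom.id B (G i)) πQ (v₁ c) - (1 : G i) ⊗ₜ[B] (c : C)) (by
    intro c
    show Algebra.TensorProduct.map (g i) (AlgHom.id B C) _ = 0
    rw [map_sub, hnat, Algebra.TensorProduct.map_tmul, map_one, AlgHom.id_apply, sub_eq_zero]
    show Algebra.TensorProduct.map (AlgHom.id B A) πQ
      (((Algebra.TensorProduct.map (g i) (AlgHom.id B Q)).comp (Algebra.TensorProduct.map φ₁ (AlgHom.id B Q))) (v c)) = _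
    rw [← Algebra.TensorProduct.map_comp, hφ₁, AlgHom.id_comp,
      show Algebra.TensorProduct.map (g i₁) (AlgHom.id B Q) (v c) = vA c from AlgHom.congr_fun hv c, hvA])
  refine ⟨j, φ.comp φ₀, by rw [← AlgHom.comp_assoc, hφ, hφ₀], fun k ψ => ?_⟩
  refine formallySmooth_of_section πQ hQ ((Algebra.TensorProduct.map (ψ.comp φ) (AlgHom.id B Q)).comp v₁) ?_
  have heq : (Algebra.TensorProduct.map (AlgHom.id B (G k)) πQ).comp
      ((Algebra.TensorProduct.map (ψ.comp φ) (AlgHom.id B Q)).comp v₁) = Algebra.TensorProduct.includeRight := by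
    refine AlgHom.ext_of_adjoin_eq_top hgs fun c hc' => ?_
    have h0 : Algebra.TensorProduct.map φ (AlgHom.id B C) _ = 0 := hj ⟨c, hc'⟩
    have h1 := congrArg (Algebra.TensorProduct.map ψ (AlgHom.id B C)) h0
    rw [map_zero, map_sub, map_sub, sub_eq_zero, hnat, hnat, Algebra.TensorProduct.map_tmul,
      Algebra.TensorProduct.map_tmul, map_one, map_one] at h1
    refine Eq.trans ?_ h1
    show Algebra.TensorProduct.map (AlgHom.id B (G k)) πQ
      (Algebra.TensorProduct.map (ψ.comp φ) (AlgHom.id B Q) (v₁ c)) = _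
    congr 1
    show _ = ((Algebra.TensorProduct.map ψ (AlgHom.id B Q)).comp (Algebra.TensorProduct.map φ (AlgHom.id B Q))) (v₁ c)
    rw [← Algebra.TensorProduct.map_comp, AlgHom.id_comp]
  exact fun c => AlgHom.congr_fun heq c

end Groth.Agent.CAlg48.ColimBC
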