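import Mathlib

/-!
# Directed colimits of algebras and base change

A colimit is given by compatible maps `g i : G i → A` which are jointly surjective and whose kernels
die along transition maps.
-/

namespace Groth.Agent.CAlg48.ColimBC

open TensorProduct

variable {R : Type*} [CommRing R] {ι : Type*} {G : ι → Type*} [∀ i, CommRing (G i)]
  [∀ i, Algebra R (G i)] {A : Type*} [CommRing A] [Algebra R A]

/-- `A` is the filtered colimit of the `G i` along the maps `g i`. -/
structure IsColim (g : ∀ i, G i →ₐ[R] A) : Prop where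
  nonempty : Nonempty ι
  dir : ∀ i j, ∃ (k : ι) (φ : G i →ₐ[R] G k) (ψ : G j →ₐ[R] G k),
    (g k).comp φ = g i ∧ (g k).comp ψ = g j
  surj : ∀ a, ∃ i x, g i x = a
  kill : ∀ i x, g i x = 0 → ∃ (j : ι) (φ : G i →ₐ[R] G j), (g j).comp φ = g i ∧ φ x = 0

/-- The form in which the milestones give a colimit. -/
theorem IsColim.of_directed [Preorder ι] [IsDirected ι (· ≤ ·)] [Nonempty ι]
    (f : ∀ i j, i ≤ j → (G i →ₐ[R] G j)) (g : ∀ i, G i →ₐ[R] A)
    (hg : ∀ i j (h : i ≤ j), (g j).comp (f i j h) = g i)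
    (hsurj : ∀ a : A, ∃ i, ∃ x : G i, g i x = a)
    (hker : ∀ i (x : G i), g i x = 0 → ∃ j, ∃ h : i ≤ j, f i j h x = 0) : IsColim g where
  nonempty := inferInstance
  dir i j := by
    obtain ⟨k, h₁, h₂⟩ := directed_of (· ≤ ·) i j
    exact ⟨k, f i k h₁, f j k h₂, hg _ _ _, hg _ _ _⟩
  surj := hsurj
  kill i x hx := by
    obtain ⟨j, h, hj⟩ := hker i x hx
    exact ⟨j, f i j h, hg _ _ _, hj⟩

variable {g : ∀ i, G i →ₐ[R] A}

/-- Finitely many kernel elements die along one transition map. -/
theorem IsColim.kill_finset (hc : IsColim g) {i : ι} (s : Finset (G i)) (hs : ∀ x ∈ s, g i x = 0) :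
    ∃ (j : ι) (φ : G i →ₐ[R] G j), (g j).comp φ = g i ∧ ∀ x ∈ s, φ x = 0 := by
  classical
  induction s using Finset.induction_on with
  | empty => exact ⟨i, AlgHom.id R _, AlgHom.comp_id _, by simp⟩
  | insert a s _ ih =>
    obtain ⟨j, φ, hφ, hφs⟩ := ih fun x hx => hs x (Finset.mem_insert_of_mem hx)
    obtain ⟨k, ψ, hψ, hψa⟩ := hc.kill j (φ a) (by
      rw [← AlgHom.comp_apply, hφ]; exact hs a (Finset.mem_insert_self a s))
    refine ⟨k, ψ.comp φ, by rw [← AlgHom.comp_assoc, hψ, hφ], fun x hx => ?_⟩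
    rcases Finset.mem_insert.mp hx with rfl | hx
    · exact hψa
    · rw [AlgHom.comp_apply, hφs x hx, map_zero]

/-- Finitely many kernel elements die along one transition map. -/
theorem IsColim.kill_family (hc : IsColim g) {i : ι} {n : Type*} [Finite n] (x : n → G i)
    (hx : ∀ t, g i (x t) = 0) :
    ∃ (j : ι) (φ : G i →ₐ[R] G j), (g j).comp φ = g i ∧ ∀ t, φ (x t) = 0 := by
  classical
  have := Fintype.ofFinite n
  obtain ⟨j, φ, hφ, h⟩ := hc.kill_finset (Finset.univ.image x) (by simpa using hx)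
  exact ⟨j, φ, hφ, fun t => h _ (Finset.mem_image_of_mem x (Finset.mem_univ t))⟩

/-- Finitely many elements of the colimit come from one index above a given one. -/
theorem IsColim.exists_lift_finset (hc : IsColim g) (i₀ : ι) (s : Finset A) :
    ∃ (i : ι) (φ : G i₀ →ₐ[R] G i), (g i).comp φ = g i₀ ∧ ∀ a ∈ s, ∃ x, g i x = a := by
  classical
  induction s using Finset.induction_on with
  | empty => exact ⟨i₀, AlgHom.id R _, AlgHom.comp_id _, by simp⟩
  | insert a s _ ih =>
    obtain ⟨i, φ, hφ, hi⟩ := ih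
    obtain ⟨j, x, rfl⟩ := hc.surj a
    obtain ⟨k, ψ₁, ψ₂, h₁, h₂⟩ := hc.dir i j
    refine ⟨k, ψ₁.comp φ, by rw [← AlgHom.comp_assoc, h₁, hφ], fun b hb => ?_⟩
    rcases Finset.mem_insert.mp hb with rfl | hb
    · exact ⟨ψ₂ x, by rw [← AlgHom.comp_apply, h₂]⟩
    · obtain ⟨y, rfl⟩ := hi b hb
      exact ⟨ψ₁ y, by rw [← AlgHom.comp_apply, h₁]⟩

/-- Finitely many elements of the colimit come from one index. -/
theorem IsColim.exists_lift_family (hc : IsColim g) {n : Type*} [Finite n] (a : n → A) :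
    ∃ (i : ι) (x : n → G i), ∀ t, g i (x t) = a t := by
  classical
  have := Fintype.ofFinite n
  obtain ⟨i₀⟩ := hc.nonempty
  obtain ⟨i, _, -, hi⟩ := hc.exists_lift_finset i₀ (Finset.univ.image a)
  choose x hx using fun t => hi (a t) (Finset.mem_image_of_mem a (Finset.mem_univ t))
  exact ⟨i, x, hx⟩

section Tensor

variable (M : Type*) [AddCommGroup M] [Module R M]

theorem IsColim.surj_rTensor (hc : IsColim g) (a : A ⊗[R] M) :
    ∃ i, ∃ x : G i ⊗[R] M, (g i).toLinearMap.rTensor M x = a := by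
  induction a using TensorProduct.induction_on with
  | zero => obtain ⟨i⟩ := hc.nonempty; exact ⟨i, 0, map_zero _⟩
  | tmul a m => obtain ⟨i, x, rfl⟩ := hc.surj a; exact ⟨i, x ⊗ₜ m, rfl⟩
  | add a b ha hb =>
    obtain ⟨i, x, rfl⟩ := ha
    obtain ⟨j, y, rfl⟩ := hb
    obtain ⟨k, φ, ψ, h₁, h₂⟩ := hc.dir i j
    refine ⟨k, φ.toLinearMap.rTensor M x + ψ.toLinearMap.rTensor M y, ?_⟩
    rw [map_add, ← LinearMap.rTensor_comp_apply, ← LinearMap.rTensor_comp_apply]
    rw [show (g k).toLinearMap.comp φ.toLinearMap = (g i).toLinearMap from congrArg AlgHom.toLinearMap h₁,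
      show (g k).toLinearMap.comp ψ.toLinearMap = (g j).toLinearMap from congrArg AlgHom.toLinearMap h₂]

omit [AddCommGroup M] [Module R M] in
lemma coord_rTensor [DecidableEq M] {P Q : Type*} [CommRing P] [Algebra R P] [CommRing Q] [Algebra R Q]
    (φ : P →ₐ[R] Q) (y : P ⊗[R] (M →₀ R)) (m : M) :
    TensorProduct.finsuppScalarRight R R Q M (φ.toLinearMap.rTensor (M →₀ R) y) m =
      φ (TensorProduct.finsuppScalarRight R R P M y m) := by
  classical
  induction y using TensorProduct.induction_on with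
  | zero => simp
  | tmul p v => simp [TensorProduct.finsuppScalarRight_apply_tmul_apply]
  | add a b ha hb => simp [ha, hb]

theorem IsColim.kill_rTensor (hc : IsColim g) (i : ι) (x : G i ⊗[R] M)
    (hx : (g i).toLinearMap.rTensor M x = 0) :
    ∃ (j : ι) (φ : G i →ₐ[R] G j), (g j).comp φ = g i ∧ φ.toLinearMap.rTensor M x = 0 := by
  classical
  let π : (M →₀ R) →ₗ[R] M := Finsupp.linearCombination R id
  have hπ : Function.Surjective π := fun m => ⟨Finsupp.single m 1, by simp [π]⟩
  let K : Submodule R (M →₀ R) := LinearMap.ker π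
  have hex : Function.Exact K.subtype π := LinearMap.exact_subtype_ker_map π
  obtain ⟨y, rfl⟩ := LinearMap.lTensor_surjective (G i) hπ x
  have h1 : π.lTensor A ((g i).toLinearMap.rTensor (M →₀ R) y) = 0 := by
    rw [← LinearMap.comp_apply, LinearMap.lTensor_comp_rTensor, ← LinearMap.rTensor_comp_lTensor,
      LinearMap.comp_apply]
    exact hx
  obtain ⟨w, hw⟩ := ((@lTensor_exact R K (M →₀ R) M _ _ _ _ _ _ _ K.subtype π A _ _ hex hπ) _).mp h1
  obtain ⟨j, z, rfl⟩ := hc.surj_rTensor K w
  obtain ⟨k, φ, ψ, h₁, h₂⟩ := hc.dir i j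
  set d := φ.toLinearMap.rTensor (M →₀ R) y - K.subtype.lTensor (G k) (ψ.toLinearMap.rTensor K z)
  have hd : (g k).toLinearMap.rTensor (M →₀ R) d = 0 := by
    simp only [d, map_sub, ← LinearMap.comp_apply (f := LinearMap.rTensor (M →₀ R) (g k).toLinearMap),
      LinearMap.rTensor_comp_lTensor, ← LinearMap.lTensor_comp_rTensor]
    simp only [LinearMap.comp_apply, ← LinearMap.rTensor_comp_apply]
    rw [show (g k).toLinearMap.comp φ.toLinearMap = (g i).toLinearMap from congrArg AlgHom.toLinearMap h₁,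
      show (g k).toLinearMap.comp ψ.toLinearMap = (g j).toLinearMap from congrArg AlgHom.toLinearMap h₂,
      hw, sub_self]
  let c := TensorProduct.finsuppScalarRight R R (G k) M d
  obtain ⟨l, χ, hχ, hχc⟩ := hc.kill_finset (c.support.image c) (by
    intro a ha
    obtain ⟨m, -, rfl⟩ := Finset.mem_image.mp ha
    rw [← coord_rTensor M (g k) d m, hd]
    simp)
  have hχd : χ.toLinearMap.rTensor (M →₀ R) d = 0 := by
    refine (TensorProduct.finsuppScalarRight R R (G l) M).injective (Finsupp.ext fun m => ?_)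
    rw [coord_rTensor, map_zero, Finsupp.zero_apply]
    by_cases hm : c m = 0
    · exact (congrArg χ hm).trans (map_zero χ)
    · exact hχc _ (Finset.mem_image_of_mem c (Finsupp.mem_support_iff.mpr hm))
  refine ⟨l, χ.comp φ, by rw [← AlgHom.comp_assoc, hχ, h₁], ?_⟩
  have h0 := congrArg (π.lTensor (G l)) hχd
  simp only [d, map_sub, map_zero, ← LinearMap.comp_apply (f := LinearMap.rTensor (M →₀ R) χ.toLinearMap),
    LinearMap.rTensor_comp_lTensor, ← LinearMap.lTensor_comp_rTensor] at h0
  simp only [LinearMap.comp_apply, ← LinearMap.rTensor_comp_apply, ← LinearMap.lTensor_comp_apply,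
    show π ∘ₗ K.subtype = 0 from LinearMap.ext fun k => k.2, LinearMap.lTensor_zero, LinearMap.zero_apply,
    sub_zero] at h0
  rw [← LinearMap.comp_apply, LinearMap.rTensor_comp_lTensor, ← LinearMap.lTensor_comp_rTensor,
    LinearMap.comp_apply]
  exact h0

end Tensor

/-- Tensoring on the right with an algebra. -/
theorem IsColim.tensor_right (hc : IsColim g) (C : Type*) [CommRing C] [Algebra R C] :
    IsColim (fun i => Algebra.TensorProduct.map (g i) (AlgHom.id R C)) where
  nonempty := hc.nonempty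
  dir i j := by
    obtain ⟨k, φ, ψ, h₁, h₂⟩ := hc.dir i j
    exact ⟨k, Algebra.TensorProduct.map φ (AlgHom.id R C), Algebra.TensorProduct.map ψ (AlgHom.id R C),
      by rw [← Algebra.TensorProduct.map_comp, h₁, AlgHom.id_comp],
      by rw [← Algebra.TensorProduct.map_comp, h₂, AlgHom.id_comp]⟩
  surj a := hc.surj_rTensor C a
  kill i x hx := by
    obtain ⟨j, φ, h₁, h₂⟩ := hc.kill_rTensor C i x hx
    exact ⟨j, Algebra.TensorProduct.map φ (AlgHom.id R C),
      by rw [← Algebra.TensorProduct.map_comp, h₁, AlgHom.id_comp], h₂⟩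

lemma map_id_comm (B : Type*) [CommRing B] [Algebra R B] {P Q : Type*} [CommRing P] [Algebra R P]
    [CommRing Q] [Algebra R Q] (φ : P →ₐ[R] Q) (x : P ⊗[R] B) :
    Algebra.TensorProduct.map (AlgHom.id B B) φ (Algebra.TensorProduct.comm R P B x) =
      Algebra.TensorProduct.comm R Q B (Algebra.TensorProduct.map φ (AlgHom.id R B) x) := by
  induction x using TensorProduct.induction_on with
  | zero => simp
  | tmul a b => simp
  | add a b ha hb => simp [ha, hb]

/-- Base change along `R → B`. -/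
theorem IsColim.baseChange (hc : IsColim g) (B : Type*) [CommRing B] [Algebra R B] :
    IsColim (R := B) (fun i => Algebra.TensorProduct.map (AlgHom.id B B) (g i)) := by
  have h := hc.tensor_right B
  refine ⟨hc.nonempty, fun i j => ?_, fun a => ?_, fun i x hx => ?_⟩
  · obtain ⟨k, φ, ψ, h₁, h₂⟩ := hc.dir i j
    exact ⟨k, Algebra.TensorProduct.map (AlgHom.id B B) φ, Algebra.TensorProduct.map (AlgHom.id B B) ψ,
      by rw [← Algebra.TensorProduct.map_comp, h₁, AlgHom.id_comp],
      by rw [← Algebra.TensorProduct.map_comp, h₂, AlgHom.id_comp]⟩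
  · obtain ⟨i, x, hx⟩ := h.surj ((Algebra.TensorProduct.comm R A B).symm a)
    exact ⟨i, Algebra.TensorProduct.comm R (G i) B x, by
      rw [map_id_comm, hx, AlgEquiv.apply_symm_apply]⟩
  · obtain ⟨y, rfl⟩ := (Algebra.TensorProduct.comm R (G i) B).surjective x
    rw [map_id_comm, map_eq_zero_iff _ (Algebra.TensorProduct.comm R A B).injective] at hx
    obtain ⟨j, φ, h₁, h₂⟩ := hc.kill_rTensor B i y hx
    refine ⟨j, Algebra.TensorProduct.map (AlgHom.id B B) φ,
      by rw [← Algebra.TensorProduct.map_comp, h₁, AlgHom.id_comp], ?_⟩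
    rw [map_id_comm]
    exact (congrArg _ h₂).trans (map_zero _)

/-- A map from a finitely presented algebra to the colimit factors through some index. -/
theorem IsColim.exists_hom_lift (hc : IsColim g) (C : Type*) [CommRing C] [Algebra R C]
    [Algebra.FinitePresentation R C] (u : C →ₐ[R] A) :
    ∃ (i : ι) (v : C →ₐ[R] G i), (g i).comp v = u := by
  classical
  obtain ⟨n, π, hπ, hker⟩ := (inferInstance : Algebra.FinitePresentation R C).out
  obtain ⟨i, x, hx⟩ := hc.exists_lift_family fun t => u (π (MvPolynomial.X t))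
  have he : (g i).comp (MvPolynomial.aeval x) = u.comp π :=
    MvPolynomial.algHom_ext fun t => by simp [hx]
  obtain ⟨s, hs⟩ := hker
  obtain ⟨j, φ, hφ, hj⟩ := hc.kill_finset (s.image (MvPolynomial.aeval x)) (by
    intro a ha
    obtain ⟨p, hp, rfl⟩ := Finset.mem_image.mp ha
    rw [← AlgHom.comp_apply, he, AlgHom.comp_apply,
      show π p = 0 from RingHom.mem_ker.mp (hs ▸ Ideal.subset_span hp), map_zero])
  let w := φ.comp (MvPolynomial.aeval x)
  have hw : RingHom.ker π.toRingHom ≤ RingHom.ker w.toRingHom := by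
    rw [← hs]
    exact Ideal.span_le.mpr fun p hp => hj _ (Finset.mem_image_of_mem _ hp)
  refine ⟨j, AlgHom.liftOfSurjective π hπ w hw, ?_⟩
  refine AlgHom.ext fun c => ?_
  obtain ⟨p, rfl⟩ := hπ c
  rw [AlgHom.comp_apply, AlgHom.liftOfSurjective_apply]
  have := AlgHom.congr_fun he p
  simp only [AlgHom.comp_apply] at this
  rw [show g j (w p) = g i (MvPolynomial.aeval x p) from AlgHom.congr_fun hφ _, this]

/-- Two maps out of a finite type algebra equal in the colimit agree at some index. -/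
theorem IsColim.exists_hom_eq (hc : IsColim g) (C : Type*) [CommRing C] [Algebra R C]
    [Algebra.FiniteType R C] {i : ι} (v w : C →ₐ[R] G i) (h : (g i).comp v = (g i).comp w) :
    ∃ (j : ι) (φ : G i →ₐ[R] G j), (g j).comp φ = g i ∧ φ.comp v = φ.comp w := by
  classical
  obtain ⟨s, hs⟩ := (inferInstance : Algebra.FiniteType R C).out
  obtain ⟨j, φ, hφ, hj⟩ := hc.kill_finset (s.image fun c => v c - w c) (by
    intro a ha
    obtain ⟨c, -, rfl⟩ := Finset.mem_image.mp ha
    have hcv := AlgHom.congr_fun h c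
    simp only [AlgHom.comp_apply] at hcv
    rw [map_sub, hcv, sub_self])
  refine ⟨j, φ, hφ, AlgHom.ext_of_adjoin_eq_top hs fun c hc => ?_⟩
  have := hj _ (Finset.mem_image_of_mem _ hc)
  rwa [map_sub, sub_eq_zero] at this

end Groth.Agent.CAlg48.ColimBC
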