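import Mathlib

/-!
Descending quotients of an adic completion to finite type algebras, when the kernel has a
complement up to `I`-power torsion.
-/

set_option autoImplicit false
set_option linter.style.haveILetI false

universe u

open TensorProduct

namespace Groth.Agent.CAlg48.CompletionDescent

variable {B R : Type u} [CommRing B] [CommRing R] [Algebra B R]

/-- Over a flat module the solutions of a linear system are combinations of solutions over the
ring. -/
theorem exists_combination {M : Type u} [AddCommGroup M] [Module B M] [Module.Flat B M]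
    {ι κ : Type} [Fintype ι] [Fintype κ] (W : κ → ι → B) (y : ι → M)
    (h : ∀ l, ∑ i, W l i • y i = 0) :
    ∃ (n : ℕ) (v : Fin n → ι → B) (β : Fin n → M),
      (∀ j l, ∑ i, W l i * v j i = 0) ∧ ∀ i, y i = ∑ j, v j i • β j := by
  classical
  let x : (ι → B) →ₗ[B] M := Fintype.linearCombination B y
  let f : (κ → B) →ₗ[B] (ι → B) := Fintype.linearCombination B W
  have hxf : x ∘ₗ f = 0 := by
    apply LinearMap.pi_ext'
    intro l
    refine LinearMap.ext_ring ?_
    simp [x, f, Fintype.linearCombination_apply_single, Fintype.linearCombination_apply, h l]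
  obtain ⟨k, a, Y, hYa, haf⟩ := Module.Flat.exists_factorization_of_comp_eq_zero_of_free hxf
  refine ⟨k, fun j i => a (Pi.single i 1) j, fun j => Y (Finsupp.single j 1), fun j l => ?_,
    fun i => ?_⟩
  · have h1 : a (W l) = 0 := by
      have := LinearMap.congr_fun haf (Pi.single l 1)
      simpa [f, Fintype.linearCombination_apply_single] using this
    rw [pi_eq_sum_univ (W l), map_sum] at h1
    have h2 := DFunLike.congr_fun h1 j
    simp only [map_smul, Finsupp.finsetSum_apply, Finsupp.smul_apply, smul_eq_mul,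
      Finsupp.coe_zero, Pi.zero_apply] at h2
    refine Eq.trans (Finset.sum_congr rfl fun i _ => ?_) h2
    rw [show (fun t => if i = t then (1 : B) else 0) = Pi.single i 1 from
      funext fun t => by simp [Pi.single_apply, eq_comm]]
  · have h1 : y i = Y (a (Pi.single i 1)) := by
      have := LinearMap.congr_fun hYa (Pi.single i 1)
      simpa [x, Fintype.linearCombination_apply_single] using this
    rw [h1]
    conv_lhs => rw [← Finsupp.univ_sum_single (a (Pi.single i 1))]
    rw [map_sum]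
    refine Finset.sum_congr rfl fun j _ => ?_
    rw [← map_smul, Finsupp.smul_single, smul_eq_mul, mul_one]

/-- Elements of an extended ideal as combinations of generators. -/
theorem exists_sum_eq {m : ℕ} (a : Fin m → B) {x : R}
    (hx : x ∈ (Ideal.span (Set.range a)).map (algebraMap B R)) :
    ∃ γ : Fin m → R, ∑ q, γ q * algebraMap B R (a q) = x := by
  rw [Ideal.map_span, ← Set.range_comp] at hx
  exact Ideal.mem_span_range_iff_exists_fun.1 hx

section Setting

variable (Ib : Ideal B) (hsurj : ∀ (k : ℕ) (r : R), ∃ b, r - algebraMap B R b ∈ (Ib ^ k).map (algebraMap B R))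
  (hinj : ∀ (k : ℕ) (b : B), algebraMap B R b ∈ (Ib ^ k).map (algebraMap B R) → b ∈ Ib ^ k)

include hsurj in
theorem exists_sub_mem_pow_add (n k : ℕ) {r : R} (hr : r ∈ (Ib ^ n).map (algebraMap B R)) :
    ∃ b ∈ Ib ^ n, r - algebraMap B R b ∈ (Ib ^ (n + k)).map (algebraMap B R) := by
  induction hr using Submodule.span_induction with
  | mem x hx =>
    obtain ⟨b, hb, rfl⟩ := hx
    exact ⟨b, hb, by simp⟩
  | zero => exact ⟨0, zero_mem _, by simp⟩
  | add x y _ _ hx hy =>
    obtain ⟨b, hb, hb'⟩ := hx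
    obtain ⟨c, hc, hc'⟩ := hy
    refine ⟨b + c, add_mem hb hc, ?_⟩
    rw [map_add, show x + y - (algebraMap B R b + algebraMap B R c) =
      (x - algebraMap B R b) + (y - algebraMap B R c) by ring]
    exact add_mem hb' hc'
  | smul t x _ hx =>
    obtain ⟨b, hb, hb'⟩ := hx
    obtain ⟨s, hs⟩ := hsurj k t
    refine ⟨s * b, Ideal.mul_mem_left _ _ hb, ?_⟩
    rw [map_mul, smul_eq_mul, show t * x - algebraMap B R s * algebraMap B R b =
      t * (x - algebraMap B R b) + algebraMap B R b * (t - algebraMap B R s) by ring]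
    refine add_mem (Ideal.mul_mem_left _ _ hb') ?_
    rw [pow_add, Ideal.map_mul]
    exact Ideal.mul_mem_mul (Ideal.mem_map_of_mem _ hb) hs

include hsurj in
/-- Torsion of a flat algebra with the same truncations comes from the ring. -/
theorem exists_eq_of_killed [Module.Flat B R] (hI : Ib.FG) (N : ℕ) (z : R)
    (hz : ∀ a ∈ Ib ^ N, algebraMap B R a * z = 0) :
    ∃ b, algebraMap B R b = z ∧ ∀ a ∈ Ib ^ N, a * b = 0 := by
  obtain ⟨m, a, ha⟩ := Submodule.fg_iff_exists_fin_generating_family.1 (hI.pow (n := N))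
  have ha' : ∀ l, a l ∈ Ib ^ N := fun l => ha ▸ Submodule.subset_span ⟨l, rfl⟩
  obtain ⟨n, v, β, hv, hβ⟩ := exists_combination (M := R) (fun l (_ : Fin 1) => a l) (fun _ => z)
    (fun l => by simpa [Algebra.smul_def] using hz _ (ha' l))
  have hkill : ∀ j, ∀ c ∈ Ib ^ N, c * v j 0 = 0 := by
    intro j c hc
    rw [← ha] at hc
    induction hc using Submodule.span_induction with
    | mem x hx =>
      obtain ⟨l, rfl⟩ := hx
      simpa using hv j l
    | zero => simp
    | add x y _ _ hx hy => rw [add_mul, hx, hy, add_zero]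
    | smul t x _ hx => rw [smul_eq_mul, mul_assoc, hx, mul_zero]
  choose b hb using fun j => hsurj N (β j)
  refine ⟨∑ j, b j * v j 0, ?_, fun c hc => ?_⟩
  · rw [map_sum, hβ 0]
    refine Finset.sum_congr rfl fun j _ => ?_
    rw [Algebra.smul_def, map_mul, eq_comm, ← sub_eq_zero,
      show algebraMap B R (v j 0) * β j - algebraMap B R (b j) * algebraMap B R (v j 0) =
      (β j - algebraMap B R (b j)) * algebraMap B R (v j 0) by ring]
    have hle : (Ib ^ N).map (algebraMap B R) ≤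
        (Submodule.span R {algebraMap B R (v j 0)}).annihilator := by
      rw [Ideal.map_le_iff_le_comap]
      intro c hc
      rw [Ideal.mem_comap, Submodule.mem_annihilator_span_singleton, smul_eq_mul, ← map_mul,
        hkill j c hc, map_zero]
    simpa [Submodule.mem_annihilator_span_singleton] using hle (hb j)
  · rw [Finset.mul_sum]
    exact Finset.sum_eq_zero fun j _ => by rw [mul_left_comm, hkill j c hc, mul_zero]

include hsurj hinj in
/-- An element of a flat algebra with the same truncations which is in the image of the ring up to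
torsion is in the image. -/
theorem exists_eq_of_mul_mem_range [Module.Flat B R] (hI : Ib.FG) (N : ℕ) (r : R)
    (hr : ∀ a ∈ Ib ^ N, algebraMap B R a * r ∈ (algebraMap B R).range) :
    ∃ b, algebraMap B R b = r := by
  obtain ⟨m, a, ha⟩ := Submodule.fg_iff_exists_fin_generating_family.1 (hI.pow (n := N))
  have ha' : ∀ l, a l ∈ Ib ^ N := fun l => ha ▸ Submodule.subset_span ⟨l, rfl⟩
  choose c hc using fun l => hr _ (ha' l)
  obtain ⟨n, v, β, hv, hβ⟩ := exists_combination (M := R) (fun l => ![a l, -c l]) ![r, 1]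
    (fun l => by simp [Algebra.smul_def, hc l])
  have hv' : ∀ j l, a l * v j 0 = c l * v j 1 := fun j l => by
    have := hv j l
    simp only [Fin.sum_univ_two, Matrix.cons_val_zero, Matrix.cons_val_one] at this
    linear_combination this
  choose b hb using fun j => hsurj N (β j)
  choose γ hγ using fun j => exists_sum_eq (R := R) a (by
    have := hb j; rw [← ha] at this; exact this)
  have h0 := hβ 0
  have h1 := hβ 1
  simp only [Matrix.cons_val_zero, Matrix.cons_val_one, Algebra.smul_def] at h0 h1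
  let φ := algebraMap B R
  let Γ : Fin m → R := fun q => ∑ j, γ j q * φ (v j 1)
  let t := ∑ j, b j * v j 0
  let s := ∑ j, b j * v j 1
  have e0 : r = φ t + ∑ q, φ (c q) * Γ q := by
    rw [h0]
    have : ∀ j, φ (v j 0) * β j = φ (b j * v j 0) + ∑ q, φ (c q) * (γ j q * φ (v j 1)) := by
      intro j
      rw [show β j = φ (b j) + ∑ q, γ j q * φ (a q) by rw [hγ j]; ring, mul_add, Finset.mul_sum,
        map_mul, mul_comm (φ (v j 0))]
      congr 1
      refine Finset.sum_congr rfl fun q _ => ?_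
      have := congrArg φ (hv' j q)
      rw [map_mul, map_mul] at this
      linear_combination γ j q * this
    rw [Finset.sum_congr rfl fun j _ => this j, Finset.sum_add_distrib, map_sum]
    congr 1
    rw [Finset.sum_comm]
    simp [Γ, Finset.mul_sum]
  have e1 : 1 = φ s + ∑ q, φ (a q) * Γ q := by
    rw [h1]
    have : ∀ j, φ (v j 1) * β j = φ (b j * v j 1) + ∑ q, φ (a q) * (γ j q * φ (v j 1)) := by
      intro j
      rw [show β j = φ (b j) + ∑ q, γ j q * φ (a q) by rw [hγ j]; ring, mul_add, Finset.mul_sum,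
        map_mul, mul_comm (φ (v j 1))]
      congr 1
      refine Finset.sum_congr rfl fun q _ => ?_
      ring
    rw [Finset.sum_congr rfl fun j _ => this j, Finset.sum_add_distrib, map_sum]
    congr 1
    rw [Finset.sum_comm]
    simp [Γ, Finset.mul_sum]
  have hs : 1 - s ∈ Ib ^ N := by
    refine hinj N _ ?_
    rw [map_sub, map_one, show (1 : R) - φ s = ∑ q, φ (a q) * Γ q by linear_combination e1]
    exact sum_mem fun q _ => Ideal.mul_mem_right _ _ (Ideal.mem_map_of_mem _ (ha' q))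
  rw [← ha] at hs
  obtain ⟨u, hu⟩ := (Submodule.mem_span_range_iff_exists_fun B).1 hs
  refine ⟨t + ∑ q, u q * c q, ?_⟩
  have e2 : r * φ s = φ t := by
    have h2 : r * ∑ q, φ (a q) * Γ q = ∑ q, φ (c q) * Γ q := by
      rw [Finset.mul_sum]
      exact Finset.sum_congr rfl fun q _ => by linear_combination Γ q * (hc q).symm
    linear_combination (r * e1.symm) + e0 - h2
  have e3 : r * φ (1 - s) = φ (∑ q, u q * c q) := by
    rw [← hu, map_sum, map_sum, Finset.mul_sum]
    exact Finset.sum_congr rfl fun q _ => by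
      rw [smul_eq_mul, map_mul, map_mul]
      linear_combination φ (u q) * (hc q).symm
  rw [map_sub, map_one] at e3
  rw [map_add]
  linear_combination -e2 - e3

include hsurj hinj in
/-- Descent of a quotient which has a complement up to torsion: torsion-free case. -/
theorem exists_descent_of_disjoint [Module.Flat B R] (hI : Ib.FG)
    (hjac : Ib.map (algebraMap B R) ≤ (⊥ : Ideal R).jacobson)
    (J G : Ideal R) (hJG : J ⊓ G = ⊥) (N : ℕ) (hN : (Ib ^ N).map (algebraMap B R) ≤ J ⊔ G) :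
    ∃ (D : Type u) (_ : CommRing D) (_ : Algebra B D), Algebra.FiniteType B D ∧
      ∃ ψ : D →ₐ[B] R ⧸ J,
        (∀ (n : ℕ) (c : R ⧸ J), ∃ d, c - ψ d ∈ (Ib ^ n).map (algebraMap B (R ⧸ J))) ∧
        ∀ (n : ℕ) (d : D), ψ d ∈ (Ib ^ n).map (algebraMap B (R ⧸ J)) →
          d ∈ (Ib ^ n).map (algebraMap B D) := by
  classical
  let φ := algebraMap B R
  let ι : R →ₐ[B] (R ⧸ J) × (R ⧸ G) :=
    (Ideal.Quotient.mkₐ B J).prod (Ideal.Quotient.mkₐ B G)
  have hι : Function.Injective ι := (injective_iff_map_eq_zero ι).2 fun x hx => by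
    have h1 : Ideal.Quotient.mk J x = 0 := congrArg Prod.fst hx
    have h2 : Ideal.Quotient.mk G x = 0 := congrArg Prod.snd hx
    have : x ∈ J ⊓ G := ⟨Ideal.Quotient.eq_zero_iff_mem.1 h1, Ideal.Quotient.eq_zero_iff_mem.1 h2⟩
    simpa [hJG] using this
  let e : (R ⧸ J) × (R ⧸ G) := (1, 0)
  obtain ⟨m, a, ha⟩ := Submodule.fg_iff_exists_fin_generating_family.1 (hI.pow (n := N))
  have ha' : ∀ l, a l ∈ Ib ^ N := fun l => ha ▸ Submodule.subset_span ⟨l, rfl⟩
  have hy : ∀ q, ∃ y : R, ι y = ι (φ (a q)) * e := fun q => by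
    obtain ⟨j, hj, γ, hγ, hjγ⟩ := Submodule.mem_sup.1 (hN (Ideal.mem_map_of_mem _ (ha' q)))
    refine ⟨γ, Prod.ext ?_ ?_⟩
    · show Ideal.Quotient.mk J γ = Ideal.Quotient.mk J (φ (a q)) * 1
      rw [mul_one, eq_comm, Ideal.Quotient.eq]
      simpa [← hjγ, φ] using hj
    · show Ideal.Quotient.mk G γ = Ideal.Quotient.mk G (φ (a q)) * 0
      rw [mul_zero, Ideal.Quotient.eq_zero_iff_mem.2 hγ]
  choose y hy using hy
  have hkos : ∀ p q, φ (a p) * y q = φ (a q) * y p := fun p q => hι (by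
    rw [map_mul, map_mul, hy, hy]; ring)
  let W : Fin m × Fin m → Fin m → B := fun l =>
    Pi.single l.2 (a l.1) - Pi.single l.1 (a l.2)
  obtain ⟨k, v, β, hv, hβ⟩ := exists_combination (M := R) W y (fun l => by
    simp only [W, Pi.sub_apply, Pi.single_apply, sub_smul, ite_smul, zero_smul,
      Finset.sum_sub_distrib, Finset.sum_ite_eq', Finset.mem_univ, if_true]
    rw [Algebra.smul_def, Algebra.smul_def]
    exact sub_eq_zero.2 (hkos _ _))
  have hv' : ∀ j p q, a p * v j q = a q * v j p := fun j p q => by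
    have := hv j (p, q)
    simp only [W, Pi.sub_apply, sub_mul, Finset.sum_sub_distrib,
      Pi.single_apply, ite_mul, zero_mul, Finset.sum_ite_eq', Finset.mem_univ, if_true] at this
    exact sub_eq_zero.1 this
  choose b hb using fun j => hsurj N (β j)
  choose γ hγ using fun j => exists_sum_eq (R := R) a (by
    have := hb j; rw [← ha] at this; exact this)
  let Γ : R := ∑ j, ∑ q, γ j q * φ (v j q)
  let w : Fin m → B := fun i => ∑ j, b j * v j i
  have hy' : ∀ i, y i = φ (w i) + φ (a i) * Γ := fun i => by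
    rw [hβ i]
    have : ∀ j, v j i • β j = φ (b j * v j i) + φ (a i) * ∑ q, γ j q * φ (v j q) := by
      intro j
      rw [Algebra.smul_def, show β j = φ (b j) + ∑ q, γ j q * φ (a q) by rw [hγ j]; ring, mul_add,
        Finset.mul_sum, Finset.mul_sum, map_mul, mul_comm (φ (b j))]
      congr 1
      refine Finset.sum_congr rfl fun q _ => ?_
      have := congrArg φ (hv' j q i)
      rw [map_mul, map_mul] at this
      linear_combination γ j q * this
    rw [Finset.sum_congr rfl fun j _ => this j, Finset.sum_add_distrib, map_sum, ← Finset.mul_sum]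
  obtain ⟨b0, hb0⟩ := hsurj 1 Γ
  rw [pow_one] at hb0
  let δ := Γ - φ b0
  let g : (R ⧸ J) × (R ⧸ G) := e - ι δ
  have hag : ∀ i, ι (φ (a i)) * g = ι (φ (w i + a i * b0)) := fun i => by
    simp only [g, δ, mul_sub, ← hy i, hy' i, map_add, map_mul, map_sub]
    ring
  have hgN : ∀ r ∈ (Ib ^ N).map φ, ∃ t, ι r * g = ι t := fun r hr => by
    rw [← ha] at hr
    obtain ⟨γ', hγ'⟩ := exists_sum_eq (R := R) a hr
    refine ⟨∑ q, γ' q * φ (w q + a q * b0), ?_⟩
    rw [← hγ', map_sum, map_sum, Finset.sum_mul]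
    exact Finset.sum_congr rfl fun q _ => by rw [map_mul, map_mul, mul_assoc, hag]
  have hgun : IsUnit g.1 := by
    have h1 : IsUnit (δ * (-1) + 1) := Ideal.mem_jacobson_bot.1 (hjac hb0) (-1)
    have h2 := h1.map (Ideal.Quotient.mk J)
    convert h2 using 1
    show (1 : R ⧸ J) - Ideal.Quotient.mk J δ = _
    rw [map_add, map_mul, map_neg, map_one]
    ring
  have hg2 : g.2 ∈ Ib.map (algebraMap B (R ⧸ G)) := by
    show (0 : R ⧸ G) - Ideal.Quotient.mk G δ ∈ _
    rw [zero_sub, Ideal.neg_mem_iff, IsScalarTower.algebraMap_eq B R (R ⧸ G), ← Ideal.map_map]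
    exact Ideal.mem_map_of_mem _ hb0
  let D₁ := Algebra.adjoin B ({g} : Set ((R ⧸ J) × (R ⧸ G)))
  let g₁ : D₁ := ⟨g, Algebra.subset_adjoin rfl⟩
  have htor : ∀ x ∈ D₁, ∃ n, ∀ c ∈ Ib ^ n, ι (φ c) * x ∈ (algebraMap B _).range := by
    intro x hx
    induction hx using Algebra.adjoin_induction with
    | mem x hx =>
      obtain rfl := Set.mem_singleton_iff.1 hx
      refine ⟨N, fun c hc => ?_⟩
      rw [← ha] at hc
      induction hc using Submodule.span_induction with
      | mem c hc =>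
        obtain ⟨l, rfl⟩ := hc
        exact ⟨_, (ι.commutes _).symm.trans (hag l).symm⟩
      | zero => simp
      | add c d _ _ h₁ h₂ => rw [map_add, map_add, add_mul]; exact add_mem h₁ h₂
      | smul t c _ h₁ =>
        rw [smul_eq_mul, map_mul, map_mul, mul_assoc]
        exact mul_mem ⟨t, (ι.commutes t).symm⟩ h₁
    | algebraMap r =>
      exact ⟨0, fun c _ => mul_mem ⟨c, (ι.commutes c).symm⟩ ⟨r, rfl⟩⟩
    | add x y _ _ hx hy =>
      obtain ⟨n, hn⟩ := hx
      obtain ⟨n', hn'⟩ := hy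
      refine ⟨n + n', fun c hc => ?_⟩
      rw [mul_add]
      exact add_mem (hn c (Ideal.pow_le_pow_right (Nat.le_add_right _ _) hc))
        (hn' c (Ideal.pow_le_pow_right (Nat.le_add_left _ _) hc))
    | mul x y _ _ hx hy =>
      obtain ⟨n, hn⟩ := hx
      obtain ⟨n', hn'⟩ := hy
      refine ⟨n + n', fun c hc => ?_⟩
      rw [pow_add] at hc
      refine Submodule.mul_induction_on hc (fun c hc d hd => ?_) (fun c d h₁ h₂ => ?_)
      · rw [map_mul, map_mul, mul_mul_mul_comm]
        exact mul_mem (hn c hc) (hn' d hd)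
      · rw [map_add, map_add, add_mul]; exact add_mem h₁ h₂
  have key : ∀ (n : ℕ) (x : D₁),
      x.1.1 ∈ (Ib ^ n).map (algebraMap B (R ⧸ J)) →
      x.1.2 ∈ (Ib ^ n).map (algebraMap B (R ⧸ G)) → x ∈ (Ib ^ n).map (algebraMap B D₁) := by
    intro n x hx1 hx2
    rw [IsScalarTower.algebraMap_eq B R (R ⧸ J), ← Ideal.map_map, Ideal.Quotient.algebraMap_eq,
      Ideal.mem_map_iff_of_surjective _ Ideal.Quotient.mk_surjective] at hx1
    rw [IsScalarTower.algebraMap_eq B R (R ⧸ G), ← Ideal.map_map, Ideal.Quotient.algebraMap_eq,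
      Ideal.mem_map_iff_of_surjective _ Ideal.Quotient.mk_surjective] at hx2
    obtain ⟨r0, hr0, hr0'⟩ := hx1
    obtain ⟨r1, hr1, hr1'⟩ := hx2
    obtain ⟨b', hb', hr'⟩ := exists_sub_mem_pow_add Ib hsurj n N (sub_mem hr0 hr1)
    have hr'' : ∃ t ∈ (Ib ^ n).map φ, ι (r0 - r1 - φ b') * g = ι t := by
      rw [pow_add, Ideal.map_mul] at hr'
      refine Submodule.mul_induction_on hr' (fun c hc d hd => ?_) (fun c d h₁ h₂ => ?_)
      · obtain ⟨t, ht⟩ := hgN d hd
        exact ⟨c * t, Ideal.mul_mem_right _ _ hc, by rw [map_mul, mul_assoc, ht, map_mul]⟩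
      · obtain ⟨t, ht, ht'⟩ := h₁
        obtain ⟨s, hs, hs'⟩ := h₂
        exact ⟨t + s, add_mem ht hs, by rw [map_add, add_mul, ht', hs', map_add]⟩
    obtain ⟨t, ht, ht'⟩ := hr''
    let r2 := r1 + (r0 - r1) * δ + t
    have hx : x.1 = ι r2 + ι (φ b') * g := by
      have hx0 : x.1 = ι r1 + ι (r0 - r1) * e := Prod.ext
        (by show x.1.1 = Ideal.Quotient.mk J r1 + Ideal.Quotient.mk J (r0 - r1) * 1
            rw [map_sub, hr0']; ring)
        (by show x.1.2 = Ideal.Quotient.mk G r1 + Ideal.Quotient.mk G (r0 - r1) * 0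
            rw [hr1']; ring)
      rw [hx0, show e = g + ι δ by simp [g]]
      simp only [r2, map_add, map_mul, map_sub] at ht' ⊢
      linear_combination ht'
    have hr2 : r2 ∈ (Ib ^ n).map φ :=
      add_mem (add_mem hr1 (Ideal.mul_mem_right _ _ (sub_mem hr0 hr1))) ht
    have hx' : ι r2 ∈ D₁ := by
      rw [show ι r2 = x.1 - ι (φ b') * g by rw [hx]; ring, show ι (φ b') = _ from ι.commutes b']
      exact sub_mem x.2 (mul_mem (D₁.algebraMap_mem b') g₁.2)
    obtain ⟨n', hn'⟩ := htor _ hx'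
    obtain ⟨b2, hb2⟩ := exists_eq_of_mul_mem_range Ib hsurj hinj hI n' r2 (fun c hc => by
      obtain ⟨d, hd⟩ := hn' c hc
      refine ⟨d, hι ?_⟩
      rw [map_mul, ← hd]
      exact ι.commutes d)
    have hb2' : b2 ∈ Ib ^ n := hinj n b2 (by rw [hb2]; exact hr2)
    have : x = algebraMap B D₁ b2 + algebraMap B D₁ b' * g₁ := Subtype.ext (by
      rw [hx, ← hb2]
      show ι (φ b2) + ι (φ b') * g = algebraMap B _ b2 + algebraMap B _ b' * g
      rw [show ι (φ b2) = _ from ι.commutes b2, show ι (φ b') = _ from ι.commutes b'])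
    rw [this]
    exact add_mem (Ideal.mem_map_of_mem _ hb2') (Ideal.mul_mem_right _ _ (Ideal.mem_map_of_mem _ hb'))
  haveI : Algebra.FiniteType B D₁ :=
    D₁.fg_iff_finiteType.1 ⟨{g}, by simp [D₁]⟩
  let f : D₁ →ₐ[B] R ⧸ J := (AlgHom.fst B (R ⧸ J) (R ⧸ G)).comp D₁.val
  have hf : ∀ s : Submonoid.powers g₁, IsUnit (f s) := by
    rintro ⟨_, k, rfl⟩
    show IsUnit (f (g₁ ^ k))
    rw [map_pow]
    exact hgun.pow k
  let ψ : Localization.Away g₁ →ₐ[B] R ⧸ J :=
    IsLocalization.liftAlgHom (M := Submonoid.powers g₁) (f := f) hf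
  refine ⟨Localization.Away g₁, inferInstance, inferInstance, ?_, ψ, fun n c => ?_, fun n d hd => ?_⟩
  · haveI : Algebra.FiniteType D₁ (Localization.Away g₁) :=
      IsLocalization.finiteType_of_monoid_fg (Submonoid.powers g₁) _
    exact Algebra.FiniteType.trans ‹Algebra.FiniteType B D₁› this
  · obtain ⟨r, rfl⟩ := Ideal.Quotient.mk_surjective c
    obtain ⟨b', hb'⟩ := hsurj n r
    refine ⟨algebraMap B _ b', ?_⟩
    rw [ψ.commutes, IsScalarTower.algebraMap_apply B R (R ⧸ J), Ideal.Quotient.algebraMap_eq,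
      ← map_sub, IsScalarTower.algebraMap_eq B R (R ⧸ J), ← Ideal.map_map]
    exact Ideal.mem_map_of_mem _ hb'
  · obtain ⟨⟨x, s⟩, hxs⟩ := IsLocalization.surj (Submonoid.powers g₁) d
    have h1 : f x ∈ (Ib ^ n).map (algebraMap B (R ⧸ J)) := by
      have := congrArg ψ hxs
      simp only [map_mul, ψ, IsLocalization.liftAlgHom_apply, IsLocalization.lift_eq] at this
      change f.toRingHom x ∈ _
      rw [← this]
      exact Ideal.mul_mem_right _ _ hd
    have h2 : g₁ ^ n * x ∈ (Ib ^ n).map (algebraMap B D₁) := by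
      refine key n _ (Ideal.mul_mem_left _ _ h1) ?_
      show (g ^ n).2 * x.1.2 ∈ _
      rw [Prod.pow_snd, Ideal.map_pow]
      exact Ideal.mul_mem_right _ _ (Ideal.pow_mem_pow hg2 n)
    have h3 := Ideal.mem_map_of_mem (algebraMap D₁ (Localization.Away g₁)) h2
    rw [Ideal.map_map, ← IsScalarTower.algebraMap_eq, map_mul, ← hxs] at h3
    have hu1 : IsUnit (algebraMap D₁ (Localization.Away g₁) (g₁ ^ n)) :=
      IsLocalization.map_units _ (⟨g₁ ^ n, n, rfl⟩ : Submonoid.powers g₁)
    rwa [Ideal.unit_mul_mem_iff_mem _ hu1, Ideal.mul_unit_mem_iff_mem _ (IsLocalization.map_units _ s)] at h3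

include hsurj hinj in
/-- Descent of a quotient which has a complement up to torsion. -/
theorem exists_descent [Module.Flat B R] (hI : Ib.FG)
    (hjac : Ib.map (algebraMap B R) ≤ (⊥ : Ideal R).jacobson)
    (J G : Ideal R) (N : ℕ) (hN : (Ib ^ N).map (algebraMap B R) ≤ J ⊔ G)
    (hK : ∀ x ∈ J ⊓ G, ∀ a ∈ Ib ^ N, algebraMap B R a * x = 0) :
    ∃ (D : Type u) (_ : CommRing D) (_ : Algebra B D), Algebra.FiniteType B D ∧
      ∃ ψ : D →ₐ[B] R ⧸ J,
        (∀ (n : ℕ) (c : R ⧸ J), ∃ d, c - ψ d ∈ (Ib ^ n).map (algebraMap B (R ⧸ J))) ∧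
        ∀ (n : ℕ) (d : D), ψ d ∈ (Ib ^ n).map (algebraMap B (R ⧸ J)) →
          d ∈ (Ib ^ n).map (algebraMap B D) := by
  let φ := algebraMap B R
  let K₀ : Ideal B := (J ⊓ G).comap φ
  let K : Ideal R := K₀.map φ
  have hKle : K ≤ J ⊓ G := Ideal.map_comap_le
  have hKmem : ∀ x ∈ J ⊓ G, ∃ b ∈ K₀, φ b = x := fun x hx => by
    obtain ⟨b, hb, -⟩ := exists_eq_of_killed Ib hsurj hI N x (hK x hx)
    exact ⟨b, by rw [Ideal.mem_comap, hb]; exact hx, hb⟩
  haveI : Module.Flat (B ⧸ K₀) (R ⧸ K) :=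
    Module.Flat.of_linearEquiv
      (Algebra.TensorProduct.quotIdealMapEquivQuotTensor R K₀).toLinearEquiv
  let q : B →+* B ⧸ K₀ := Ideal.Quotient.mk K₀
  let p : R →+* R ⧸ K := Ideal.Quotient.mk K
  have hcomp : (algebraMap (B ⧸ K₀) (R ⧸ K)).comp q = p.comp φ := rfl
  have hmap : ∀ n, ((Ib.map q) ^ n).map (algebraMap (B ⧸ K₀) (R ⧸ K)) =
      ((Ib ^ n).map φ).map p := fun n => by
    rw [← Ideal.map_pow, Ideal.map_map, hcomp, ← Ideal.map_map]
  have hsurj' : ∀ (k : ℕ) (r : R ⧸ K), ∃ b,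
      r - algebraMap (B ⧸ K₀) (R ⧸ K) b ∈ ((Ib.map q) ^ k).map (algebraMap (B ⧸ K₀) (R ⧸ K)) := by
    intro k r
    obtain ⟨r, rfl⟩ := Ideal.Quotient.mk_surjective r
    obtain ⟨b, hb⟩ := hsurj k r
    refine ⟨q b, ?_⟩
    rw [hmap, show algebraMap (B ⧸ K₀) (R ⧸ K) (q b) = p (φ b) from rfl, ← map_sub]
    exact Ideal.mem_map_of_mem _ hb
  have hinj' : ∀ (k : ℕ) (b : B ⧸ K₀),
      algebraMap (B ⧸ K₀) (R ⧸ K) b ∈ ((Ib.map q) ^ k).map (algebraMap (B ⧸ K₀) (R ⧸ K)) →
      b ∈ (Ib.map q) ^ k := by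
    intro k b hb
    obtain ⟨b, rfl⟩ := Ideal.Quotient.mk_surjective b
    rw [hmap, show algebraMap (B ⧸ K₀) (R ⧸ K) (Ideal.Quotient.mk K₀ b) = p (φ b) from rfl,
      Ideal.mem_quotient_iff_mem_sup] at hb
    obtain ⟨u, hu, w, hw, huw⟩ := Submodule.mem_sup.1 hb
    obtain ⟨b0, hb0, hb0'⟩ := hKmem w (hKle hw)
    have hsub : b - b0 ∈ Ib ^ k :=
      hinj k _ (by rw [map_sub]; rw [← huw, ← hb0']; simpa [φ] using hu)
    rw [← Ideal.map_pow, show Ideal.Quotient.mk K₀ b = Ideal.Quotient.mk K₀ (b - b0) by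
      rw [map_sub, Ideal.Quotient.eq_zero_iff_mem.2 hb0, sub_zero]]
    exact Ideal.mem_map_of_mem _ hsub
  have hjac' : (Ib.map q).map (algebraMap (B ⧸ K₀) (R ⧸ K)) ≤ (⊥ : Ideal (R ⧸ K)).jacobson := by
    rw [Ideal.map_map, hcomp, ← Ideal.map_map]
    intro x hx
    obtain ⟨r, hr, rfl⟩ := (Ideal.mem_map_iff_of_surjective p Ideal.Quotient.mk_surjective).1 hx
    rw [Ideal.mem_jacobson_bot]
    intro y
    obtain ⟨s, rfl⟩ := Ideal.Quotient.mk_surjective y
    rw [← map_mul, ← map_one p, ← map_add]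
    exact (Ideal.mem_jacobson_bot.1 (hjac hr) s).map p
  have hdisj : J.map p ⊓ G.map p = ⊥ := by
    rw [eq_bot_iff]
    intro x hx
    obtain ⟨x, rfl⟩ := Ideal.Quotient.mk_surjective x
    have hJ : x ∈ J := by
      simpa [p, Ideal.mem_quotient_iff_mem_sup, hKle.trans inf_le_left] using hx.1
    have hG : x ∈ G := by
      simpa [p, Ideal.mem_quotient_iff_mem_sup, hKle.trans inf_le_right] using hx.2
    obtain ⟨b, hb, hb'⟩ := hKmem x ⟨hJ, hG⟩
    exact Ideal.Quotient.eq_zero_iff_mem.2 (hb' ▸ Ideal.mem_map_of_mem _ hb)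
  have hN' : ((Ib.map q) ^ N).map (algebraMap (B ⧸ K₀) (R ⧸ K)) ≤ J.map p ⊔ G.map p := by
    rw [hmap, ← Ideal.map_sup]
    exact Ideal.map_mono hN
  obtain ⟨D, _, _, hD, ψ, h1, h2⟩ := exists_descent_of_disjoint (Ib.map q) hsurj' hinj'
    (hI.map _) hjac' (J.map p) (G.map p) hdisj N hN'
  letI : Algebra B D := ((algebraMap (B ⧸ K₀) D).comp q).toAlgebra
  haveI : IsScalarTower B (B ⧸ K₀) D := .of_algebraMap_eq fun _ => rfl
  let ε : (R ⧸ K) ⧸ J.map p ≃+* R ⧸ J := DoubleQuot.quotQuotEquivQuotOfLE (hKle.trans inf_le_left)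
  let ψ' : D →ₐ[B] R ⧸ J :=
    { ε.toRingHom.comp ψ.toRingHom with
      commutes' := fun b => by
        show ε (ψ (algebraMap (B ⧸ K₀) D (q b))) = _
        rw [ψ.commutes]
        rfl }
  have hεmap : ∀ n, (((Ib.map q) ^ n).map (algebraMap (B ⧸ K₀) ((R ⧸ K) ⧸ J.map p))).map
      ε.toRingHom = (Ib ^ n).map (algebraMap B (R ⧸ J)) := fun n => by
    rw [← Ideal.map_pow, Ideal.map_map, Ideal.map_map]
    rfl
  haveI : Algebra.FiniteType B (B ⧸ K₀) := inferInstance
  refine ⟨D, inferInstance, inferInstance, Algebra.FiniteType.trans this hD, ψ', fun n c => ?_,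
    fun n d hd => ?_⟩
  · obtain ⟨d, hd⟩ := h1 n (ε.symm c)
    refine ⟨d, ?_⟩
    rw [← hεmap]
    have := Ideal.mem_map_of_mem ε.toRingHom hd
    rwa [map_sub, RingEquiv.toRingHom_eq_coe, RingEquiv.coe_toRingHom, RingEquiv.apply_symm_apply] at this
  · have h3 : ψ d ∈ ((Ib.map q) ^ n).map (algebraMap (B ⧸ K₀) ((R ⧸ K) ⧸ J.map p)) := by
      rw [← hεmap, Ideal.mem_map_iff_of_surjective ε.toRingHom ε.surjective] at hd
      obtain ⟨z, hz, hz'⟩ := hd
      have h5 : z = ψ d := ε.injective hz'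
      rw [← h5]
      exact hz
    have h4 := h2 n d h3
    rwa [← Ideal.map_pow, Ideal.map_map] at h4

end Setting

/-- Elements multiplying a finite ideal into its square give elements killing it. -/
theorem pow_le_sup_annihilator {S : Type u} [CommRing S] (J P : Ideal S) (hJ : J.FG) (hP : P.FG)
    (h : P * J ≤ J ^ 2) : ∃ M : ℕ, P ^ M ≤ J ⊔ Submodule.annihilator J := by
  refine Ideal.exists_pow_le_of_le_radical_of_fg (fun x hx => ?_) hP
  haveI : Module.Finite S J := Module.Finite.iff_fg.2 hJ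
  let f : Module.End S J := LinearMap.lsmul S J x
  have hf : LinearMap.range f ≤ J • (⊤ : Submodule S J) := by
    rintro _ ⟨z, rfl⟩
    rw [Submodule.mem_smul_top_iff]
    show x * (z : S) ∈ J • J
    rw [smul_eq_mul, ← sq]
    exact h (Ideal.mul_mem_mul hx z.2)
  obtain ⟨p, hpm, -, hpc, hp⟩ :=
    LinearMap.exists_monic_and_natDegree_eq_and_coeff_mem_pow_and_aeval_eq_zero S f J hf
  have hann : p.eval x ∈ Submodule.annihilator J := by
    rw [Submodule.mem_annihilator]
    intro z hz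
    have h1 := congrArg (Subtype.val) (LinearMap.congr_fun hp ⟨z, hz⟩)
    have h2 : ∀ q : Polynomial S, ((Polynomial.aeval f q) ⟨z, hz⟩ : S) = q.eval x * z := by
      intro q
      rw [show f = algebraMap S (Module.End S J) x from rfl,
        Polynomial.aeval_algebraMap_apply_eq_algebraMap_eval]
      rfl
    rw [h2] at h1
    exact h1
  refine ⟨p.natDegree, ?_⟩
  rw [show x ^ p.natDegree = (x ^ p.natDegree - p.eval x) + p.eval x by ring]
  refine add_mem (Submodule.mem_sup_left ?_) (Submodule.mem_sup_right hann)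
  rw [Polynomial.eval_eq_sum_range, Finset.sum_range_succ, hpm.coeff_natDegree, one_mul,
    sub_add_eq_sub_sub_swap, sub_self, zero_sub, Ideal.neg_mem_iff]
  refine sum_mem fun i hi => Ideal.mul_mem_right _ _ ?_
  exact Ideal.pow_le_self (by simp at hi; omega) (hpc i)

end Groth.Agent.CAlg48.CompletionDescent
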