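import Groth.Agent.Hensel.QFinite
import Mathlib

/-!
# Splitting off the quasi-finite part étale locally
-/

set_option autoImplicit false
set_option linter.style.haveILetI false

namespace Groth.Agent.CAlg48.EtaleSplit

open TensorProduct

universe u

attribute [local instance] Localization.AtPrime.algebraOfLiesOver

variable {R S : Type u} [CommRing R] [CommRing S] [Algebra R S] [Algebra.FiniteType R S]

/-- Quasi-finiteness descends along base change with trivial residue extension. -/
theorem quasiFiniteAt_comap {R' : Type u} [CommRing R'] [Algebra R R'] (p : Ideal R) [p.IsPrime]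
    (P : Ideal R') [P.IsPrime] [P.LiesOver p]
    (H : Function.Bijective (Ideal.ResidueField.mapₐ p P (Algebra.ofId _ _) (P.over_def p)))
    (Q : Ideal (R' ⊗[R] S)) [Q.IsPrime] [Q.LiesOver P] [Algebra.QuasiFiniteAt R' Q] :
    Algebra.QuasiFiniteAt R (Q.comap Algebra.TensorProduct.includeRight.toRingHom) := by
  let q := Q.comap (Algebra.TensorProduct.includeRight : S →ₐ[R] R' ⊗[R] S).toRingHom
  haveI : q.LiesOver p := ⟨by
    haveI : Q.LiesOver p := .trans Q P p
    rw [Ideal.under_def, Ideal.comap_comap, AlgHom.toRingHom_eq_coe, AlgHom.comp_algebraMap,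
      ← Ideal.under_def]
    exact Q.over_def p⟩
  let x' := PrimeSpectrum.primesOverOrderIsoFiber R' (R' ⊗[R] S) P ⟨Q, ‹_›, ‹_›⟩
  have hx' : Q = x'.asIdeal.comap Algebra.TensorProduct.includeRight.toRingHom :=
    congr($((PrimeSpectrum.primesOverOrderIsoFiber R' (R' ⊗[R] S) P).symm_apply_apply ⟨Q, ‹_›, ‹_›⟩).1).symm
  haveI : Algebra.QuasiFiniteAt P.ResidueField x'.asIdeal := .baseChange Q _ hx'
  have hopen := (Algebra.QuasiFiniteAt.isClopen_singleton (R := P.ResidueField) x').isOpen
  let ρ : p.ResidueField ≃ₐ[p.ResidueField] P.ResidueField := .ofBijective (Algebra.ofId _ _) H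
  let e : P.Fiber (R' ⊗[R] S) ≃ₐ[p.ResidueField] p.Fiber S :=
    ((Algebra.TensorProduct.cancelBaseChange _ _ P.ResidueField _ _).restrictScalars _).trans
      (Algebra.TensorProduct.congr ρ.symm .refl)
  let h := PrimeSpectrum.homeomorphOfRingEquiv e.toRingEquiv
  have hopen' : IsOpen {h x'} := by
    rw [← Set.image_singleton]
    exact h.isOpenMap _ hopen
  haveI : Algebra.QuasiFiniteAt p.ResidueField (h x').asIdeal := .of_isOpen_singleton _ hopen'
  refine Algebra.QuasiFiniteAt.of_quasiFiniteAt_residueField p q (h x').asIdeal ?_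
  ext s
  show e.symm ((1 : p.ResidueField) ⊗ₜ[R] s) ∈ x'.asIdeal ↔ ((1 : R') ⊗ₜ[R] s) ∈ Q
  have he : e ((1 : P.ResidueField) ⊗ₜ[R'] ((1 : R') ⊗ₜ[R] s)) = (1 : p.ResidueField) ⊗ₜ[R] s := by
    simp [e]
  rw [← he, AlgEquiv.symm_apply_apply]
  conv_rhs => rw [hx']
  rfl

/-- There are only finitely many quasi-finite primes over a prime. -/
theorem finite_quasiFiniteAt (p : Ideal R) [p.IsPrime] :
    {q : Ideal S | ∃ _ : q.IsPrime, q.LiesOver p ∧ Algebra.QuasiFiniteAt R q}.Finite := by
  haveI : IsNoetherianRing (p.Fiber S) := Algebra.FiniteType.isNoetherianRing p.ResidueField _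
  let U : Set (PrimeSpectrum (p.Fiber S)) := {x | IsOpen {x}}
  have hU : U.Finite := by
    have hcomp : IsCompact U := TopologicalSpace.NoetherianSpace.isCompact U
    obtain ⟨t, ht⟩ := hcomp.elim_finite_subcover (fun x : U => ({x.1} : Set _)) (fun x => x.2)
      fun x hx => Set.mem_iUnion.mpr ⟨⟨x, hx⟩, rfl⟩
    refine (t.finite_toSet.image Subtype.val).subset fun x hx => ?_
    obtain ⟨y, hy, hxy⟩ := Set.mem_iUnion₂.mp (ht hx)
    exact ⟨y, hy, hxy.symm⟩
  refine (hU.image fun x => x.asIdeal.comap Algebra.TensorProduct.includeRight.toRingHom).subset ?_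
  rintro q ⟨hq, hqp, hqf⟩
  haveI := hq
  let x := PrimeSpectrum.primesOverOrderIsoFiber R S p ⟨q, hq, hqp⟩
  have hx : q = x.asIdeal.comap Algebra.TensorProduct.includeRight.toRingHom :=
    congr($((PrimeSpectrum.primesOverOrderIsoFiber R S p).symm_apply_apply ⟨q, hq, hqp⟩).1).symm
  haveI : Algebra.QuasiFiniteAt p.ResidueField x.asIdeal := .baseChange q _ hx
  exact ⟨x, (Algebra.QuasiFiniteAt.isClopen_singleton (R := p.ResidueField) x).isOpen, hx.symm⟩

/-- The data obtained by splitting off finitely many quasi-finite primes. -/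
def Split (p : Ideal R) [p.IsPrime] (F : Set (Ideal S)) : Prop :=
  ∃ (R' : Type u) (_ : CommRing R') (_ : Algebra R R') (_ : Algebra.Etale R R') (P : Ideal R')
    (_ : P.IsPrime) (_ : P.LiesOver p) (n : ℕ) (e : Fin n → R' ⊗[R] S),
    Function.Bijective (Ideal.ResidueField.mapₐ p P (Algebra.ofId _ _) (P.over_def p)) ∧
    OrthogonalIdempotents e ∧
    (∀ i, Module.Finite R' ((R' ⊗[R] S) ⧸ Ideal.span {1 - e i})) ∧
    (∀ i, ∃! Q : Ideal (R' ⊗[R] S), Q.IsPrime ∧ Q.LiesOver P ∧ e i ∉ Q) ∧
    ∀ (Q : Ideal (R' ⊗[R] S)) [Q.IsPrime], Q.LiesOver P →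
      Q.comap Algebra.TensorProduct.includeRight.toRingHom ∈ F → ∃ i, e i ∉ Q

theorem split_of_finset (p : Ideal R) [p.IsPrime] (F : Finset (Ideal S))
    (hF : ∀ q ∈ F, ∃ _ : q.IsPrime, q.LiesOver p ∧ Algebra.QuasiFiniteAt R q) : Split p (↑F : Set (Ideal S)) := by
  classical
  induction F using Finset.induction_on with
  | empty =>
    refine ⟨R, inferInstance, inferInstance, inferInstance, p, inferInstance, ⟨rfl⟩, 0, Fin.elim0, ?_,
      ⟨fun i => i.elim0, fun i => i.elim0⟩, fun i => i.elim0, fun i => i.elim0, fun Q _ _ h => ?_⟩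
    · rw! [Algebra.ofId_self, Ideal.ResidueField.mapₐ_id]; exact Function.bijective_id
    · simp at h
  | insert q F _ ih =>
    obtain ⟨hq, hqp, hqf⟩ := hF q (Finset.mem_insert_self q F)
    haveI := hq; haveI := hqp; haveI := hqf
    obtain ⟨R', _, _, _, P, _, _, n, e, hbij, he, hfin, huniq, hcov⟩ :=
      ih fun q' hq' => hF q' (Finset.mem_insert_of_mem hq')
    let Q₀ := (Ideal.fiberIsoOfBijectiveResidueField hbij).symm ⟨q, hq, hqp⟩
    haveI : Q₀.1.IsPrime := Q₀.2.1
    haveI : Q₀.1.LiesOver P := Q₀.2.2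
    have hQ₀ : Q₀.1.comap (Algebra.TensorProduct.includeRight : S →ₐ[R] R' ⊗[R] S).toRingHom = q :=
      Ideal.comap_fiberIsoOfBijectiveResidueField_symm hbij ⟨q, hq, hqp⟩
    by_cases hc : ∃ i, e i ∉ Q₀.1
    · refine ⟨R', _, _, ‹_›, P, ‹_›, ‹_›, n, e, hbij, he, hfin, huniq, fun Q hQ hQP hQF => ?_⟩
      rw [Finset.coe_insert] at hQF
      rcases hQF with hQq | hQF
      · haveI := hQP
        rwa [Ideal.eq_of_comap_eq_comap_of_bijective_residueFieldMap hbij Q Q₀.1 (hQq.trans hQ₀.symm)]
      · exact hcov Q hQP hQF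
    push Not at hc
    haveI : Algebra.QuasiFiniteAt R' Q₀.1 := .baseChange q _ hQ₀.symm
    haveI : Algebra.FiniteType R' (R' ⊗[R] S) := inferInstance
    obtain ⟨R'', _, _, _, P₂, _, _, f, hf, Q₂, _, _, hQ₂, hfQ₂, hbij₂, hfinf, hH⟩ :=
      Algebra.exists_etale_isIdempotentElem_forall_liesOver_eq P Q₀.1
    letI : Algebra R R'' := .compHom _ (algebraMap R R')
    haveI : IsScalarTower R R' R'' := .of_algebraMap_eq' rfl
    haveI : Algebra.Etale R R'' := Algebra.Etale.comp R R' R''
    haveI : P₂.LiesOver p := .trans P₂ P p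
    have hbij' : Function.Bijective (Ideal.ResidueField.mapₐ p P₂ (Algebra.ofId _ _) (P₂.over_def p)) := by
      convert hbij₂.comp hbij
      rw [← @AlgHom.coe_restrictScalars' R R', ← AlgHom.coe_comp]; congr 1; ext
    let ε : R'' ⊗[R'] (R' ⊗[R] S) ≃ₐ[R''] R'' ⊗[R] S :=
      Algebra.TensorProduct.cancelBaseChange R R' R'' R'' S
    let φ : R' ⊗[R] S →ₐ[R'] R'' ⊗[R] S := Algebra.TensorProduct.map (Algebra.ofId R' R'') (AlgHom.id R S)
    have hφ : ∀ x, ε ((1 : R'') ⊗ₜ[R'] x) = φ x := by
      intro x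
      induction x using TensorProduct.induction_on with
      | zero => simp
      | tmul a s => simp [ε, φ, Algebra.smul_def]
      | add a b ha hb => simp only [TensorProduct.tmul_add, map_add, ha, hb]
    have hφinc : ∀ s : S, φ ((1 : R') ⊗ₜ[R] s) = (1 : R'') ⊗ₜ[R] s := fun s => by simp [φ]
    let E : Fin n → R'' ⊗[R] S := fun i => φ (e i)
    have hE : OrthogonalIdempotents E := he.map φ.toRingHom
    let g := ε f * (1 - ∑ i, E i)
    have hsum : IsIdempotentElem (∑ i, E i) := hE.isIdempotentElem_sum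
    have hg : IsIdempotentElem g := (hf.map ε).mul hsum.one_sub
    have hgE : g * ∑ i, E i = 0 := by
      simp only [g]; rw [mul_assoc, sub_mul, one_mul, hsum.eq, sub_self, mul_zero]
    refine ⟨R'', _, _, ‹_›, P₂, ‹_›, ‹_›, n + 1, Fin.cons g E, hbij', ?_, ?_, ?_, ?_⟩
    · refine ⟨fun i => Fin.cases hg hE.idem i, fun i j hij => ?_⟩
      have hgi : ∀ k, g * E k = 0 := fun k => by
        have hk : (∑ i, E i) * E k = E k := by
          rw [Finset.sum_mul]
          simp [hE.mul_eq]
        rw [← hk, ← mul_assoc, hgE, zero_mul]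
      induction i using Fin.cases with
      | zero =>
        induction j using Fin.cases with
        | zero => exact absurd rfl hij
        | succ j => simpa using hgi j
      | succ i =>
        induction j using Fin.cases with
        | zero => simpa [mul_comm] using hgi i
        | succ j => simpa using hE.ortho fun h => hij (congrArg Fin.succ h)
    · intro i
      induction i using Fin.cases with
      | zero =>
        show Module.Finite R'' ((R'' ⊗[R] S) ⧸ Ideal.span {1 - g})
        haveI : IsLocalization.Away f ((R'' ⊗[R'] (R' ⊗[R] S)) ⧸ Ideal.span {1 - f}) :=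
          IsLocalization.Away.quotient_of_isIdempotentElem hf
        haveI : Module.Finite R'' ((R'' ⊗[R'] (R' ⊗[R] S)) ⧸ Ideal.span {1 - f}) :=
          Module.Finite.equiv ((IsLocalization.algEquiv (Submonoid.powers f) (Localization.Away f)
            ((R'' ⊗[R'] (R' ⊗[R] S)) ⧸ Ideal.span {1 - f})).restrictScalars R'').toLinearEquiv
        let π : ((R'' ⊗[R'] (R' ⊗[R] S)) ⧸ Ideal.span {1 - f}) →ₐ[R''] (R'' ⊗[R] S) ⧸ Ideal.span {1 - g} :=
          Ideal.Quotient.liftₐ _ ((Ideal.Quotient.mkₐ R'' _).comp ε.toAlgHom) fun x hx => by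
            obtain ⟨y, rfl⟩ := Ideal.mem_span_singleton.mp hx
            show Ideal.Quotient.mk _ (ε ((1 - f) * y)) = 0
            rw [Ideal.Quotient.eq_zero_iff_mem, Ideal.mem_span_singleton]
            refine ⟨(1 - ε f) * ε y, ?_⟩
            rw [map_mul, map_sub, map_one]
            simp only [g]
            linear_combination (-(1 - ∑ i, E i) * ε y) * (hf.map ε).eq
        exact Module.Finite.of_surjective π.toLinearMap fun z => by
          obtain ⟨z, rfl⟩ := Ideal.Quotient.mk_surjective z
          exact ⟨Ideal.Quotient.mk _ (ε.symm z), congrArg (Ideal.Quotient.mk _) (ε.apply_symm_apply z)⟩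
      | succ i =>
        show Module.Finite R'' ((R'' ⊗[R] S) ⧸ Ideal.span {1 - E i})
        haveI := hfin i
        let ψ : ((R' ⊗[R] S) ⧸ Ideal.span {1 - e i}) →ₐ[R'] (R'' ⊗[R] S) ⧸ Ideal.span {1 - E i} :=
          Ideal.Quotient.liftₐ _ ((Ideal.Quotient.mkₐ R' _).comp φ) fun x hx => by
            obtain ⟨y, rfl⟩ := Ideal.mem_span_singleton.mp hx
            show Ideal.Quotient.mk _ (φ ((1 - e i) * y)) = 0
            rw [Ideal.Quotient.eq_zero_iff_mem, map_mul, map_sub, map_one]
            exact Ideal.mul_mem_right _ _ (Ideal.mem_span_singleton_self _)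
        let Ψ : R'' ⊗[R'] ((R' ⊗[R] S) ⧸ Ideal.span {1 - e i}) →ₐ[R''] (R'' ⊗[R] S) ⧸ Ideal.span {1 - E i} :=
          Algebra.TensorProduct.lift (Algebra.ofId _ _) ψ fun _ _ => Commute.all _ _
        refine Module.Finite.of_surjective Ψ.toLinearMap fun z => ?_
        obtain ⟨z, rfl⟩ := Ideal.Quotient.mk_surjective z
        induction z using TensorProduct.induction_on with
        | zero => exact ⟨0, by simp⟩
        | tmul a s =>
          refine ⟨a ⊗ₜ Ideal.Quotient.mk _ ((1 : R') ⊗ₜ[R] s), ?_⟩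
          rw [AlgHom.toLinearMap_apply, Algebra.TensorProduct.lift_tmul]
          show algebraMap R'' _ a * Ideal.Quotient.mk _ (φ ((1 : R') ⊗ₜ[R] s)) = _
          rw [hφinc, IsScalarTower.algebraMap_apply R'' (R'' ⊗[R] S) ((R'' ⊗[R] S) ⧸ Ideal.span {1 - E i}),
            Ideal.Quotient.algebraMap_eq, ← map_mul, Algebra.TensorProduct.algebraMap_apply,
            Algebra.TensorProduct.tmul_mul_tmul]
          simp
        | add a b ha hb =>
          obtain ⟨x, hx⟩ := ha
          obtain ⟨y, hy⟩ := hb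
          exact ⟨x + y, by rw [map_add, hx, hy, map_add]⟩
    · -- uniqueness
      have hover : ∀ (Q : Ideal (R'' ⊗[R] S)), Q.LiesOver P₂ → (Q.comap φ.toRingHom).LiesOver P := by
        intro Q hQ
        refine ⟨?_⟩
        haveI : Q.LiesOver P := .trans Q P₂ P
        rw [Ideal.under_def, Ideal.comap_comap, AlgHom.toRingHom_eq_coe, AlgHom.comp_algebraMap,
          ← Ideal.under_def]
        exact Q.over_def P
      have hcomapinc : ∀ (Q : Ideal (R'' ⊗[R] S)),
          (Q.comap φ.toRingHom).comap (Algebra.TensorProduct.includeRight : S →ₐ[R] R' ⊗[R] S).toRingHom =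
          Q.comap (Algebra.TensorProduct.includeRight : S →ₐ[R] R'' ⊗[R] S).toRingHom := by
        intro Q
        ext s
        show φ ((1 : R') ⊗ₜ[R] s) ∈ Q ↔ _
        rw [hφinc]
        rfl
      intro i
      induction i using Fin.cases with
      | zero =>
        simp only [Fin.cons_zero]
        let Q := Q₂.comap ε.symm.toRingEquiv.toRingHom
        haveI hQ : Q.IsPrime := Ideal.comap_isPrime _ _
        haveI hQP : Q.LiesOver P₂ := ⟨by
          ext r
          rw [Ideal.under_def, Ideal.mem_comap]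
          show r ∈ P₂ ↔ ε.symm (algebraMap R'' _ r) ∈ Q₂
          rw [AlgEquiv.commutes, ← Ideal.mem_comap, ← Ideal.under_def, ← Q₂.over_def P₂]⟩
        have hQφ : Q.comap φ.toRingHom = Q₀.1 := by
          rw [← hQ₂]
          ext x
          show ε.symm (φ x) ∈ Q₂ ↔ _
          rw [← hφ, AlgEquiv.symm_apply_apply]
          rfl
        refine ⟨Q, ⟨hQ, hQP, fun h => ?_⟩, ?_⟩
        · rcases hQ.mem_or_mem h with h1 | h1
          · exact hfQ₂ (by simpa [Q] using h1)
          · refine hQ.ne_top ((Ideal.eq_top_iff_one _).mpr ?_)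
            have h2 : ∑ i, E i ∈ Q := Q.sum_mem fun i _ => by
              show e i ∈ Q.comap φ.toRingHom
              rw [hQφ]; exact hc i
            simpa using Q.add_mem h1 h2
        · rintro Q' ⟨hQ', hQ'P, hQ'g⟩
          haveI := hQ'; haveI := hQ'P
          let Q'' := Q'.comap ε.toRingEquiv.toRingHom
          haveI : Q''.LiesOver P₂ := ⟨by
            ext r
            rw [Ideal.under_def, Ideal.mem_comap]
            show r ∈ P₂ ↔ ε (algebraMap R'' _ r) ∈ Q'
            rw [AlgEquiv.commutes, ← Ideal.mem_comap, ← Ideal.under_def, ← Q'.over_def P₂]⟩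
          have h1 := hH Q'' inferInstance inferInstance fun h => hQ'g (Q'.mul_mem_right _ h)
          ext x
          show x ∈ Q' ↔ ε.symm x ∈ Q₂
          rw [← h1]
          show x ∈ Q' ↔ ε (ε.symm x) ∈ Q'
          rw [AlgEquiv.apply_symm_apply]
      | succ i =>
        simp only [Fin.cons_succ]
        obtain ⟨Qi, ⟨hQi, hQiP, hQie⟩, hQiu⟩ := huniq i
        haveI := hQi; haveI := hQiP
        haveI : (Qi.comap (Algebra.TensorProduct.includeRight : S →ₐ[R] R' ⊗[R] S).toRingHom).IsPrime :=
          Ideal.comap_isPrime _ _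
        have hqi : (Qi.comap (Algebra.TensorProduct.includeRight : S →ₐ[R] R' ⊗[R] S).toRingHom).LiesOver p := ⟨by
          haveI : Qi.LiesOver p := .trans Qi P p
          rw [Ideal.under_def, Ideal.comap_comap, AlgHom.toRingHom_eq_coe, AlgHom.comp_algebraMap,
            ← Ideal.under_def]
          exact Qi.over_def p⟩
        let Q := (Ideal.fiberIsoOfBijectiveResidueField hbij').symm ⟨_, inferInstance, hqi⟩
        haveI : Q.1.IsPrime := Q.2.1
        haveI : Q.1.LiesOver P₂ := Q.2.2
        haveI := hover Q.1 Q.2.2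
        have hQ : Q.1.comap φ.toRingHom = Qi := by
          apply Ideal.eq_of_comap_eq_comap_of_bijective_residueFieldMap hbij
          rw [hcomapinc]
          exact Ideal.comap_fiberIsoOfBijectiveResidueField_symm hbij' _
        refine ⟨Q.1, ⟨inferInstance, inferInstance, fun h => hQie ?_⟩, ?_⟩
        · rw [← hQ]; exact h
        · rintro Q' ⟨hQ', hQ'P, hQ'e⟩
          haveI := hQ'; haveI := hQ'P
          apply Ideal.eq_of_comap_eq_comap_of_bijective_residueFieldMap hbij'
          rw [← hcomapinc, ← hcomapinc, hQ]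
          rw [hQiu (Q'.comap φ.toRingHom) ⟨inferInstance, hover Q' hQ'P, hQ'e⟩]
    · intro Q hQ hQP hQF
      haveI := hQP
      haveI : (Q.comap φ.toRingHom).LiesOver P := ⟨by
        haveI : Q.LiesOver P := .trans Q P₂ P
        rw [Ideal.under_def, Ideal.comap_comap, AlgHom.toRingHom_eq_coe, AlgHom.comp_algebraMap,
          ← Ideal.under_def]
        exact Q.over_def P⟩
      have hci : (Q.comap φ.toRingHom).comap (Algebra.TensorProduct.includeRight : S →ₐ[R] R' ⊗[R] S).toRingHom =
          Q.comap (Algebra.TensorProduct.includeRight : S →ₐ[R] R'' ⊗[R] S).toRingHom := by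
        ext s
        show φ ((1 : R') ⊗ₜ[R] s) ∈ Q ↔ _
        rw [hφinc]
        rfl
      by_contra hcon
      push Not at hcon
      have hEQ : ∀ i, E i ∈ Q := fun i => by simpa using hcon i.succ
      rw [Finset.coe_insert] at hQF
      rcases hQF with hQq | hQF
      · have h0 : g ∈ Q := by simpa using hcon 0
        rcases hQ.mem_or_mem h0 with h1 | h1
        · refine hfQ₂ ?_
          have hQeq : Q.comap ε.toRingEquiv.toRingHom = Q₂ := by
            haveI : (Q.comap ε.toRingEquiv.toRingHom).LiesOver P₂ := ⟨by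
              ext r
              rw [Ideal.under_def, Ideal.mem_comap]
              show r ∈ P₂ ↔ ε (algebraMap R'' _ r) ∈ Q
              rw [AlgEquiv.commutes, ← Ideal.mem_comap, ← Ideal.under_def, ← Q.over_def P₂]⟩
            apply Ideal.eq_of_comap_eq_comap_of_bijective_residueFieldMap hbij₂
            rw [hQ₂, Ideal.comap_comap]
            have hx : Q.comap φ.toRingHom = Q₀.1 := Ideal.eq_of_comap_eq_comap_of_bijective_residueFieldMap hbij _ _
              (hci.trans (hQq.trans hQ₀.symm))
            rw [← hx]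
            congr 1
            exact RingHom.ext hφ
          rw [← hQeq]
          exact h1
        · refine hQ.ne_top ((Ideal.eq_top_iff_one _).mpr ?_)
          simpa using Q.add_mem h1 (Q.sum_mem fun i (_ : i ∈ Finset.univ) => hEQ i)
      · obtain ⟨i, hi⟩ := hcov (Q.comap φ.toRingHom) inferInstance (hci ▸ hQF)
        exact hi (hEQ i)

end Groth.Agent.CAlg48.EtaleSplit
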