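import Mathlib.LinearAlgebra.DFinsupp
import Mathlib.LinearAlgebra.Projection
import Mathlib.LinearAlgebra.FiniteDimensional.Lemmas
import Mathlib.RingTheory.LocalRing.Module
import Mathlib.Algebra.Module.Projective

/-!
# Splitting of filtrations by gradings

For an antitone family `F : Γ → Submodule R M` indexed by a linear order, `fp F γ = ⨆_{η > γ} F η`.
A *lift* of `F` is a family `H` with `F γ = H γ ⊕ fp F γ` for all `γ`.
-/

set_option autoImplicit false

universe u v w

open TensorProduct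

namespace Groth.Agent.CAlg48.FiltSplit

variable {Γ : Type w} [LinearOrder Γ] {R : Type u} [CommRing R]
  {M : Type v} [AddCommGroup M] [Module R M]

/-- `⨆_{η > γ} F η`. -/
def fp (F : Γ → Submodule R M) (γ : Γ) : Submodule R M := ⨆ η ∈ Set.Ioi γ, F η

/-- `H γ` is a complement of `fp F γ` in `F γ`. -/
structure IsLift (F H : Γ → Submodule R M) : Prop where
  disj : ∀ γ, Disjoint (H γ) (fp F γ)
  sup_eq : ∀ γ, H γ ⊔ fp F γ = F γ

theorem fp_le {F : Γ → Submodule R M} (hF : Antitone F) (γ : Γ) : fp F γ ≤ F γ :=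
  iSup₂_le fun _ h => hF (le_of_lt h)

theorem IsLift.le {F H : Γ → Submodule R M} (h : IsLift F H) (γ : Γ) : H γ ≤ F γ :=
  le_sup_left.trans_eq (h.sup_eq γ)

theorem IsLift.antitone {F H : Γ → Submodule R M} (h : IsLift F H) : Antitone F := fun a b hab => by
  rcases eq_or_lt_of_le hab with rfl | hlt
  · exact le_rfl
  · exact (le_biSup F (show b ∈ Set.Ioi a from hlt)).trans (le_sup_right.trans_eq (h.sup_eq a))

theorem sum_mem_fp {F H : Γ → Submodule R M} (h : IsLift F H) (s : Finset Γ) (v : Γ → M)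
    (hv : ∀ i ∈ s, v i ∈ H i) {γ : Γ} (hs : ∀ i ∈ s, γ < i) : ∑ i ∈ s, v i ∈ fp F γ :=
  sum_mem fun i hi => (le_biSup F (show i ∈ Set.Ioi γ from hs i hi)) (h.le i (hv i hi))

theorem IsLift.iSupIndep {F H : Γ → Submodule R M} (h : IsLift F H) : _root_.iSupIndep H := by
  classical
  rw [iSupIndep_iff_finsetSum_eq_zero_imp_eq_zero]
  intro s v hv hsum
  by_contra! hne
  obtain ⟨i, hi, hvi⟩ := hne
  let t := s.filter fun j => v j ≠ 0
  have ht : t.Nonempty := ⟨i, Finset.mem_filter.mpr ⟨hi, hvi⟩⟩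
  obtain ⟨hm, hvm⟩ := Finset.mem_filter.mp (t.min'_mem ht)
  refine hvm (Submodule.disjoint_def.mp (h.disj _) _ (hv _ hm) ?_)
  have hsum' : ∑ j ∈ t, v j = 0 := by rw [Finset.sum_filter_ne_zero, hsum]
  rw [← Finset.add_sum_erase _ _ (t.min'_mem ht), add_eq_zero_iff_eq_neg] at hsum'
  rw [hsum', neg_mem_iff]
  exact sum_mem_fp h _ v (fun j hj => hv j (Finset.mem_filter.mp (Finset.mem_of_mem_erase hj)).1)
    fun j hj => lt_of_le_of_ne (t.min'_le j (Finset.mem_of_mem_erase hj)) (Finset.ne_of_mem_erase hj).symm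

/-- A spanning lift splits the filtration. -/
theorem IsLift.eq_iSup {F H : Γ → Submodule R M} (h : IsLift F H) (htop : iSup H = ⊤) (γ : Γ) :
    F γ = ⨆ η ∈ Set.Ici γ, H η := by
  classical
  refine le_antisymm (fun x hx => ?_) (iSup₂_le fun η hη => (h.le η).trans (h.antitone hη))
  obtain ⟨f, hf, rfl⟩ := (Submodule.mem_iSup_iff_exists_finsupp H x).mp (htop ▸ Submodule.mem_top)
  refine Submodule.sum_mem _ fun i hi => ?_
  suffices hsupp : ∀ j ∈ f.support, γ ≤ j from
    le_biSup H (show i ∈ Set.Ici γ from hsupp i hi) (hf i)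
  by_contra! hlt
  obtain ⟨j, hj, hjγ⟩ := hlt
  have hne : f.support.Nonempty := ⟨j, hj⟩
  set m := f.support.min' hne with hm
  have hmγ : m < γ := (f.support.min'_le j hj).trans_lt hjγ
  refine Finsupp.mem_support_iff.mp (f.support.min'_mem hne)
    (Submodule.disjoint_def.mp (h.disj m) _ (hf m) ?_)
  have hx' : (f.sum fun _ x => x) ∈ fp F m := le_biSup F (show γ ∈ Set.Ioi m from hmγ) hx
  rw [Finsupp.sum, ← Finset.add_sum_erase _ _ (f.support.min'_mem hne)] at hx'
  refine (Submodule.add_mem_iff_left _ ?_).mp hx'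
  exact sum_mem_fp h _ f (fun k _ => hf k) fun k hk =>
    lt_of_le_of_ne (f.support.min'_le k (Finset.mem_of_mem_erase hk)) (Finset.ne_of_mem_erase hk).symm

theorem IsLift.isInternal {F H : Γ → Submodule R M} (h : IsLift F H) (htop : iSup H = ⊤) :
    DirectSum.IsInternal H :=
  (DirectSum.isInternal_submodule_iff_iSupIndep_and_iSup_eq_top H).mpr ⟨h.iSupIndep, htop⟩

/-- If the graded pieces are projective, a lift exists. -/
theorem exists_isLift {F : Γ → Submodule R M} (hF : Antitone F)
    (hproj : ∀ γ, Module.Projective R (↥(F γ) ⧸ Submodule.comap (F γ).subtype (fp F γ))) :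
    ∃ H, IsLift F H := by
  have hs : ∀ γ, ∃ s : (↥(F γ) ⧸ Submodule.comap (F γ).subtype (fp F γ)) →ₗ[R] F γ,
      (Submodule.comap (F γ).subtype (fp F γ)).mkQ ∘ₗ s = LinearMap.id := fun γ => by
    haveI := hproj γ
    exact Module.projective_lifting_property _ _ (Submodule.mkQ_surjective _)
  choose s hs using hs
  refine ⟨fun γ => LinearMap.range ((F γ).subtype ∘ₗ s γ), fun γ => ?_, fun γ => ?_⟩
  · rw [Submodule.disjoint_def]
    rintro _ ⟨y, rfl⟩ hy
    have h : y = 0 := by
      rw [← LinearMap.id_apply (R := R) y, ← LinearMap.congr_fun (hs γ) y]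
      exact (Submodule.Quotient.mk_eq_zero _).mpr hy
    rw [h, map_zero]
  · refine le_antisymm (sup_le ?_ (fp_le hF γ)) fun x hx => ?_
    · rintro _ ⟨y, rfl⟩; exact (s γ y).2
    · let q := (Submodule.comap (F γ).subtype (fp F γ)).mkQ ⟨x, hx⟩
      refine Submodule.mem_sup.mpr ⟨_, ⟨q, rfl⟩, x - (s γ q : M), ?_, by simp⟩
      have h : (Submodule.comap (F γ).subtype (fp F γ)).mkQ (⟨x, hx⟩ - s γ q) = 0 := by
        rw [map_sub, sub_eq_zero]
        exact (LinearMap.congr_fun (hs γ) q).symm
      exact (Submodule.Quotient.mk_eq_zero (Submodule.comap (F γ).subtype (fp F γ))).mp h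

theorem fp_eq_of_split {F G : Γ → Submodule R M}
    (hFG : ∀ γ, F γ = ⨆ η ∈ Set.Ici γ, G η) (γ : Γ) : fp F γ = ⨆ η ∈ Set.Ioi γ, G η := by
  refine le_antisymm (iSup₂_le fun η hη => ?_) (iSup₂_le fun η hη => ?_)
  · rw [hFG η]
    exact iSup₂_le fun θ hθ => le_biSup G (show θ ∈ Set.Ioi γ from lt_of_lt_of_le hη hθ)
  · refine le_trans ?_ (le_biSup F hη)
    rw [hFG η]
    exact le_biSup G (Set.mem_Ici.mpr le_rfl)

/-- A splitting grading is a lift. -/
theorem isLift_of_split {F G : Γ → Submodule R M} (hG : _root_.iSupIndep G)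
    (hFG : ∀ γ, F γ = ⨆ η ∈ Set.Ici γ, G η) : IsLift F G := by
  refine ⟨fun γ => ?_, fun γ => ?_⟩
  · rw [fp_eq_of_split hFG]
    exact hG.disjoint_biSup (by simp)
  · rw [fp_eq_of_split hFG, hFG γ, ← Set.Ioi_insert, iSup_insert]

/-- An independent spanning family of a finite module is supported on a finite set. -/
theorem exists_finset_support [Module.Finite R M] {G : Γ → Submodule R M} (hG : _root_.iSupIndep G)
    (htop : iSup G = ⊤) : ∃ S : Finset Γ, ∀ γ ∉ S, G γ = ⊥ := by
  classical
  obtain ⟨gens, hgens⟩ := Module.Finite.fg_top (R := R) (M := M)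
  choose f hf hfx using fun x : M =>
    (Submodule.mem_iSup_iff_exists_finsupp G x).mp (htop ▸ Submodule.mem_top)
  refine ⟨gens.biUnion fun x => (f x).support, fun γ hγ => ?_⟩
  have hle : (⊤ : Submodule R M) ≤ ⨆ η ∈ ({γ}ᶜ : Set Γ), G η := by
    rw [← hgens, Submodule.span_le]
    intro x hx
    rw [SetLike.mem_coe, ← hfx x]
    refine Submodule.sum_mem _ fun i hi => le_biSup G (show i ∈ ({γ}ᶜ : Set Γ) from ?_) (hf x i)
    rintro rfl
    exact hγ (Finset.mem_biUnion.mpr ⟨x, hx, hi⟩)
  exact (hG.disjoint_biSup (y := ({γ}ᶜ : Set Γ)) (by simp)).eq_bot_of_le (le_top.trans hle)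

/-- Any lift of a split filtration on a finite module spans. -/
theorem iSup_eq_top_of_split [Module.Finite R M] {F G H : Γ → Submodule R M}
    (hG : _root_.iSupIndep G) (htop : iSup G = ⊤) (hFG : ∀ γ, F γ = ⨆ η ∈ Set.Ici γ, G η)
    (hH : IsLift F H) : iSup H = ⊤ := by
  classical
  obtain ⟨S, hS⟩ := exists_finset_support hG htop
  rw [eq_top_iff, ← htop]
  refine iSup_le fun γ => ?_
  generalize hn : (S.filter (γ < ·)).card = n
  induction n using Nat.strong_induction_on generalizing γ with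
  | _ n ih =>
    have hle : G γ ≤ F γ := (le_biSup G (Set.mem_Ici.mpr le_rfl)).trans_eq (hFG γ).symm
    refine hle.trans ?_
    rw [← hH.sup_eq γ]
    refine sup_le (le_iSup H γ) ?_
    rw [fp_eq_of_split hFG]
    refine iSup₂_le fun η hη => ?_
    by_cases hηS : η ∈ S
    · refine ih _ ?_ η rfl
      rw [← hn]
      exact Finset.card_lt_card ⟨fun a ha => Finset.mem_filter.mpr
        ⟨(Finset.mem_filter.mp ha).1, lt_trans hη (Finset.mem_filter.mp ha).2⟩,
        fun h => lt_irrefl η (Finset.mem_filter.mp (h (Finset.mem_filter.mpr ⟨hηS, hη⟩))).2⟩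
    · rw [hS η hηS]; exact bot_le

section field

variable {K : Type u} [Field K] {V : Type v} [AddCommGroup V] [Module K V] [FiniteDimensional K V]

theorem finrank_sub_eq {F : Γ → Submodule K V} (hF : Antitone F) {W : Submodule K V}
    (hW : ∀ γ, F γ ≤ W ⊔ fp F γ) (γ : Γ) :
    Module.finrank K (F γ) + Module.finrank K ↥(W ⊓ fp F γ) =
      Module.finrank K ↥(W ⊓ F γ) + Module.finrank K (fp F γ) := by
  have h1 : (W ⊓ F γ) ⊔ fp F γ = F γ := by
    rw [sup_comm, ← sup_inf_assoc_of_le W (fp_le hF γ), sup_comm]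
    exact inf_eq_right.mpr (hW γ)
  have h2 : (W ⊓ F γ) ⊓ fp F γ = W ⊓ fp F γ := by
    rw [inf_assoc, inf_eq_right.mpr (fp_le hF γ)]
  have := Submodule.finrank_sup_add_finrank_inf_eq (W ⊓ F γ) (fp F γ)
  rw [h1, h2] at this
  omega

theorem sum_le_finrank {F : Γ → Submodule K V} (hF : Antitone F) {W : Submodule K V}
    (hW : ∀ γ, F γ ≤ W ⊔ fp F γ) (S : Finset Γ) :
    (∑ γ ∈ S, (Module.finrank K (F γ) - Module.finrank K (fp F γ)) ≤ Module.finrank K W) ∧
    ∀ γ, (∀ η ∈ S, γ < η) →
      ∑ γ ∈ S, (Module.finrank K (F γ) - Module.finrank K (fp F γ)) ≤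
        Module.finrank K ↥(W ⊓ fp F γ) := by
  classical
  induction S using Finset.induction_on_min with
  | empty => simp
  | insert a S ha ih =>
    have hnot : a ∉ S := fun h => lt_irrefl a (ha a h)
    have hb := ih.2 a ha
    have he := finrank_sub_eq hF hW a
    have h1 := Submodule.finrank_mono (R := K) (inf_le_right : W ⊓ fp F a ≤ fp F a)
    have hkey : ∑ γ ∈ insert a S, (Module.finrank K (F γ) - Module.finrank K (fp F γ)) ≤
        Module.finrank K ↥(W ⊓ F a) := by
      rw [Finset.sum_insert hnot]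
      have := Submodule.finrank_mono (R := K) (fp_le hF a)
      omega
    refine ⟨hkey.trans (Submodule.finrank_mono inf_le_left), fun γ hγ => hkey.trans ?_⟩
    exact Submodule.finrank_mono (inf_le_inf_left W
      (le_biSup F (show a ∈ Set.Ioi γ from hγ a (Finset.mem_insert_self a S))))

theorem eq_top_of_finsum_eq {F : Γ → Submodule K V} (hF : Antitone F) {W : Submodule K V}
    (hW : ∀ γ, F γ ≤ W ⊔ fp F γ)
    (hsum : Module.finrank K V = ∑ᶠ γ, (Module.finrank K (F γ) - Module.finrank K (fp F γ))) :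
    W = ⊤ := by
  classical
  apply Submodule.eq_top_of_finrank_eq
  refine le_antisymm (Submodule.finrank_le W) ?_
  rw [hsum]
  by_cases hfin : (Function.support fun γ => Module.finrank K (F γ) - Module.finrank K (fp F γ)).Finite
  · rw [finsum_eq_sum _ hfin]
    exact (sum_le_finrank hF hW _).1
  · rw [finsum_of_infinite_support hfin]
    exact Nat.zero_le _

/-- The dimensions of the steps of a split filtration add up. -/
theorem finsum_eq_of_split {F G : Γ → Submodule K V} (hG : _root_.iSupIndep G) (htop : iSup G = ⊤)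
    (hFG : ∀ γ, F γ = ⨆ η ∈ Set.Ici γ, G η) :
    Module.finrank K V = ∑ᶠ γ, (Module.finrank K (F γ) - Module.finrank K (fp F γ)) := by
  classical
  have hl := isLift_of_split hG hFG
  have hδ : ∀ γ, Module.finrank K (F γ) - Module.finrank K (fp F γ) = Module.finrank K (G γ) := by
    intro γ
    have := Submodule.finrank_sup_add_finrank_inf_eq (G γ) (fp F γ)
    rw [hl.sup_eq γ, (hl.disj γ).eq_bot, finrank_bot] at this
    omega
  obtain ⟨S, hS⟩ := exists_finset_support hG htop
  rw [finsum_congr hδ, finsum_eq_sum_of_support_subset _ (s := S) fun γ hγ => by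
    by_contra h
    exact hγ (by show Module.finrank K (G γ) = 0; rw [hS γ h, finrank_bot])]
  have key : ∀ T : Finset Γ, Module.finrank K ↥(⨆ γ ∈ T, G γ) = ∑ γ ∈ T, Module.finrank K (G γ) := by
    intro T
    induction T using Finset.induction_on with
    | empty => simp
    | insert a T ha ih =>
      have hd : Disjoint (G a) (⨆ γ ∈ (↑T : Set Γ), G γ) := hG.disjoint_biSup (by simpa using ha)
      have := Submodule.finrank_sup_add_finrank_inf_eq (G a) (⨆ γ ∈ (↑T : Set Γ), G γ)
      rw [hd.eq_bot, finrank_bot, add_zero] at this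
      rw [Finset.sum_insert ha, ← ih]
      refine Eq.trans ?_ this
      rw [show (⨆ γ ∈ insert a T, G γ) = G a ⊔ ⨆ γ ∈ T, G γ from Finset.iSup_insert a T G]
      rfl
  rw [← key, show (⨆ γ ∈ S, G γ) = ⊤ from ?_, finrank_top]
  rw [eq_top_iff, ← htop]
  refine iSup_le fun γ => ?_
  by_cases h : γ ∈ S
  · exact le_iSup₂_of_le γ h le_rfl
  · rw [hS γ h]; exact bot_le

end field

section baseChange

variable (A : Type*) [CommRing A] [Algebra R A]

theorem baseChange_iSup {ι : Sort*} (p : ι → Submodule R M) :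
    (⨆ i, p i).baseChange A = ⨆ i, (p i).baseChange A := by
  refine le_antisymm ?_ (iSup_le fun i => Submodule.baseChange_mono A (le_iSup p i))
  rw [Submodule.baseChange_eq_span, Submodule.span_le]
  rintro _ ⟨m, hm, rfl⟩
  rw [SetLike.mem_coe]
  induction hm using Submodule.iSup_induction' with
  | mem i x hx => exact le_iSup (fun i => (p i).baseChange A) i (Submodule.tmul_mem_baseChange_of_mem _ hx)
  | zero => rw [map_zero]; exact zero_mem _
  | add x y _ _ hx hy => rw [map_add]; exact add_mem hx hy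

theorem baseChange_sup (p q : Submodule R M) :
    (p ⊔ q).baseChange A = p.baseChange A ⊔ q.baseChange A := by
  rw [sup_eq_iSup, baseChange_iSup, sup_eq_iSup]
  exact iSup_congr fun b => by cases b <;> rfl

theorem disjoint_baseChange {p q : Submodule R M} (h : IsCompl p q) :
    Disjoint (p.baseChange A) (q.baseChange A) := by
  rw [Submodule.disjoint_def]
  intro x hx hx'
  obtain ⟨y, rfl⟩ := hx
  let P : M →ₗ[R] M := p.projection q h
  have h1 : P ∘ₗ p.subtype = p.subtype := LinearMap.ext fun z => Submodule.projection_apply_left h z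
  have h2 : P ∘ₗ q.subtype = 0 := LinearMap.ext fun z => Submodule.projection_apply_right h z
  obtain ⟨z, hz⟩ := hx'
  calc p.subtype.baseChange A y = P.baseChange A (p.subtype.baseChange A y) := by
        rw [← LinearMap.comp_apply, ← LinearMap.baseChange_comp, h1]
    _ = P.baseChange A (q.subtype.baseChange A z) := by rw [hz]
    _ = 0 := by rw [← LinearMap.comp_apply, ← LinearMap.baseChange_comp, h2, LinearMap.baseChange_zero,
          LinearMap.zero_apply]

theorem iSupIndep_baseChange {ι : Type*} {G : ι → Submodule R M} (hG : _root_.iSupIndep G)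
    (htop : iSup G = ⊤) : _root_.iSupIndep fun i => (G i).baseChange A := by
  intro i
  have hc : IsCompl (G i) (⨆ j, ⨆ _ : j ≠ i, G j) :=
    ⟨hG i, codisjoint_iff_le_sup.mpr (htop.ge.trans (iSup_le fun j => by
      by_cases h : j = i
      · exact h ▸ le_sup_left
      · exact le_sup_of_le_right (le_iSup₂_of_le j h le_rfl)))⟩
  refine (disjoint_baseChange A hc).mono_right ?_
  exact iSup₂_le fun j hj => Submodule.baseChange_mono A (le_iSup₂_of_le j hj le_rfl)

/-- A submodule of a finite module which spans every fibre is everything. -/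
theorem eq_top_of_forall_baseChange [Module.Finite R M] (N : Submodule R M)
    (h : ∀ p : PrimeSpectrum R, N.baseChange p.asIdeal.ResidueField = ⊤) : N = ⊤ := by
  rw [← Submodule.Quotient.subsingleton_iff, ← Module.support_eq_empty_iff (R := R),
    Set.eq_empty_iff_forall_notMem]
  intro p hp
  rw [Module.mem_support_iff_nontrivial_residueField_tensorProduct] at hp
  refine not_subsingleton (p.asIdeal.ResidueField ⊗[R] (M ⧸ N)) (subsingleton_of_forall_eq 0 fun x => ?_)
  obtain ⟨y, rfl⟩ := LinearMap.lTensor_surjective _ N.mkQ_surjective x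
  have hy : y ∈ N.baseChange p.asIdeal.ResidueField := h p ▸ Submodule.mem_top
  obtain ⟨z, rfl⟩ := hy
  show N.mkQ.lTensor _ (N.subtype.lTensor _ z) = 0
  rw [← LinearMap.comp_apply, ← LinearMap.lTensor_comp,
    show N.mkQ ∘ₗ N.subtype = 0 from LinearMap.ext fun w => (Submodule.Quotient.mk_eq_zero N).mpr w.2,
    LinearMap.lTensor_zero, LinearMap.zero_apply]

end baseChange

end Groth.Agent.CAlg48.FiltSplit
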