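import Groth.Agent.EGA41Lib.Regular
import Mathlib

/-!
# Regular rings under idempotent decompositions; descent of finite field extensions
-/

set_option autoImplicit false

namespace Groth.Agent.CAlg48.GeomReg

open TensorProduct
open scoped Pointwise

universe u

theorem isRegularRing_of_isLocalization {R : Type u} [CommRing R] [IsRegularRing R] (M : Submonoid R)
    (S : Type u) [CommRing S] [Algebra R S] [IsLocalization M S] : IsRegularRing S := by
  haveI := EGA41Lib.isRegularRing_localization (R := R) M
  exact IsRegularRing.of_ringEquiv (IsLocalization.algEquiv M (Localization M) S).toRingEquiv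

/-- The quotient of a regular ring cut out by an idempotent is regular. -/
theorem isRegularRing_quotient {P : Type u} [CommRing P] [IsRegularRing P] {e : P} (he : IsIdempotentElem e) :
    IsRegularRing (P ⧸ Ideal.span {1 - e}) := by
  haveI := IsLocalization.Away.quotient_of_isIdempotentElem he
  exact isRegularRing_of_isLocalization (Submonoid.powers e) _

/-- Regularity is local for idempotent decompositions. -/
theorem isRegularRing_of_idempotents {P : Type u} [CommRing P] [IsNoetherianRing P]
    (h : ∀ q : Ideal P, q.IsPrime → ∃ e, IsIdempotentElem e ∧ e ∉ q ∧ IsRegularRing (P ⧸ Ideal.span {1 - e})) :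
    IsRegularRing P := by
  refine isRegularRing_iff.mpr fun q hq => ?_
  obtain ⟨e, he, heq, hreg⟩ := h q hq
  haveI := hreg
  let Pe := P ⧸ Ideal.span {1 - e}
  haveI : IsLocalization.Away e Pe := IsLocalization.Away.quotient_of_isIdempotentElem he
  have hdisj : Disjoint (Submonoid.powers e : Set P) (q : Set P) :=
    (Ideal.disjoint_powers_iff_notMem_of_isPrime _).mpr heq
  haveI hQ : (q.map (algebraMap P Pe)).IsPrime :=
    IsLocalization.isPrime_of_isPrime_disjoint (Submonoid.powers e) _ _ hq hdisj
  haveI h1 := IsLocalization.isLocalization_isLocalization_atPrime_isLocalization (Submonoid.powers e)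
    (Localization.AtPrime (q.map (algebraMap P Pe))) (q.map (algebraMap P Pe))
  have hu : (q.map (algebraMap P Pe)).under P = q :=
    IsLocalization.under_map_of_isPrime_disjoint (Submonoid.powers e) _ hq hdisj
  haveI : IsLocalization q.primeCompl (Localization.AtPrime (q.map (algebraMap P Pe))) := by
    have : ((q.map (algebraMap P Pe)).under P).primeCompl = q.primeCompl := by ext; simp [hu]
    exact this ▸ h1
  haveI := IsRegularRing.isRegularLocalRing_localization (R := Pe) (q.map (algebraMap P Pe))
  exact IsRegularLocalRing.of_ringEquiv (R := Localization.AtPrime (q.map (algebraMap P Pe)))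
    (IsLocalization.algEquiv q.primeCompl _ (Localization.AtPrime q)).toRingEquiv

/-- In an Artinian reduced ring every maximal ideal is generated by an idempotent complement. -/
theorem exists_idempotent_span {R : Type u} [CommRing R] [IsArtinianRing R] [IsReduced R] (m : Ideal R)
    [m.IsMaximal] : ∃ e : R, IsIdempotentElem e ∧ m = Ideal.span {1 - e} := by
  have hsq : IsIdempotentElem m := by
    refine le_antisymm Ideal.mul_le_left fun x hx => ?_
    obtain ⟨n, y, hy⟩ := IsArtinian.exists_pow_succ_smul_dvd x (1 : R)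
    simp only [smul_eq_mul, mul_one] at hy
    have h0 : x ^ n * (1 - x * y) = 0 := by
      rw [mul_sub, mul_one, ← mul_assoc, ← pow_succ, hy, sub_self]
    have h1 : (x * (1 - x * y)) ^ (n + 1) = 0 := by
      rw [mul_pow, pow_succ x, pow_succ (1 - x * y)]
      linear_combination (x * (1 - x * y) ^ n) * h0
    have h2 := sub_eq_zero.mp ((mul_sub x 1 (x * y)).symm.trans (IsNilpotent.eq_zero ⟨n + 1, h1⟩))
    rw [mul_one] at h2
    rw [h2, ← mul_assoc]
    exact Ideal.mul_mem_right y _ (Ideal.mul_mem_mul hx hx)
  obtain ⟨f, hf, hm⟩ := (Ideal.isIdempotentElem_iff_of_fg m (IsNoetherian.noetherian m)).mp hsq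
  exact ⟨1 - f, hf.one_sub, by rw [hm, sub_sub_cancel]⟩

/-- A finite extension of `L` is defined over every subfield containing suitable finitely many
elements. -/
theorem exists_model (L : Type u) [Field L] (M : Type u) [Field M] [Algebra L M] [Module.Finite L M] :
    ∃ s : Finset L, ∀ (F : Type u) [Field F] [Algebra F L], (↑s ⊆ Set.range (algebraMap F L)) →
      ∃ (K₀ : Type u) (_ : Field K₀) (_ : Algebra F K₀),
        Module.Finite F K₀ ∧ Nonempty (L ⊗[F] K₀ ≃ₐ[L] M) := by
  classical
  let b := Module.finBasis L M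
  let n := Module.finrank L M
  refine ⟨((Finset.univ : Finset (Fin n × Fin n × Fin n)).image fun t => b.repr (b t.1 * b t.2.1) t.2.2) ∪
    (Finset.univ : Finset (Fin n)).image (fun t => b.repr 1 t), fun F _ _ hs => ?_⟩
  letI : Algebra F M := ((algebraMap L M).comp (algebraMap F L)).toAlgebra
  haveI : IsScalarTower F L M := IsScalarTower.of_algebraMap_eq' rfl
  have hmem : ∀ x : M, (∀ t, b.repr x t ∈ Set.range (algebraMap F L)) → x ∈ Submodule.span F (Set.range b) := by
    intro x hx
    rw [← b.sum_repr x]
    refine Submodule.sum_mem _ fun t _ => ?_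
    obtain ⟨c, hc⟩ := hx t
    rw [← hc, algebraMap_smul]
    exact Submodule.smul_mem _ _ (Submodule.subset_span ⟨t, rfl⟩)
  let V : Submodule F M := Submodule.span F (Set.range b)
  have h1 : (1 : M) ∈ V := hmem _ fun t => hs (Finset.mem_coe.mpr (Finset.mem_union_right _
    (Finset.mem_image.mpr ⟨t, Finset.mem_univ _, rfl⟩)))
  have hmul : ∀ x ∈ V, ∀ y ∈ V, x * y ∈ V := by
    intro x hx y hy
    have : x * y ∈ V * V := Submodule.mul_mem_mul hx hy
    refine SetLike.le_def.mp ?_ this
    rw [show V * V = Submodule.span F (Set.range b * Set.range b) from Submodule.span_mul_span F _ _,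
      Submodule.span_le]
    rintro _ ⟨_, ⟨i, rfl⟩, _, ⟨j, rfl⟩, rfl⟩
    exact hmem _ fun t => hs (Finset.mem_coe.mpr (Finset.mem_union_left _
      (Finset.mem_image.mpr ⟨(i, j, t), Finset.mem_univ _, rfl⟩)))
  let A₀ : Subalgebra F M := V.toSubalgebra h1 fun x y hx hy => hmul x hx y hy
  haveI hfinA : Module.Finite F A₀ := Module.Finite.iff_fg.mpr (Submodule.fg_span (Set.finite_range b))
  haveI : Algebra.IsIntegral F A₀ := Algebra.IsIntegral.of_finite F A₀
  letI : Field A₀ := (isField_of_isIntegral_of_isField' (R := F) (S := A₀) (Field.toIsField F)).toField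
  refine ⟨A₀, inferInstance, inferInstance, hfinA, ⟨?_⟩⟩
  let ρ : L ⊗[F] A₀ →ₐ[L] M :=
    Algebra.TensorProduct.lift (Algebra.ofId L M) A₀.val fun _ _ => Commute.all _ _
  refine AlgEquiv.ofBijective ρ ?_
  -- a basis of `A₀` given by `b`
  have hli : LinearIndependent F (fun i => (⟨b i, Submodule.subset_span ⟨i, rfl⟩⟩ : A₀)) := by
    refine LinearIndependent.of_comp A₀.val.toLinearMap ?_
    exact b.linearIndependent.restrict_scalars (by
      intro x y hxy
      simpa [Algebra.smul_def] using hxy)
  have hsp : ⊤ ≤ Submodule.span F (Set.range fun i => (⟨b i, Submodule.subset_span ⟨i, rfl⟩⟩ : A₀)) := by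
    intro x _
    have hx : (x : M) ∈ V := x.2
    have h3 : (x : M) ∈ (Submodule.span F (Set.range fun i => (⟨b i, Submodule.subset_span ⟨i, rfl⟩⟩ : A₀))).map A₀.val.toLinearMap := by
      rw [Submodule.map_span, ← Set.range_comp]
      exact hx
    obtain ⟨z, hz, hzx⟩ := h3
    rwa [← (Subtype.ext hzx : z = x)]
  let b₀ := Module.Basis.mk hli hsp
  let e : L ⊗[F] A₀ ≃ₗ[L] M := (Algebra.TensorProduct.basis L b₀).equiv b (Equiv.refl _)
  have heq : ρ.toLinearMap = e.toLinearMap := by
    refine (Algebra.TensorProduct.basis L b₀).ext fun i => ?_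
    rw [LinearEquiv.coe_coe, Module.Basis.equiv_apply, Algebra.TensorProduct.basis_apply, Module.Basis.mk_apply]
    simp [ρ]
  have : (ρ : L ⊗[F] A₀ → M) = e := congrArg DFunLike.coe heq
  rw [show (⇑ρ : L ⊗[F] A₀ → M) = ⇑e from this]
  exact e.bijective

/-- Base change of an algebra over `L` to a field extension descending to `F`. -/
theorem nonempty_tensor_equiv {F L M K₀ : Type u} [Field F] [Field L] [Field M] [Field K₀] [Algebra F L]
    [Algebra L M] [Algebra F K₀] (e : L ⊗[F] K₀ ≃ₐ[L] M) (A : Type u) [CommRing A] [Algebra L A]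
    [Algebra F A] [IsScalarTower F L A] : Nonempty (K₀ ⊗[F] A ≃+* M ⊗[L] A) :=
  ⟨(Algebra.TensorProduct.comm F K₀ A).toRingEquiv.trans
    ((Algebra.TensorProduct.cancelBaseChange F L L A K₀).symm.toRingEquiv.trans
      ((Algebra.TensorProduct.congr (AlgEquiv.refl (R := L) (A₁ := A)) e).toRingEquiv.trans
        (Algebra.TensorProduct.comm L A M).toRingEquiv))⟩

end Groth.Agent.CAlg48.GeomReg

namespace Groth.Agent.CAlg48.GeomReg

open TensorProduct

universe v

/-- `K ⊗_k k'` is reduced for `k'` separable algebraic. -/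
theorem isReduced_tensor_separable (k : Type v) [Field k] (k' : Type v) [Field k'] [Algebra k k']
    [Algebra.IsSeparable k k'] (K : Type v) [Field K] [Algebra k K] : IsReduced (K ⊗[k] k') := by
  refine IsReduced.tensorProduct_of_flat_of_forall_fg fun B hB => ?_
  have : Algebra.IsIntegral k k' := Algebra.IsAlgebraic.isIntegral
  have : Module.Finite k B := by
    obtain ⟨t, rfl⟩ := hB
    exact Algebra.finite_adjoin_of_finite_of_isIntegral t.finite_toSet fun x _ =>
      Algebra.IsIntegral.isIntegral x
  have : IsField B := B.isField_of_algebraic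
  let _ := this.toField
  have : Algebra.IsSeparable k B :=
    Algebra.IsSeparable.of_algHom k k' B.val
  have := Algebra.FormallyEtale.of_isSeparable k B
  exact Algebra.FormallyUnramified.isReduced_of_field K (K ⊗[k] B)

/-- For `F / k` finite separable, `K₀ ⊗_F A` is regular if `K₀ ⊗_k A` is. -/
theorem isRegularRing_tensor_of_separable (k F K₀ A : Type v) [Field k] [Field F] [Algebra k F]
    [Module.Finite k F] [Algebra.IsSeparable k F] [CommRing K₀] [Algebra F K₀] [Algebra k K₀]
    [IsScalarTower k F K₀] [CommRing A] [Algebra F A] [Algebra k A] [IsScalarTower k F A]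
    [IsRegularRing (K₀ ⊗[k] A)] : IsRegularRing (K₀ ⊗[F] A) := by
  have : Algebra.FormallyUnramified k F :=
    (Algebra.FormallyEtale.iff_formallyUnramified_and_formallySmooth.mp
      (Algebra.FormallyEtale.of_isSeparable k F)).1
  obtain ⟨t, ht, htμ⟩ := Algebra.FormallyUnramified.iff_exists_tensorProduct.mp this
  let π : K₀ ⊗[k] A →ₐ[k] K₀ ⊗[F] A :=
    Algebra.TensorProduct.lift ((Algebra.TensorProduct.includeLeft (R := F) (S := F) (A := K₀) (B := A)).restrictScalars k)
      ((Algebra.TensorProduct.includeRight (R := F) (A := K₀) (B := A)).restrictScalars k) fun _ _ => Commute.all _ _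
  have hπ : ∀ a b, π (a ⊗ₜ[k] b) = a ⊗ₜ[F] b := fun a b => by simp [π]
  let ρ : F ⊗[k] F →ₐ[k] K₀ ⊗[k] A :=
    Algebra.TensorProduct.map (IsScalarTower.toAlgHom k F K₀) (IsScalarTower.toAlgHom k F A)
  set e := ρ t with hedef
  have hce : ∀ c : F, ((1 : K₀) ⊗ₜ[k] algebraMap F A c - algebraMap F K₀ c ⊗ₜ[k] (1 : A)) * e = 0 := fun c => by
    have h1 := congrArg ρ (ht c)
    rw [map_mul, map_zero] at h1
    rw [← h1]
    simp [ρ, e]
  have hπe : π e = 1 := by
    have : ∀ x, π (ρ x) = algebraMap F (K₀ ⊗[F] A) (Algebra.TensorProduct.lmul' k x) := by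
      intro x
      induction x using TensorProduct.induction_on with
      | zero => simp
      | tmul a b =>
        show π (algebraMap F K₀ a ⊗ₜ[k] algebraMap F A b) = _
        rw [hπ, Algebra.TensorProduct.lmul'_apply_tmul, map_mul, Algebra.algebraMap_eq_smul_one b,
          ← TensorProduct.smul_tmul]
        simp [Algebra.TensorProduct.algebraMap_apply, Algebra.smul_def, mul_comm]
      | add a b ha hb => simp [ha, hb, TensorProduct.add_tmul]
    rw [this, htμ, map_one]
  -- a section up to `e`
  let sec : K₀ ⊗[F] A →+ K₀ ⊗[k] A := TensorProduct.liftAddHom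
    { toFun := fun a =>
        { toFun := fun b => (a ⊗ₜ[k] b) * e
          map_zero' := by simp
          map_add' := fun b b' => by simp [TensorProduct.tmul_add, add_mul] }
      map_zero' := by ext b; simp
      map_add' := fun a a' => by ext b; simp [TensorProduct.add_tmul, add_mul] }
    fun c a b => by
      show ((c • a) ⊗ₜ[k] b) * e = (a ⊗ₜ[k] (c • b)) * e
      have h1 : (c • a) ⊗ₜ[k] b - a ⊗ₜ[k] (c • b) =
          -((a ⊗ₜ[k] b) * ((1 : K₀) ⊗ₜ[k] algebraMap F A c - algebraMap F K₀ c ⊗ₜ[k] (1 : A))) := by
        simp [mul_sub, Algebra.smul_def, mul_comm]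
      rw [← sub_eq_zero, ← sub_mul, h1, neg_mul, mul_assoc, hce, mul_zero, neg_zero]
  have hsec : ∀ x, sec (π x) = x * e := by
    intro x
    induction x using TensorProduct.induction_on with
    | zero => simp
    | tmul a b => rw [hπ]; rfl
    | add a b ha hb => simp [ha, hb, add_mul]
  have he : IsIdempotentElem e := by
    show e * e = e
    rw [← hsec e, hπe, ← map_one π, hsec, one_mul]
  have hsurj : Function.Surjective π := fun y => by
    induction y using TensorProduct.induction_on with
    | zero => exact ⟨0, map_zero _⟩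
    | tmul a b => exact ⟨a ⊗ₜ b, hπ a b⟩
    | add a b ha hb =>
      obtain ⟨x, rfl⟩ := ha
      obtain ⟨y, rfl⟩ := hb
      exact ⟨x + y, map_add _ _ _⟩
  have hker : RingHom.ker π.toRingHom = Ideal.span {1 - e} := by
    refine le_antisymm (fun x hx => ?_) ?_
    · have h1 : x * e = 0 := by rw [← hsec, show π x = 0 from hx, map_zero]
      exact Ideal.mem_span_singleton'.mpr ⟨x, by rw [mul_sub, mul_one, h1, sub_zero]⟩
    · rw [Ideal.span_le, Set.singleton_subset_iff]
      show π (1 - e) = 0
      rw [map_sub, map_one, hπe, sub_self]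
  haveI := isRegularRing_quotient he
  exact IsRegularRing.of_ringEquiv
    ((Ideal.quotEquivOfEq hker.symm).trans (RingHom.quotientKerEquivOfSurjective (f := π.toRingHom) hsurj))

end Groth.Agent.CAlg48.GeomReg
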