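import Groth.Prelude.Def_GrLC
import Groth.Agent.RegLoc.Homological
import Mathlib.RingTheory.AdjoinRoot
import Mathlib.RingTheory.RegularLocalRing.Polynomial
import Mathlib.RingTheory.GradedAlgebra.Radical
import Mathlib.RingTheory.GradedAlgebra.Homogeneous.Ideal
import Mathlib.Algebra.Polynomial.Laurent

/-!
# Regularity of `R/(t - 1)` and `R[U]/(U^N - t)` for a graded regular ring with a unit `t`
-/

set_option autoImplicit false
set_option linter.unusedSectionVars false
universe u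

open Polynomial DirectSum

namespace Groth.Agent.CAlg48.GradedUnit

variable {R : Type u} [CommRing R] (𝒜 : ℤ → AddSubgroup R) [GradedRing 𝒜]
  {N : ℕ} {t : R}

/-- The integral powers of a unit. -/
noncomputable def tp (htu : IsUnit t) (q : ℤ) : R := ((htu.unit ^ q : Rˣ) : R)

theorem tp_add (htu : IsUnit t) (a b : ℤ) : tp htu (a + b) = tp htu a * tp htu b := by
  simp [tp, zpow_add]

theorem tp_zero (htu : IsUnit t) : tp htu 0 = 1 := by simp [tp]

theorem tp_one (htu : IsUnit t) : tp htu 1 = t := by simp [tp]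

theorem tp_neg_mul (htu : IsUnit t) (q : ℤ) : tp htu (-q) * tp htu q = 1 := by
  rw [← tp_add, neg_add_cancel, tp_zero]

theorem mk_tp (htu : IsUnit t) (q : ℤ) :
    Ideal.Quotient.mk (Ideal.span {t - 1}) (tp htu q) = 1 := by
  have h1 : Units.map (Ideal.Quotient.mk (Ideal.span {t - 1}) : R →* R ⧸ Ideal.span {t - 1})
      htu.unit = 1 := by
    ext
    exact Ideal.Quotient.eq.2 (Ideal.subset_span rfl)
  have h2 := congrArg Units.val (map_zpow (Units.map
    (Ideal.Quotient.mk (Ideal.span {t - 1}) : R →* R ⧸ Ideal.span {t - 1})) htu.unit q)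
  rw [h1, one_zpow] at h2
  exact h2

theorem proj_mem (n : ℤ) (x : R) : GradedRing.proj 𝒜 n x ∈ 𝒜 n := by
  rw [GradedRing.proj_apply]; exact SetLike.coe_mem _

theorem proj_mul_left {i : ℤ} {a : R} (ha : a ∈ 𝒜 i) (x : R) (n : ℤ) :
    GradedRing.proj 𝒜 n (a * x) = a * GradedRing.proj 𝒜 (n - i) x := by
  have h := DirectSum.coe_decompose_mul_add_of_left_mem 𝒜 (j := n - i) (b := x) ha
  rw [add_sub_cancel] at h
  simpa [GradedRing.proj_apply] using h

theorem tp_mem (ht : t ∈ 𝒜 (N : ℤ)) (htu : IsUnit t) (q : ℤ) : tp htu q ∈ 𝒜 (q * N) := by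
  have hinv : ((htu.unit⁻¹ : Rˣ) : R) ∈ 𝒜 (-(N : ℤ)) := by
    have h1 : t * GradedRing.proj 𝒜 (-(N : ℤ)) ((htu.unit⁻¹ : Rˣ) : R) = 1 := by
      rw [← zero_sub (N : ℤ), ← proj_mul_left 𝒜 ht]
      rw [htu.mul_val_inv, GradedRing.proj_apply,
        DirectSum.decompose_of_mem_same 𝒜 (SetLike.GradedOne.one_mem (A := 𝒜))]
    have h2 : GradedRing.proj 𝒜 (-(N : ℤ)) ((htu.unit⁻¹ : Rˣ) : R) = ((htu.unit⁻¹ : Rˣ) : R) := by
      refine htu.mul_left_cancel ?_
      rw [h1, htu.mul_val_inv]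
    exact h2 ▸ proj_mem 𝒜 _ _
  induction q using Int.induction_on with
  | zero => simpa [tp_zero] using (SetLike.GradedOne.one_mem (A := 𝒜))
  | succ k ih =>
    rw [tp_add, tp_one, add_mul, one_mul]
    exact SetLike.GradedMul.mul_mem ih ht
  | pred k ih =>
    have h3 : tp htu (-1) = ((htu.unit⁻¹ : Rˣ) : R) := by simp [tp]
    rw [show -(k : ℤ) - 1 = -(k : ℤ) + -1 by ring, tp_add, h3, add_mul, neg_one_mul]
    exact SetLike.GradedMul.mul_mem ih hinv

theorem exists_eq_mul_tp (ht : t ∈ 𝒜 (N : ℤ)) (htu : IsUnit t) {q : ℤ} {a : R}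
    (ha : a ∈ 𝒜 (q * N)) : ∃ c : GrLC.deg0 𝒜, a = (c : R) * tp htu q := by
  refine ⟨⟨a * tp htu (-q), ?_⟩, ?_⟩
  · show a * tp htu (-q) ∈ 𝒜 0
    have := SetLike.GradedMul.mul_mem ha (tp_mem 𝒜 ht htu (-q))
    rwa [neg_mul, add_neg_cancel] at this
  · show a = a * tp htu (-q) * tp htu q
    rw [mul_assoc, tp_neg_mul, mul_one]

variable [IsLocalRing (GrLC.deg0 𝒜)]

/-- The hypothesis `R_i R_j ⊆ m t` for positive `i, j` with `i + j = N`. -/
def SmallProd (N : ℕ) (t : R) : Prop :=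
  ∀ (i j : ℤ), 0 < i → 0 < j → i + j = (N : ℤ) → ∀ a ∈ 𝒜 i, ∀ b ∈ 𝒜 j,
    ∃ c : GrLC.deg0 𝒜, c ∈ IsLocalRing.maximalIdeal (GrLC.deg0 𝒜) ∧ a * b = (c : R) * t

theorem nontrivial_ring [IsLocalRing (GrLC.deg0 𝒜)] : Nontrivial R :=
  ⟨⟨0, 1, fun h => zero_ne_one (α := GrLC.deg0 𝒜) (Subtype.ext h)⟩⟩

theorem smallProd_gen (hN : 0 < N) (ht : t ∈ 𝒜 (N : ℤ)) (htu : IsUnit t)
    (hm : SmallProd 𝒜 N t) {i j q : ℤ} (hi : ¬ (N : ℤ) ∣ i) (hij : i + j = q * N) {a b : R}
    (ha : a ∈ 𝒜 i) (hb : b ∈ 𝒜 j) :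
    ∃ c : GrLC.deg0 𝒜, c ∈ IsLocalRing.maximalIdeal (GrLC.deg0 𝒜) ∧
      a * b = (c : R) * tp htu q := by
  have hN' : (N : ℤ) ≠ 0 := by omega
  have hr0 : 0 < i % (N : ℤ) := by
    rcases lt_or_eq_of_le (Int.emod_nonneg i hN') with h | h
    · exact h
    · exact absurd (Int.dvd_of_emod_eq_zero h.symm) hi
  have hrN : i % (N : ℤ) < N := Int.emod_lt_of_pos _ (by omega)
  set p := i / (N : ℤ) with hp
  have hip : i = i % (N : ℤ) + p * N := by
    rw [hp, mul_comm, Int.emod_add_mul_ediv]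
  have ha' : a * tp htu (-p) ∈ 𝒜 (i % (N : ℤ)) := by
    have := SetLike.GradedMul.mul_mem ha (tp_mem 𝒜 ht htu (-p))
    convert this using 2
    linarith
  have hb' : b * tp htu (p + 1 - q) ∈ 𝒜 ((N : ℤ) - i % (N : ℤ)) := by
    have := SetLike.GradedMul.mul_mem hb (tp_mem 𝒜 ht htu (p + 1 - q))
    convert this using 2
    linarith
  obtain ⟨c, hc, h⟩ := hm _ _ hr0 (by omega) (by ring) _ ha' _ hb'
  refine ⟨c, hc, ?_⟩
  calc a * b = (a * tp htu (-p) * (b * tp htu (p + 1 - q))) * tp htu (q - 1) := by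
        rw [show a * tp htu (-p) * (b * tp htu (p + 1 - q)) * tp htu (q - 1)
            = a * b * (tp htu (-p) * tp htu (p + 1 - q) * tp htu (q - 1)) by ring,
          ← tp_add, ← tp_add, show -p + (p + 1 - q) + (q - 1) = 0 by ring, tp_zero, mul_one]
    _ = (c : R) * (tp htu 1 * tp htu (q - 1)) := by rw [h, tp_one, mul_assoc]
    _ = (c : R) * tp htu q := by rw [← tp_add, add_sub_cancel]

/-- `t - 1` is not a unit. -/
theorem span_ne_top (hN : 0 < N) (ht : t ∈ 𝒜 (N : ℤ)) (htu : IsUnit t) :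
    Ideal.span {t - 1} ≠ (⊤ : Ideal R) := by
  classical
  haveI := nontrivial_ring 𝒜
  intro h
  obtain ⟨s, hs⟩ := Ideal.mem_span_singleton'.1 (h.symm ▸ Submodule.mem_top : (1 : R) ∈ _)
  set P := fun n : ℤ => GradedRing.proj 𝒜 n s with hP
  have hrec : ∀ n : ℤ, t * P (n - N) - P n = GradedRing.proj 𝒜 n 1 := by
    intro n
    rw [hP]
    dsimp only
    rw [← proj_mul_left 𝒜 ht, ← map_sub, ← hs]
    congr 1
    ring
  have hone : ∀ n : ℤ, n ≠ 0 → GradedRing.proj 𝒜 n (1 : R) = 0 := fun n hn => by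
    rw [GradedRing.proj_apply,
      DirectSum.decompose_of_mem_ne 𝒜 (SetLike.GradedOne.one_mem (A := 𝒜)) (Ne.symm hn)]
  have hup : ∀ k : ℕ, P (k * N) = t ^ k * P 0 := by
    intro k
    induction k with
    | zero => simp
    | succ k ih =>
      have := hrec ((k + 1 : ℕ) * (N : ℤ))
      rw [hone _ (by positivity), sub_eq_zero] at this
      rw [← this, pow_succ', mul_assoc, ← ih]
      congr 2
      push_cast
      ring
  have hdown : ∀ k : ℕ, t ^ k * P (-((k + 1 : ℕ) * (N : ℤ))) = P (-(N : ℤ)) := by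
    intro k
    induction k with
    | zero => simp
    | succ k ih =>
      have := hrec (-((k + 1 : ℕ) * (N : ℤ)))
      rw [hone _ (neg_ne_zero.2 (by positivity)), sub_eq_zero] at this
      rw [← ih, ← this, pow_succ, mul_assoc]
      congr 3
      push_cast
      ring
  set B := (DirectSum.decompose 𝒜 s).support.sup Int.natAbs with hB
  have hbig : ∀ n : ℤ, B < n.natAbs → P n = 0 := by
    intro n hn
    rw [hP]
    dsimp only
    rw [GradedRing.proj_apply]
    by_contra hne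
    have hmem : n ∈ (DirectSum.decompose 𝒜 s).support := by
      rw [DFinsupp.mem_support_toFun]
      intro h0
      exact hne (by rw [h0]; rfl)
    have := Finset.le_sup (f := Int.natAbs) hmem
    omega
  have hlt : B < (B + 1) * N := by nlinarith
  have h0 : P 0 = 0 := by
    have := hup (B + 1)
    rw [hbig _ (by rw [Int.natAbs_mul, Int.natAbs_natCast, Int.natAbs_natCast]; exact hlt)] at this
    exact (htu.pow (B + 1)).mul_right_eq_zero.1 this.symm
  have hneg : P (-(N : ℤ)) = 0 := by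
    have := hdown (B + 1)
    rw [hbig _ (by rw [Int.natAbs_neg, Int.natAbs_mul, Int.natAbs_natCast, Int.natAbs_natCast]
                   nlinarith), mul_zero] at this
    exact this.symm
  have := hrec 0
  rw [zero_sub, hneg, h0, mul_zero, sub_zero, GradedRing.proj_apply,
    DirectSum.decompose_of_mem_same 𝒜 (SetLike.GradedOne.one_mem (A := 𝒜))] at this
  exact one_ne_zero this.symm

theorem isIntegral_quot (hN : 0 < N) (ht : t ∈ 𝒜 (N : ℤ)) (htu : IsUnit t) :
    Algebra.IsIntegral (GrLC.deg0 𝒜) (R ⧸ Ideal.span {t - 1}) := by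
  refine ⟨fun x => ?_⟩
  obtain ⟨x, rfl⟩ := Ideal.Quotient.mk_surjective x
  induction x using DirectSum.Decomposition.inductionOn 𝒜 with
  | zero => rw [map_zero]; exact isIntegral_zero
  | add a b ha hb => rw [map_add]; exact ha.add hb
  | homogeneous a =>
    rename_i i
    refine IsIntegral.of_pow hN ?_
    have h1 : ((a : R)) ^ N ∈ 𝒜 (i * (N : ℤ)) := by
      have := SetLike.pow_mem_graded N a.2
      rwa [nsmul_eq_mul, mul_comm] at this
    obtain ⟨c, hc⟩ := exists_eq_mul_tp 𝒜 ht htu h1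
    rw [← map_pow, hc, map_mul, mk_tp, mul_one]
    exact isIntegral_algebraMap

theorem maximal_facts (hN : 0 < N) (ht : t ∈ 𝒜 (N : ℤ)) (htu : IsUnit t) (hm : SmallProd 𝒜 N t)
    (Q : Ideal R) [Q.IsMaximal] (hQ : t - 1 ∈ Q) :
    (∀ c : GrLC.deg0 𝒜, (c : R) ∈ Q ↔ c ∈ IsLocalRing.maximalIdeal (GrLC.deg0 𝒜)) ∧
    (∀ (i : ℤ), ¬ (N : ℤ) ∣ i → ∀ a ∈ 𝒜 i, a ∈ Q) := by
  haveI := isIntegral_quot 𝒜 hN ht htu
  set mk := Ideal.Quotient.mk (Ideal.span {t - 1}) with hmk
  have hle : Ideal.span {t - 1} ≤ Q := (Ideal.span_singleton_le_iff_mem _).2 hQ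
  have hQc : (Q.map mk).IsMaximal :=
    Ideal.IsMaximal.map_of_surjective_of_ker_le Ideal.Quotient.mk_surjective
      (by rwa [Ideal.mk_ker])
  have hback : ∀ x : R, mk x ∈ Q.map mk ↔ x ∈ Q := by
    intro x
    rw [← Ideal.mem_comap, Ideal.comap_map_of_surjective _ Ideal.Quotient.mk_surjective,
      ← RingHom.ker_eq_comap_bot, Ideal.mk_ker, sup_of_le_left hle]
  have hc : ∀ c : GrLC.deg0 𝒜, (c : R) ∈ Q ↔ c ∈ IsLocalRing.maximalIdeal (GrLC.deg0 𝒜) := by
    intro c
    have h1 := Ideal.isMaximal_comap_of_isIntegral_of_isMaximal (R := GrLC.deg0 𝒜) (Q.map mk)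
    rw [← IsLocalRing.eq_maximalIdeal h1, Ideal.mem_comap]
    exact (hback c).symm
  refine ⟨hc, fun i hi a ha => ?_⟩
  have hb : a ^ (N - 1) ∈ 𝒜 (((N - 1 : ℕ) : ℤ) * i) := by
    have := SetLike.pow_mem_graded (N - 1) ha
    rwa [nsmul_eq_mul] at this
  obtain ⟨c, hcm, h⟩ := smallProd_gen 𝒜 hN ht htu hm (q := i) hi
    (by rw [Nat.cast_sub hN]; push_cast; ring) ha hb
  rw [← pow_succ', Nat.sub_add_cancel hN] at h
  refine Ideal.IsPrime.mem_of_pow_mem inferInstance N ?_
  rw [h]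
  exact Q.mul_mem_right _ ((hc c).2 hcm)

/-- The unique maximal ideal containing `t - 1`, and its homogeneous core. -/
theorem exists_core (hN : 0 < N) (ht : t ∈ 𝒜 (N : ℤ)) (htu : IsUnit t) (hm : SmallProd 𝒜 N t) :
    ∃ P Q : Ideal R, P.IsPrime ∧ P.IsHomogeneous 𝒜 ∧ Q.IsMaximal ∧ t - 1 ∈ Q ∧
      P < Q ∧ Q = P ⊔ Ideal.span {t - 1} ∧
      (∀ Q' : Ideal R, Q'.IsMaximal → t - 1 ∈ Q' → Q' = Q) ∧
      (∀ (i : ℤ) (a : R), a ∈ 𝒜 i → a ∉ P → IsUnit a) := by
  obtain ⟨Q, hQmax, hQle⟩ := Ideal.exists_le_maximal _ (span_ne_top 𝒜 hN ht htu)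
  have hQ : t - 1 ∈ Q := hQle (Ideal.subset_span rfl)
  have hcase : ∀ (i : ℤ) (a : R), a ∈ 𝒜 i → (N : ℤ) ∣ i →
      ∃ (q : ℤ) (c : GrLC.deg0 𝒜), a = (c : R) * tp htu q := by
    intro i a ha hi
    obtain ⟨q, rfl⟩ := hi
    rw [mul_comm] at ha
    exact ⟨q, exists_eq_mul_tp 𝒜 ht htu ha⟩
  have hiff : ∀ (Q' : Ideal R) [Q'.IsMaximal], t - 1 ∈ Q' → ∀ (q : ℤ) (c : GrLC.deg0 𝒜),
      (c : R) * tp htu q ∈ Q' ↔ c ∈ IsLocalRing.maximalIdeal (GrLC.deg0 𝒜) := by
    intro Q' _ hQ' q c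
    rw [Ideal.mul_unit_mem_iff_mem Q' (by exact Units.isUnit _)]
    exact (maximal_facts 𝒜 hN ht htu hm Q' hQ').1 c
  set P := (Q.homogeneousCore 𝒜).toIdeal with hP
  have hPQ : P ≤ Q := Ideal.toIdeal_homogeneousCore_le 𝒜 Q
  have hhom : ∀ (i : ℤ) (a : R), a ∈ 𝒜 i → a ∈ Q → a ∈ P := fun i a ha haQ =>
    Ideal.mem_homogeneousCore_of_homogeneous_of_mem ⟨i, ha⟩ haQ
  have hPle : ∀ Q' : Ideal R, Q'.IsMaximal → t - 1 ∈ Q' → P ≤ Q' := by
    intro Q' hmax hQ'
    haveI := hmax
    refine Ideal.span_le.2 ?_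
    rintro _ ⟨⟨a, i, ha⟩, haQ, rfl⟩
    by_cases hi : (N : ℤ) ∣ i
    · obtain ⟨q, c, rfl⟩ := hcase i a ha hi
      exact (hiff Q' hQ' q c).2 ((hiff Q hQ q c).1 haQ)
    · exact (maximal_facts 𝒜 hN ht htu hm Q' hQ').2 i hi a ha
  have hconst : ∀ x : R, ∃ c : GrLC.deg0 𝒜, x - (c : R) ∈ P ⊔ Ideal.span {t - 1} := by
    intro x
    induction x using DirectSum.Decomposition.inductionOn 𝒜 with
    | zero => exact ⟨0, by simp⟩
    | add a b ha hb =>
      obtain ⟨c, hc⟩ := ha
      obtain ⟨d, hd⟩ := hb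
      refine ⟨c + d, ?_⟩
      rw [Subring.coe_add, show a + b - ((c : R) + (d : R)) = (a - c) + (b - d) by ring]
      exact add_mem hc hd
    | homogeneous a =>
      rename_i i
      by_cases hi : (N : ℤ) ∣ i
      · obtain ⟨q, c, hc⟩ := hcase i a a.2 hi
        refine ⟨c, le_sup_right (α := Ideal R) ?_⟩
        rw [← Ideal.Quotient.eq, hc, map_mul, mk_tp, mul_one]
      · refine ⟨0, le_sup_left (α := Ideal R) ?_⟩
        rw [ZeroMemClass.coe_zero, sub_zero]
        exact hhom i a a.2 ((maximal_facts 𝒜 hN ht htu hm Q hQ).2 i hi a a.2)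
  have hsup : Q = P ⊔ Ideal.span {t - 1} := by
    refine le_antisymm (fun x hx => ?_) (sup_le hPQ hQle)
    obtain ⟨c, hc⟩ := hconst x
    have hcQ : (c : R) ∈ Q := by
      have : x - (c : R) ∈ Q := (sup_le hPQ hQle) hc
      simpa using Q.sub_mem hx this
    have hcP : (c : R) ∈ P := hhom 0 _ c.2 hcQ
    simpa using add_mem hc (le_sup_left (α := Ideal R) (b := Ideal.span {t - 1}) hcP)
  refine ⟨P, Q, Ideal.IsPrime.homogeneousCore hQmax.isPrime,
    (Q.homogeneousCore 𝒜).isHomogeneous, hQmax, hQ, lt_of_le_of_ne hPQ ?_, hsup, ?_, ?_⟩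
  · intro h
    have h1 : t - 1 ∈ P := h ▸ hQ
    have := (Q.homogeneousCore 𝒜).isHomogeneous 0 h1
    rw [← GradedRing.proj_apply, map_sub, GradedRing.proj_apply, GradedRing.proj_apply,
      DirectSum.decompose_of_mem_ne 𝒜 ht (by omega),
      DirectSum.decompose_of_mem_same 𝒜 (SetLike.GradedOne.one_mem (A := 𝒜)), zero_sub,
      neg_mem_iff] at this
    exact hQmax.ne_top (Q.eq_top_iff_one.2 (hPQ this))
  · intro Q' hmax hQ'
    refine (hQmax.eq_of_le hmax.ne_top ?_).symm
    rw [hsup]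
    exact sup_le (hPle Q' hmax hQ') ((Ideal.span_singleton_le_iff_mem _).2 hQ')
  · intro i a ha haP
    by_cases hi : (N : ℤ) ∣ i
    · obtain ⟨q, c, rfl⟩ := hcase i a ha hi
      refine IsUnit.mul ?_ (Units.isUnit _)
      have hnot : c ∉ IsLocalRing.maximalIdeal (GrLC.deg0 𝒜) := fun h =>
        haP (hhom i _ ha ((hiff Q hQ q c).2 h))
      exact (IsLocalRing.notMem_maximalIdeal.1 hnot).map (GrLC.deg0 𝒜).subtype
    · exact absurd (hhom i a ha ((maximal_facts 𝒜 hN ht htu hm Q hQ).2 i hi a ha)) haP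

/-- A homogeneous prime `P` outside which homogeneous elements are units, with `R_P` regular, is
generated by `height P` elements. -/
theorem exists_generators [IsNoetherianRing R] (P : Ideal R) [P.IsPrime]
    (hP : P.IsHomogeneous 𝒜) (hunit : ∀ (i : ℤ) (a : R), a ∈ 𝒜 i → a ∉ P → IsUnit a)
    [IsRegularLocalRing (Localization.AtPrime P)] :
    ∃ G : Finset R, Ideal.span (G : Set R) = P ∧ (G.card : ℕ∞) ≤ P.height := by
  classical
  set L := Localization.AtPrime P
  set S : Set R := {a : R | (∃ i, a ∈ 𝒜 i) ∧ a ∈ P} with hS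
  have hPS : P = Ideal.span S := by
    refine le_antisymm (fun x hx => ?_) (Ideal.span_le.2 fun a ha => ha.2)
    rw [← DirectSum.sum_support_decompose 𝒜 x]
    refine Ideal.sum_mem _ fun i _ => Ideal.subset_span ⟨⟨i, SetLike.coe_mem _⟩, hP i hx⟩
  have hmax : ∀ a : R, a ∈ P → algebraMap R L a ∈ IsLocalRing.maximalIdeal L := fun a ha =>
    (IsLocalization.AtPrime.to_map_mem_maximal_iff L P a).2 ha
  let f : S → IsLocalRing.maximalIdeal L := fun a => ⟨algebraMap R L a.1, hmax _ a.2.2⟩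
  have hspan : Submodule.span L (Set.range f) = ⊤ := by
    apply Submodule.map_injective_of_injective
      (f := (IsLocalRing.maximalIdeal L).subtype) Subtype.val_injective
    rw [Submodule.map_span, Submodule.map_top, Submodule.range_subtype]
    conv_rhs => rw [← Localization.AtPrime.map_eq_maximalIdeal]
    trans Ideal.map (algebraMap R L) (Ideal.span S)
    swap; · rw [← hPS]
    rw [Ideal.map_span]
    congr 1
    ext y
    constructor
    · rintro ⟨_, ⟨a, rfl⟩, rfl⟩; exact ⟨a.1, a.2, rfl⟩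
    · rintro ⟨a, ha, rfl⟩; exact ⟨_, ⟨⟨a, ha⟩, rfl⟩, rfl⟩
  have hcot := IsLocalRing.CotangentSpace.span_image_eq_top_iff.2 hspan
  obtain ⟨b, hb, hbspan, hbli⟩ := exists_linearIndependent (IsLocalRing.ResidueField L)
    ((IsLocalRing.maximalIdeal L).toCotangent '' Set.range f)
  rw [hcot] at hbspan
  have hbfin : b.Finite := Set.finite_coe_iff.1 hbli.finite
  have hbcard : hbfin.toFinset.card =
      Module.finrank (IsLocalRing.ResidueField L) (IsLocalRing.CotangentSpace L) := by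
    haveI := hbfin.fintype
    rw [hbfin.card_toFinset, Module.finrank_eq_card_basis
      (Module.Basis.mk hbli (by rw [Subtype.range_coe, hbspan]))]
  have hpick : ∀ v : IsLocalRing.CotangentSpace L, v ∈ b →
      ∃ a : S, (IsLocalRing.maximalIdeal L).toCotangent (f a) = v := by
    intro v hv
    obtain ⟨_, ⟨a, rfl⟩, h⟩ := hb hv
    exact ⟨a, h⟩
  choose g hg using hpick
  set G : Finset R := hbfin.toFinset.attach.image
    (fun v => (g v.1 (hbfin.mem_toFinset.1 v.2)).1) with hG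
  have hGP : ∀ a ∈ G, (∃ i, a ∈ 𝒜 i) ∧ a ∈ P := by
    intro a ha
    obtain ⟨v, -, rfl⟩ := Finset.mem_image.1 ha
    exact (g v.1 _).2
  have hGhom : (Ideal.span (G : Set R)).IsHomogeneous 𝒜 :=
    Ideal.homogeneous_span 𝒜 _ fun a ha => (hGP a ha).1
  refine ⟨G, le_antisymm (Ideal.span_le.2 fun a ha => (hGP a ha).2) ?_, ?_⟩
  · -- generation in the local ring
    let F : Set (IsLocalRing.maximalIdeal L) := {y | ∃ a ∈ G, (y : L) = algebraMap R L a}
    have hF : Submodule.span L F = ⊤ := by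
      rw [← IsLocalRing.CotangentSpace.span_image_eq_top_iff, eq_top_iff, ← hbspan]
      refine Submodule.span_mono fun v hv => ⟨f (g v hv), ⟨_, ?_, rfl⟩, hg v hv⟩
      exact Finset.mem_image.2 ⟨⟨v, hbfin.mem_toFinset.2 hv⟩, Finset.mem_attach _ _, rfl⟩
    have hmap : IsLocalRing.maximalIdeal L ≤ (Ideal.span (G : Set R)).map (algebraMap R L) := by
      intro y hy
      have : (⟨y, hy⟩ : IsLocalRing.maximalIdeal L) ∈ Submodule.span L F := hF ▸ Submodule.mem_top
      have h2 := Submodule.apply_mem_span_image_of_mem_span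
        (IsLocalRing.maximalIdeal L).subtype this
      rw [Ideal.map_span]
      refine Submodule.span_mono ?_ h2
      rintro _ ⟨z, ⟨a, ha, hz⟩, rfl⟩
      exact ⟨a, ha, hz.symm⟩
    rw [hPS, Ideal.span_le]
    rintro a ⟨⟨i, hai⟩, haP⟩
    obtain ⟨⟨⟨z, hz⟩, ⟨s, hs⟩⟩, hzs⟩ :=
      (IsLocalization.mem_map_algebraMap_iff P.primeCompl L).1 (hmap (hmax a haP))
    rw [← map_mul, IsLocalization.eq_iff_exists P.primeCompl] at hzs
    obtain ⟨⟨s', hs'⟩, h'⟩ := hzs
    have hmem : a * (s * s') ∈ Ideal.span (G : Set R) := by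
      have : a * (s * s') = s' * (a * s) := by ring
      rw [this, show s' * (a * s) = s' * z from h']
      exact Ideal.mul_mem_left _ _ hz
    have hss : s * s' ∉ P := P.primeCompl.mul_mem hs hs'
    obtain ⟨n, hn⟩ : ∃ n, GradedRing.proj 𝒜 n (s * s') ∉ P := by
      by_contra h
      push Not at h
      refine hss ?_
      rw [← DirectSum.sum_support_decompose 𝒜 (s * s')]
      exact Ideal.sum_mem _ fun n _ => by simpa [GradedRing.proj_apply] using h n
    have hproj : GradedRing.proj 𝒜 (i + n) (a * (s * s')) ∈ Ideal.span (G : Set R) := by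
      rw [GradedRing.proj_apply]; exact hGhom (i + n) hmem
    rw [proj_mul_left 𝒜 hai, add_sub_cancel_left] at hproj
    exact (Ideal.mul_unit_mem_iff_mem _ (hunit n _ (proj_mem 𝒜 n _) hn)).1 hproj
  · have h1 : G.card ≤ Module.finrank (IsLocalRing.ResidueField L)
        (IsLocalRing.CotangentSpace L) := by
      rw [← hbcard]
      exact Finset.card_image_le.trans (le_of_eq (Finset.card_attach))
    have h2 := (IsRegularLocalRing.iff_finrank_cotangentSpace L).1 inferInstance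
    rw [IsLocalization.AtPrime.ringKrullDim_eq_height P L] at h2
    have h3 : (Module.finrank (IsLocalRing.ResidueField L) (IsLocalRing.CotangentSpace L) : ℕ∞)
        = P.height := by exact_mod_cast h2
    rw [← h3]
    exact_mod_cast h1

/-- The core result: `R/(t - 1)` is a regular local ring. -/
theorem isRegularLocalRing_quot [IsNoetherianRing R]
    (hreg : ∀ (p : Ideal R) [p.IsPrime], IsRegularLocalRing (Localization.AtPrime p))
    (hN : 0 < N) (ht : t ∈ 𝒜 (N : ℤ)) (htu : IsUnit t) (hm : SmallProd 𝒜 N t) :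
    IsRegularLocalRing (R ⧸ Ideal.span {t - 1}) := by
  obtain ⟨P, Q, hPp, hPh, hQm, hQ, hlt, hsup, huniq, hunit⟩ := exists_core 𝒜 hN ht htu hm
  haveI := hPp
  haveI := hQm
  haveI := hreg P
  obtain ⟨G, hGP, hGcard⟩ := exists_generators 𝒜 P hPh hunit
  set mk := Ideal.Quotient.mk (Ideal.span {t - 1}) with hmk
  have hQle : Ideal.span {t - 1} ≤ Q := (Ideal.span_singleton_le_iff_mem _).2 hQ
  have hMmax : (Q.map mk).IsMaximal :=
    Ideal.IsMaximal.map_of_surjective_of_ker_le Ideal.Quotient.mk_surjective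
      (by rwa [Ideal.mk_ker])
  have huniq' : ∀ M : Ideal (R ⧸ Ideal.span {t - 1}), M.IsMaximal → M = Q.map mk := by
    intro M hM
    haveI := hM
    have h1 : (M.comap mk).IsMaximal :=
      Ideal.comap_isMaximal_of_surjective mk Ideal.Quotient.mk_surjective
    have h2 : t - 1 ∈ M.comap mk := by
      rw [Ideal.mem_comap, Ideal.Quotient.eq_zero_iff_mem.2 (Ideal.mem_span_singleton_self (t - 1))]
      exact M.zero_mem
    rw [← huniq _ h1 h2, Ideal.map_comap_of_surjective _ Ideal.Quotient.mk_surjective]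
  haveI hloc : IsLocalRing (R ⧸ Ideal.span {t - 1}) :=
    IsLocalRing.of_unique_max_ideal ⟨_, hMmax, huniq'⟩
  have hM : IsLocalRing.maximalIdeal (R ⧸ Ideal.span {t - 1}) = Ideal.span (mk '' (G : Set R)) := by
    rw [huniq' _ (IsLocalRing.maximalIdeal.isMaximal _), hsup, Ideal.map_sup,
      Ideal.map_quotient_self, sup_bot_eq, ← hGP, Ideal.map_span]
  refine IsRegularLocalRing.of_spanFinrank_maximalIdeal_le _ ?_
  have h1 : (IsLocalRing.maximalIdeal (R ⧸ Ideal.span {t - 1})).spanFinrank ≤ G.card := by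
    rw [hM]
    refine le_trans (Submodule.spanFinrank_span_le_ncard_of_finite (G.finite_toSet.image _)) ?_
    exact (Set.ncard_image_le G.finite_toSet).trans (le_of_eq (Set.ncard_coe_finset G))
  have h2 : P.height + 1 ≤ Q.height := Ideal.height_add_one_le_of_lt_of_isPrime hlt
  have h3 := Ideal.height_le_ringKrullDim_quotient_add_one hQ
  obtain ⟨d, hd⟩ := RegLoc.exists_natCast_eq_ringKrullDim (R ⧸ Ideal.span {t - 1})
  rw [hd.1] at h3 ⊢
  have h4 : Q.height ≤ ((d + 1 : ℕ) : ℕ∞) := by exact_mod_cast h3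
  have h5 : ((G.card + 1 : ℕ) : ℕ∞) ≤ ((d + 1 : ℕ) : ℕ∞) := by
    push_cast at h4 ⊢
    exact le_trans (le_trans (add_le_add hGcard le_rfl) h2) h4
  have h6 : (IsLocalRing.maximalIdeal (R ⧸ Ideal.span {t - 1})).spanFinrank ≤ d := by
    have h7 : G.card + 1 ≤ d + 1 := by exact_mod_cast h5
    omega
  exact_mod_cast h6

/-- A localization of a regular ring is regular. -/
theorem isRegularRing_of_isLocalization {A B : Type u} [CommRing A] [CommRing B] [Algebra A B]
    (M : Submonoid A) [IsLocalization M B] [IsRegularRing A] : IsRegularRing B := by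
  haveI : IsNoetherianRing B := IsLocalization.isNoetherianRing M B inferInstance
  refine isRegularRing_iff.2 fun p hp => ?_
  haveI := IsLocalization.isLocalization_isLocalization_atPrime_isLocalization (M := M)
    (Localization.AtPrime p) p
  exact IsRegularLocalRing.of_ringEquiv (IsLocalization.algEquiv (p.comap (algebraMap A B)).primeCompl
    (Localization.AtPrime (p.comap (algebraMap A B))) (Localization.AtPrime p)).toRingEquiv

/-- `R[U]/(U^N - t)` is the Laurent polynomial ring over `R/(t - 1)`. -/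
theorem nonempty_adjoinRoot_equiv (hN : 0 < N) (ht : t ∈ 𝒜 (N : ℤ)) (htu : IsUnit t) :
    Nonempty (LaurentPolynomial (R ⧸ Ideal.span {t - 1}) ≃+*
      AdjoinRoot (X ^ N - Polynomial.C t)) := by
  classical
  set Cq := R ⧸ Ideal.span {t - 1}
  set mk := Ideal.Quotient.mk (Ideal.span {t - 1}) with hmk
  set g : R[X] := X ^ N - Polynomial.C t with hg
  have hroot : AdjoinRoot.root g ^ N = AdjoinRoot.of g t := by
    have h := AdjoinRoot.eval₂_root g
    simpa [hg, sub_eq_zero] using h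
  have hU : IsUnit (AdjoinRoot.root g) :=
    (isUnit_pow_iff hN.ne').1 (hroot ▸ htu.map (AdjoinRoot.of g))
  set U := hU.unit with hUdef
  let φ' : (⨁ i, 𝒜 i) →+* LaurentPolynomial Cq :=
    DirectSum.toSemiring
      (fun i => AddMonoidHom.mk' (fun a => LaurentPolynomial.C (mk a) * LaurentPolynomial.T i)
        (fun a b => by simp [add_mul]))
      (by simp [SetLike.coe_gOne])
      (by
        intro i j a b
        simp only [AddMonoidHom.mk'_apply, SetLike.coe_gMul, map_mul, LaurentPolynomial.T_add]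
        ring)
  let φ : R →+* LaurentPolynomial Cq := φ'.comp (DirectSum.decomposeRingEquiv 𝒜).toRingHom
  have hφ : ∀ (i : ℤ) (a : R), a ∈ 𝒜 i →
      φ a = LaurentPolynomial.C (mk a) * LaurentPolynomial.T i := by
    intro i a ha
    show φ' (DirectSum.decompose 𝒜 a) = _
    rw [DirectSum.decompose_of_mem 𝒜 ha, DirectSum.toSemiring_of]
    rfl
  let χ' : (⨁ i, 𝒜 i) →+* AdjoinRoot g :=
    DirectSum.toSemiring
      (fun i => AddMonoidHom.mk' (fun a => AdjoinRoot.of g a * ((U ^ (-i) : (AdjoinRoot g)ˣ) :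
          AdjoinRoot g)) (fun a b => by simp [add_mul]))
      (by simp [SetLike.coe_gOne])
      (by
        intro i j a b
        simp only [AddMonoidHom.mk'_apply, SetLike.coe_gMul, map_mul, neg_add, zpow_add,
          Units.val_mul]
        ring)
  let χ : R →+* AdjoinRoot g := χ'.comp (DirectSum.decomposeRingEquiv 𝒜).toRingHom
  have hχ : ∀ (i : ℤ) (a : R), a ∈ 𝒜 i →
      χ a = AdjoinRoot.of g a * ((U ^ (-i) : (AdjoinRoot g)ˣ) : AdjoinRoot g) := by
    intro i a ha
    show χ' (DirectSum.decompose 𝒜 a) = _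
    rw [DirectSum.decompose_of_mem 𝒜 ha, DirectSum.toSemiring_of]
    rfl
  have hUN : ((U ^ (N : ℤ) : (AdjoinRoot g)ˣ) : AdjoinRoot g) = AdjoinRoot.of g t := by
    rw [zpow_natCast, Units.val_pow_eq_pow_val, hUdef, IsUnit.unit_spec, hroot]
  have hχt : χ (t - 1) = 0 := by
    rw [map_sub, map_one, hχ _ _ ht, ← hUN, ← Units.val_mul, zpow_neg, mul_inv_cancel,
      Units.val_one, sub_self]
  let ψ : Cq →+* AdjoinRoot g := Ideal.Quotient.lift _ χ (by
    intro a ha
    obtain ⟨s, rfl⟩ := Ideal.mem_span_singleton'.1 ha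
    rw [map_mul, hχt, mul_zero])
  let back : LaurentPolynomial Cq →+* AdjoinRoot g := LaurentPolynomial.eval₂ ψ U
  let fwd : AdjoinRoot g →+* LaurentPolynomial Cq :=
    AdjoinRoot.lift φ (LaurentPolynomial.T 1) (by
      have h1 : mk t = 1 := by simpa [tp_one] using mk_tp htu 1
      simp [hg, hφ _ _ ht, h1])
  have hbT : ∀ i : ℤ, back (LaurentPolynomial.T i) =
      ((U ^ i : (AdjoinRoot g)ˣ) : AdjoinRoot g) := fun i => LaurentPolynomial.eval₂_T _ _ i
  have hfU : ∀ i : ℤ, fwd ((U ^ i : (AdjoinRoot g)ˣ) : AdjoinRoot g) = LaurentPolynomial.T i := by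
    intro i
    have h1 : Units.map (fwd : AdjoinRoot g →* LaurentPolynomial Cq) U =
        (LaurentPolynomial.isUnit_T (R := Cq) 1).unit := by
      ext
      simp [fwd, hUdef]
    have h2 := congrArg Units.val (map_zpow (Units.map
      (fwd : AdjoinRoot g →* LaurentPolynomial Cq)) U i)
    rw [h1] at h2
    refine h2.trans ?_
    clear h2
    induction i using Int.induction_on with
    | zero => simp
    | succ k ih => rw [zpow_add, Units.val_mul, ih, zpow_one, IsUnit.unit_spec,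
        ← LaurentPolynomial.T_add]
    | pred k ih =>
      refine (LaurentPolynomial.isUnit_T (R := Cq) 1).mul_left_inj.1 ?_
      rw [← LaurentPolynomial.T_add, sub_add_cancel, ← ih]
      conv_lhs => arg 2; rw [← IsUnit.unit_spec (LaurentPolynomial.isUnit_T (R := Cq) 1)]
      rw [← Units.val_mul, ← zpow_add_one, sub_add_cancel]
  refine ⟨RingEquiv.ofRingHom back fwd ?_ ?_⟩
  · refine AdjoinRoot.ringHom_ext ?_ ?_
    · refine RingHom.ext fun a => ?_
      simp only [RingHom.comp_apply, RingHom.id_apply]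
      induction a using DirectSum.Decomposition.inductionOn 𝒜 with
      | zero => simp
      | add a b ha hb => simp [map_add, ha, hb]
      | homogeneous a =>
        rename_i i
        show back (AdjoinRoot.lift φ _ _ (AdjoinRoot.of g (a : R))) = _
        rw [AdjoinRoot.lift_of, hφ i a a.2, map_mul, hbT, LaurentPolynomial.eval₂_C,
          Ideal.Quotient.lift_mk, hχ i a a.2, mul_assoc, ← Units.val_mul, ← zpow_add,
          neg_add_cancel, zpow_zero, Units.val_one, mul_one]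
    · show back (AdjoinRoot.lift φ _ _ (AdjoinRoot.root g)) = _
      rw [AdjoinRoot.lift_root, hbT, zpow_one, hUdef, IsUnit.unit_spec]
      rfl
  · refine IsLocalization.ringHom_ext (Submonoid.powers (X : Cq[X])) ?_
    refine Polynomial.ringHom_ext (fun c => ?_) ?_
    · obtain ⟨a, rfl⟩ := Ideal.Quotient.mk_surjective c
      show fwd (back (Polynomial.toLaurent (Polynomial.C (Ideal.Quotient.mk _ a)))) =
        Polynomial.toLaurent (Polynomial.C (Ideal.Quotient.mk _ a))
      rw [Polynomial.toLaurent_C]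
      induction a using DirectSum.Decomposition.inductionOn 𝒜 with
      | zero => simp
      | add a b ha hb => simp only [map_add, ha, hb]
      | homogeneous a =>
        rename_i i
        rw [LaurentPolynomial.eval₂_C, Ideal.Quotient.lift_mk, hχ i a a.2, map_mul, hfU]
        show AdjoinRoot.lift φ _ _ (AdjoinRoot.of g (a : R)) * _ = _
        rw [AdjoinRoot.lift_of, hφ i a a.2, mul_assoc, ← LaurentPolynomial.T_add,
          add_neg_cancel, LaurentPolynomial.T_zero, mul_one]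
    · show fwd (back (Polynomial.toLaurent Polynomial.X)) = Polynomial.toLaurent Polynomial.X
      rw [Polynomial.toLaurent_X, hbT, hfU]

/-- `R[U]/(U^N - t)` is regular. -/
theorem isRegularRing_adjoinRoot [IsNoetherianRing R]
    (hreg : ∀ (p : Ideal R) [p.IsPrime], IsRegularLocalRing (Localization.AtPrime p))
    (hN : 0 < N) (ht : t ∈ 𝒜 (N : ℤ)) (htu : IsUnit t) (hm : SmallProd 𝒜 N t) :
    IsRegularRing (AdjoinRoot (X ^ N - Polynomial.C t)) := by
  haveI := isRegularLocalRing_quot 𝒜 hreg hN ht htu hm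
  haveI : IsRegularRing (R ⧸ Ideal.span {t - 1}) :=
    isRegularRing_iff.2 fun p _ => RegLoc.Homological.isRegularLocalRing_localization p
  haveI : IsRegularRing (LaurentPolynomial (R ⧸ Ideal.span {t - 1})) :=
    isRegularRing_of_isLocalization (Submonoid.powers (X : (R ⧸ Ideal.span {t - 1})[X]))
  exact IsRegularRing.of_ringEquiv (nonempty_adjoinRoot_equiv 𝒜 hN ht htu).some

end Groth.Agent.CAlg48.GradedUnit
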