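import Groth.Agent.FieldSep.Cartier
import Mathlib.Algebra.Module.SnakeLemma
import Mathlib.Algebra.Exact.Sequence

/-!
# The index in short exact sequences
-/

set_option autoImplicit false

universe u

namespace Groth.Agent.CAlg48.IndexSES

open FieldSep.Cartier Function LinearMap

variable {k : Type u} [Field k] {A X I A' X' I' : Type u}
  [AddCommGroup A] [Module k A] [AddCommGroup X] [Module k X] [AddCommGroup I] [Module k I]
  [AddCommGroup A'] [Module k A'] [AddCommGroup X'] [Module k X'] [AddCommGroup I'] [Module k I']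

theorem finite_of_exact {U V W : Type u} [AddCommGroup U] [Module k U] [AddCommGroup V] [Module k V]
    [AddCommGroup W] [Module k W] [FiniteDimensional k U] [FiniteDimensional k W]
    (f : U →ₗ[k] V) (g : V →ₗ[k] W) (h : Exact f g) : FiniteDimensional k V := by
  have h1 : FiniteDimensional k (LinearMap.ker g) := by
    rw [h.linearMap_ker_eq]; infer_instance
  have h2 : FiniteDimensional k (V ⧸ LinearMap.ker g) :=
    Module.Finite.equiv g.quotKerEquivRange.symm
  exact Module.Finite.of_submodule_quotient (LinearMap.ker g)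

variable {i : A →ₗ[k] X} {p : X →ₗ[k] I} {i' : A' →ₗ[k] X'} {p' : X' →ₗ[k] I'}
  {β : A →ₗ[k] A'} {f : X →ₗ[k] X'} {γ : I →ₗ[k] I'}

/-- Data for the kernel–cokernel sequence. -/
structure SES (i : A →ₗ[k] X) (p : X →ₗ[k] I) (i' : A' →ₗ[k] X') (p' : X' →ₗ[k] I')
    (β : A →ₗ[k] A') (f : X →ₗ[k] X') (γ : I →ₗ[k] I') : Prop where
  inj : Injective i
  exact : Exact i p
  surj : Surjective p
  inj' : Injective i'
  exact' : Exact i' p'
  surj' : Surjective p'
  comm₁ : i' ∘ₗ β = f ∘ₗ i
  comm₂ : p' ∘ₗ f = γ ∘ₗ p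

variable (h : SES i p i' p' β f γ)
include h

/-- The kernel–cokernel sequence: finiteness propagates and the index is additive. -/
theorem fred_of_fred {n m : ℤ} :
    (Fred f n → Fred γ m → Fred β (n - m)) ∧ (Fred β n → Fred f m → Fred γ (m - n)) := by
  obtain ⟨hi, hex, hp, hi', hex', hp', c1, c2⟩ := h
  have c1' : ∀ a, i' (β a) = f (i a) := fun a => LinearMap.congr_fun c1 a
  have c2' : ∀ x, p' (f x) = γ (p x) := fun x => LinearMap.congr_fun c2 x
  let a₀ : β.ker →ₗ[k] f.ker := i.restrict fun a ha => by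
    rw [LinearMap.mem_ker] at ha ⊢; rw [← c1', ha, map_zero]
  let a₁ : f.ker →ₗ[k] γ.ker := p.restrict fun x hx => by
    rw [LinearMap.mem_ker] at hx ⊢; rw [← c2', hx, map_zero]
  let a₂ : γ.ker →ₗ[k] A' ⧸ β.range :=
    SnakeLemma.δ' β f γ i p hex i' p' hex' c1 c2 γ.ker.subtype (LinearMap.exact_subtype_ker_map γ)
      β.range.mkQ (LinearMap.exact_map_mkQ_range β) hp hi'
  let a₃ : (A' ⧸ β.range) →ₗ[k] X' ⧸ f.range := β.range.mapQ f.range i' (by
    rintro _ ⟨a, rfl⟩; exact ⟨i a, (c1' a).symm⟩)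
  let a₄ : (X' ⧸ f.range) →ₗ[k] I' ⧸ γ.range := f.range.mapQ γ.range p' (by
    rintro _ ⟨x, rfl⟩; exact ⟨p x, (c2' x).symm⟩)
  have h0 : Injective a₀ := fun x y hxy => Subtype.ext (hi (congrArg Subtype.val hxy))
  have h1 : Exact a₀ a₁ := by
    intro x
    refine ⟨fun hx => ?_, ?_⟩
    · obtain ⟨a, ha⟩ := (hex x.1).1 (congrArg Subtype.val hx)
      refine ⟨⟨a, LinearMap.mem_ker.2 (hi' ?_)⟩, Subtype.ext ha⟩
      rw [c1', map_zero, ha]
      exact x.2
    · rintro ⟨a, rfl⟩
      exact Subtype.ext (hex.apply_apply_eq_zero a.1)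
  have h2 : Exact a₁ a₂ := SnakeLemma.exact_δ'_right β f γ i p hex i' p' hex' c1 c2
    f.ker.subtype (LinearMap.exact_subtype_ker_map f) γ.ker.subtype
    (LinearMap.exact_subtype_ker_map γ) β.range.mkQ (LinearMap.exact_map_mkQ_range β) hp hi'
    a₁ (LinearMap.ext fun _ => rfl) γ.ker.injective_subtype
  have h3 : Exact a₂ a₃ := SnakeLemma.exact_δ'_left β f γ i p hex i' p' hex' c1 c2 γ.ker.subtype
    (LinearMap.exact_subtype_ker_map γ) β.range.mkQ (LinearMap.exact_map_mkQ_range β)
    f.range.mkQ (LinearMap.exact_map_mkQ_range f) hp hi' a₃ (LinearMap.ext fun _ => rfl)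
    (Submodule.mkQ_surjective _)
  have h4 : Exact a₃ a₄ := by
    intro z
    obtain ⟨y, rfl⟩ := Submodule.mkQ_surjective _ z
    refine ⟨fun hy => ?_, ?_⟩
    · obtain ⟨t, ht⟩ := (Submodule.Quotient.mk_eq_zero _).1 hy
      obtain ⟨x, rfl⟩ := hp t
      obtain ⟨b, hb⟩ := (hex' (y - f x)).1 (by rw [map_sub, c2', ← ht, sub_self])
      refine ⟨Submodule.Quotient.mk b, (Submodule.Quotient.eq _).2 ⟨-x, ?_⟩⟩
      rw [hb, map_neg]; abel
    · rintro ⟨b, hb⟩
      obtain ⟨b, rfl⟩ := Submodule.mkQ_surjective _ b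
      rw [← hb]
      show Submodule.Quotient.mk (p' (i' b)) = 0
      rw [hex'.apply_apply_eq_zero]
      rfl
  have h5 : Surjective a₄ := by
    intro z
    obtain ⟨t, rfl⟩ := Submodule.mkQ_surjective _ z
    obtain ⟨y, rfl⟩ := hp' t
    exact ⟨Submodule.Quotient.mk y, rfl⟩
  constructor
  · intro hf hγ
    have := hf.finite_ker
    have := hf.finite_coker
    have := hγ.finite_ker
    have := hγ.finite_coker
    have hA : FiniteDimensional k β.ker := FiniteDimensional.of_injective a₀ h0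
    have hB : FiniteDimensional k (A' ⧸ β.range) := finite_of_exact a₂ a₃ h3
    refine ⟨hA, hB, ?_⟩
    have := Module.sum_neg_one_pow_finrank_eq_zero_of_exact_six a₀ a₁ a₂ a₃ a₄ h0 h1 h2 h3 h4 h5
    rw [← hf.index_eq, ← hγ.index_eq, index_eq_finrank_sub, index_eq_finrank_sub, index_eq_finrank_sub]
    omega
  · intro hβ hf
    have := hβ.finite_ker
    have := hβ.finite_coker
    have := hf.finite_ker
    have := hf.finite_coker
    have hA : FiniteDimensional k γ.ker := finite_of_exact a₁ a₂ h2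
    have hB : FiniteDimensional k (I' ⧸ γ.range) := Module.Finite.of_surjective a₄ h5
    refine ⟨hA, hB, ?_⟩
    have := Module.sum_neg_one_pow_finrank_eq_zero_of_exact_six a₀ a₁ a₂ a₃ a₄ h0 h1 h2 h3 h4 h5
    rw [← hβ.index_eq, ← hf.index_eq, index_eq_finrank_sub, index_eq_finrank_sub, index_eq_finrank_sub]
    omega

omit h

/-- Four term version: the outer maps of a morphism of exact sequences
`0 → A → X → Y → C → 0` have indices differing by those of the inner ones. -/
theorem fred_four {Y Y' C C' : Type u} [AddCommGroup Y] [Module k Y] [AddCommGroup Y'] [Module k Y']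
    [AddCommGroup C] [Module k C] [AddCommGroup C'] [Module k C']
    (i : A →ₗ[k] X) (h : X →ₗ[k] Y) (q : Y →ₗ[k] C) (i' : A' →ₗ[k] X') (h' : X' →ₗ[k] Y')
    (q' : Y' →ₗ[k] C') (hi : Injective i) (hih : Exact i h) (hhq : Exact h q) (hq : Surjective q)
    (hi' : Injective i') (hih' : Exact i' h') (hhq' : Exact h' q') (hq' : Surjective q')
    (β : A →ₗ[k] A') (f : X →ₗ[k] X') (g : Y →ₗ[k] Y') (α : C →ₗ[k] C')
    (c1 : i' ∘ₗ β = f ∘ₗ i) (c2 : h' ∘ₗ f = g ∘ₗ h) (c3 : q' ∘ₗ g = α ∘ₗ q) {n m : ℤ}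
    (hf : Fred f n) (hg : Fred g m) :
    ∃ a b : ℤ, Fred β b ∧ Fred α a ∧ a - b = m - n := by
  let γ : h.range →ₗ[k] h'.range := g.restrict fun y hy => by
    obtain ⟨x, rfl⟩ := hy
    exact ⟨f x, LinearMap.congr_fun c2 x⟩
  have s1 : SES i h.rangeRestrict i' h'.rangeRestrict β f γ :=
    ⟨hi, LinearMap.exact_iff.2 (by rw [LinearMap.ker_rangeRestrict, hih.linearMap_ker_eq]),
      h.surjective_rangeRestrict, hi',
      LinearMap.exact_iff.2 (by rw [LinearMap.ker_rangeRestrict, hih'.linearMap_ker_eq]),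
      h'.surjective_rangeRestrict, c1, LinearMap.ext fun x => Subtype.ext (LinearMap.congr_fun c2 x)⟩
  have s2 : SES h.range.subtype q h'.range.subtype q' γ g α :=
    ⟨h.range.injective_subtype,
      LinearMap.exact_iff.2 (by rw [Submodule.range_subtype, hhq.linearMap_ker_eq]), hq,
      h'.range.injective_subtype,
      LinearMap.exact_iff.2 (by rw [Submodule.range_subtype, hhq'.linearMap_ker_eq]), hq',
      LinearMap.ext fun _ => rfl, c3⟩
  have hγ : Fred γ γ.index := by
    refine ⟨?_, ?_, rfl⟩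
    · have := hg.finite_ker
      let j : γ.ker →ₗ[k] g.ker := h.range.subtype.restrict fun y hy =>
        LinearMap.mem_ker.2 (congrArg Subtype.val (LinearMap.mem_ker.1 hy))
      exact FiniteDimensional.of_injective j fun a b hab => by
        exact Subtype.ext (Subtype.ext (congrArg Subtype.val hab :))
    · have := hf.finite_coker
      refine Module.Finite.of_surjective (f.range.mapQ γ.range h'.rangeRestrict ?_) ?_
      · rintro _ ⟨x, rfl⟩
        exact ⟨h.rangeRestrict x, Subtype.ext (LinearMap.congr_fun c2 x).symm⟩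
      · intro z
        obtain ⟨t, rfl⟩ := Submodule.mkQ_surjective _ z
        obtain ⟨y, rfl⟩ := h'.surjective_rangeRestrict t
        exact ⟨Submodule.Quotient.mk y, rfl⟩
  refine ⟨m - γ.index, n - γ.index, (fred_of_fred s1).1 hf hγ, (fred_of_fred s2).2 hγ hg, ?_⟩
  ring

end Groth.Agent.CAlg48.IndexSES
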