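import Mathlib

/-!
# Polynomials of orbits under a finite group
-/

set_option autoImplicit false

namespace Groth.Agent.CAlg48.InvPol

open Polynomial

universe u

variable {A R G : Type u} [CommRing A] [CommRing R] [Group G] [Fintype G]

/-- Lower coefficients of an orbit polynomial. -/
theorem exists_monic_lift (f : A →+* R) (act : G → R →+* R)
    (hmul : ∀ σ τ x, act σ (act τ x) = act (σ * τ) x)
    (hinv : ∀ y, (∀ σ, act σ y = y) → y ∈ f.range) (x : R) :
    ∃ P : A[X], P.Monic ∧ P.natDegree ≤ Fintype.card G ∧ P.map f = ∏ σ : G, (X - C (act σ x)) := by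
  classical
  rcases subsingleton_or_nontrivial R with hR | hR
  · refine ⟨X ^ Fintype.card G, monic_X_pow _, natDegree_pow_le.trans ?_, Subsingleton.elim _ _⟩
    simpa using Nat.mul_le_mul_left (Fintype.card G) (natDegree_X_le (R := A))
  haveI : Nontrivial A := f.domain_nontrivial
  set Q := ∏ σ : G, (X - C (act σ x)) with hQ
  have hmon : Q.Monic := monic_prod_of_monic _ _ fun σ _ => monic_X_sub_C _
  have hlift : Q ∈ lifts f := by
    refine (lifts_iff_coeff_lifts _).mpr fun k => hinv _ fun τ => ?_
    rw [← Polynomial.coeff_map]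
    congr 1
    rw [hQ, Polynomial.map_prod]
    simp only [Polynomial.map_sub, map_X, map_C, hmul]
    exact Fintype.prod_equiv (Equiv.mulLeft τ) _ _ fun σ => rfl
  obtain ⟨P, hP, hdeg, hPm⟩ := lifts_and_natDegree_eq_and_monic hlift hmon
  refine ⟨P, hPm, ?_, hP⟩
  rw [hdeg, hQ, natDegree_prod_of_monic _ _ fun σ _ => monic_X_sub_C _]
  simp

/-- If `x` lies in the extension of `J`, the lower coefficients may be taken in `J`. -/
theorem exists_monic_lift_mem (f : A →+* R) (act : G → R →+* R)
    (hmul : ∀ σ τ x, act σ (act τ x) = act (σ * τ) x) (hfix : ∀ σ a, act σ (f a) = f a)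
    (hinv : ∀ y, (∀ σ, act σ y = y) → y ∈ f.range) (J : Ideal A) (x : R) (hx : x ∈ J.map f) :
    ∃ P : A[X], P.Monic ∧ P.natDegree ≤ Fintype.card G ∧
      (∀ i, i < Fintype.card G → P.coeff i ∈ J) ∧ P.map f = ∏ σ : G, (X - C (act σ x)) := by
  classical
  obtain ⟨m, r, g, hsum⟩ := Submodule.mem_span_set'.mp hx
  choose j hj hjg using fun i => (g i).2
  -- the generic element
  let ι := ULift.{u} (Fin m)
  let x' : MvPolynomial ι R := ∑ i : ι, MvPolynomial.C (r i.down) * MvPolynomial.X i
  have hinv' : ∀ y : MvPolynomial ι R, (∀ σ, MvPolynomial.map (act σ) y = y) →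
      y ∈ (MvPolynomial.map (σ := ι) f).range := by
    intro y hy
    rw [RingHom.mem_range, ← Set.mem_range, MvPolynomial.mem_range_map_iff_coeffs_subset]
    intro c hc
    obtain ⟨d, -, rfl⟩ := MvPolynomial.mem_coeffs_iff.mp hc
    exact hinv _ fun σ => by rw [← MvPolynomial.coeff_map, hy]
  obtain ⟨P', hP'm, hP'd, hP'⟩ := exists_monic_lift (A := MvPolynomial ι A) (R := MvPolynomial ι R)
    (MvPolynomial.map f) (fun σ => MvPolynomial.map (act σ))
    (fun σ τ y => by rw [MvPolynomial.map_map, show (act σ).comp (act τ) = act (σ * τ) from RingHom.ext (hmul σ τ)]) hinv' x'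
  let n := Fintype.card G
  -- remove constant terms
  let c : ℕ → A := fun k => MvPolynomial.eval (fun i : ι => j i.down) (P'.coeff k) -
    MvPolynomial.constantCoeff (P'.coeff k)
  let P : A[X] := X ^ n + ∑ k ∈ Finset.range n, C (c k) * X ^ k
  have hc : ∀ k, c k ∈ J := by
    intro k
    have hh : ∀ p : MvPolynomial ι A,
        MvPolynomial.eval (fun i : ι => j i.down) p - MvPolynomial.constantCoeff p ∈ J := by
      intro p
      induction p using MvPolynomial.induction_on with
      | C a => simp
      | add p q hp hq => simpa [add_sub_add_comm] using J.add_mem hp hq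
      | mul_X p i hp => simpa using J.mul_mem_left _ (hj i.down)
    exact hh _
  have hPc : ∀ k, P.coeff k = if k = n then 1 else if k < n then c k else 0 := by
    intro k
    simp only [P, coeff_add, coeff_X_pow, finset_sum_coeff, coeff_C_mul, mul_ite, mul_one, mul_zero,
      Finset.sum_ite_eq, Finset.mem_range]
    rcases eq_or_ne k n with rfl | hk <;> simp [*]
  have hPm : P.Monic := by
    refine monic_X_pow_add ((degree_sum_le _ _).trans_lt ?_)
    rw [Finset.sup_lt_iff (WithBot.bot_lt_coe _)]
    exact fun k hk => (degree_C_mul_X_pow_le _ _).trans_lt (WithBot.coe_lt_coe.mpr (Finset.mem_range.mp hk))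
  refine ⟨P, hPm, natDegree_le_iff_coeff_eq_zero.mpr fun k hk => ?_, fun k hk => ?_, ?_⟩
  · rw [hPc, if_neg (ne_of_gt hk), if_neg (by omega)]
  · rw [hPc, if_neg (ne_of_lt hk), if_pos hk]
    exact hc k
  · have hev : ∀ e : MvPolynomial ι R →+* R,
        (P'.map (MvPolynomial.map f)).map e = ∏ σ : G, (X - C (e (MvPolynomial.map (act σ) x'))) := by
      intro e
      rw [hP', Polynomial.map_prod]
      simp
    have h1 := hev (MvPolynomial.eval fun i : ι => f (j i.down))
    have hx' : ∀ σ, MvPolynomial.eval (fun i : ι => f (j i.down)) (MvPolynomial.map (act σ) x') = act σ x := by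
      intro σ
      rw [← hsum]
      simp only [x', map_sum, map_mul, MvPolynomial.map_C, MvPolynomial.map_X, MvPolynomial.eval_C,
        MvPolynomial.eval_X, smul_eq_mul]
      refine Fintype.sum_equiv Equiv.ulift _ _ fun i => ?_
      simp [← hjg, hfix]
    simp only [hx'] at h1
    have h0 := hev MvPolynomial.constantCoeff
    have hx0 : ∀ σ, MvPolynomial.constantCoeff (MvPolynomial.map (act σ) x') = 0 := by
      intro σ; simp [x']
    simp only [hx0, map_zero, sub_zero, Finset.prod_const, Finset.card_univ] at h0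
    rcases subsingleton_or_nontrivial R with hR | hR
    · exact Subsingleton.elim _ _
    have hmon : (∏ σ : G, (X - C (act σ x))).Monic := monic_prod_of_monic _ _ fun σ _ => monic_X_sub_C _
    have hdeg : (∏ σ : G, (X - C (act σ x))).natDegree = n := by
      rw [natDegree_prod_of_monic _ _ fun σ _ => monic_X_sub_C _]
      simp [n]
    ext k
    rw [Polynomial.coeff_map, hPc]
    rcases lt_trichotomy k n with hlt | rfl | hgt
    · have he : MvPolynomial.eval (fun i : ι => f (j i.down)) (MvPolynomial.map f (P'.coeff k)) =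
          f (MvPolynomial.eval (fun i : ι => j i.down) (P'.coeff k)) := by
        rw [MvPolynomial.eval_map]
        exact (MvPolynomial.eval₂_comp f _ _).symm
      have h0k := congrArg (fun q => q.coeff k) h0
      simp only [Polynomial.coeff_map, MvPolynomial.constantCoeff_map, coeff_X_pow] at h0k
      rw [if_neg (ne_of_lt hlt)] at h0k
      rw [if_neg (ne_of_lt hlt), if_pos hlt, ← h1, Polynomial.coeff_map, Polynomial.coeff_map, he]
      simp only [c, map_sub]
      rw [h0k, sub_zero]
    · rw [if_pos rfl, map_one, ← hdeg]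
      exact hmon.coeff_natDegree.symm
    · rw [if_neg (ne_of_gt hgt), if_neg (by omega), map_zero, coeff_eq_zero_of_natDegree_lt (hdeg ▸ hgt)]

open TensorProduct in
/-- Flat base change of invariants. -/
theorem tensor_invariants (S R A : Type u) [CommRing S] [CommRing R] [Algebra S R] [CommRing A] [Algebra S A]
    [Module.Flat S A] {G : Type u} [Finite G] (φ : G → R →ₐ[S] R) (hinj : Function.Injective (algebraMap S R))
    (hinv : ∀ y, (∀ σ, φ σ y = y) → y ∈ Set.range (algebraMap S R)) :
    Function.Injective (algebraMap A (A ⊗[S] R)) ∧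
      ∀ x : A ⊗[S] R, (∀ σ, Algebra.TensorProduct.map (AlgHom.id S A) (φ σ) x = x) →
        x ∈ Set.range (algebraMap A (A ⊗[S] R)) := by
  classical
  haveI := Fintype.ofFinite G
  refine ⟨?_, fun x hx => ?_⟩
  · exact Algebra.TensorProduct.includeLeft_injective (S := A) hinj
  let i := Algebra.linearMap S R
  let g : R →ₗ[S] (G → R) := LinearMap.pi fun σ => (φ σ).toLinearMap - LinearMap.id
  have hex : Function.Exact i g := by
    intro y
    refine ⟨fun hy => hinv y fun σ => sub_eq_zero.mp (congrFun hy σ), ?_⟩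
    rintro ⟨c, rfl⟩
    funext σ
    simp [g, i]
  have hex' := Module.Flat.lTensor_exact A hex
  have hx0 : (g.lTensor A) x = 0 := by
    refine (TensorProduct.piRight S S A (fun _ : G => R)).injective ?_
    rw [map_zero]
    funext σ
    have hp : ∀ z : A ⊗[S] R, (TensorProduct.piRight S S A (fun _ : G => R)) ((g.lTensor A) z) σ =
        Algebra.TensorProduct.map (AlgHom.id S A) (φ σ) z - z := by
      intro z
      induction z using TensorProduct.induction_on with
      | zero => simp
      | tmul a r => simp [g, TensorProduct.tmul_sub]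
      | add a b ha hb => simp only [map_add, Pi.add_apply, ha, hb]; abel
    rw [hp, hx, sub_self, Pi.zero_apply]
  obtain ⟨z, hz⟩ := (hex' x).mp hx0
  obtain ⟨a, rfl⟩ := (TensorProduct.rid S A).symm.surjective z
  refine ⟨a, ?_⟩
  rw [← hz]
  simp [i]

/-- Invariant-polynomial lifting transported along a cover by a ring with invariant image. -/
theorem pol_lifting {A₀ R₀ : Type u} [CommRing A₀] [CommRing R₀] (π : A₀ →+* A) (hπ : Function.Surjective π)
    (Φ : R₀ →+* R) (hΦ : Function.Surjective Φ) (F : A₀ →+* R₀) (hF : Function.Injective F) (F' : A →+* R)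
    (hcomm : Φ.comp F = F'.comp π) (hker : ∀ p, F' (π p) = 0 → F p ∈ (RingHom.ker π).map F)
    (act : G → R₀ →+* R₀) (hmul : ∀ σ τ x, act σ (act τ x) = act (σ * τ) x)
    (hfix : ∀ σ a, act σ (F a) = F a) (hinv : ∀ y, (∀ σ, act σ y = y) → y ∈ F.range) :
    (∀ b, (∀ σ x, Φ x = b → Φ (act σ x) = b) →
      ∃ P : A[X], P.Monic ∧ P.map F' = (X - C b) ^ Fintype.card G) ∧
    (∀ a, F' a = 0 → ∀ i, i < Fintype.card G → ((X - C a) ^ Fintype.card G).coeff i = 0) := by
  refine ⟨fun b hb => ?_, fun a ha i hi => ?_⟩
  · obtain ⟨b', rfl⟩ := hΦ b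
    obtain ⟨Q, hQm, -, hQ⟩ := exists_monic_lift F act hmul hinv b'
    refine ⟨Q.map π, hQm.map _, ?_⟩
    rw [Polynomial.map_map, ← hcomm, ← Polynomial.map_map, hQ, Polynomial.map_prod]
    simp [hb _ b' rfl]
  · obtain ⟨p, rfl⟩ := hπ a
    obtain ⟨Q, -, -, hQJ, hQ⟩ := exists_monic_lift_mem F act hmul hfix hinv _ _ (hker p ha)
    have hQeq : Q = (X - C p) ^ Fintype.card G := by
      apply Polynomial.map_injective F hF
      simp [hQ, hfix, Polynomial.map_pow]
    have h2 : π (((X - C p) ^ Fintype.card G).coeff i) = 0 := hQeq ▸ hQJ i hi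
    rw [← Polynomial.coeff_map] at h2
    simpa [Polynomial.map_pow] using h2

open TensorProduct in
/-- Invariant elements of `A ⊗_S R` and monic lifts. -/
theorem tensor_pol_lifting (S R A G : Type u) [CommRing S] [CommRing R] [Algebra S R] [CommRing A] [Algebra S A]
    [Group G] [Fintype G] (φ : G → R →ₐ[S] R) (hφ : ∀ σ τ x, φ σ (φ τ x) = φ (σ * τ) x)
    (hi : Function.Injective (algebraMap S R)) (hinvR : ∀ y, (∀ σ, φ σ y = y) → y ∈ Set.range (algebraMap S R)) :
    (∀ b : A ⊗[S] R, (∀ σ, Algebra.TensorProduct.map (AlgHom.id S A) (φ σ) b = b) →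
      ∃ P : A[X], P.Monic ∧
        Polynomial.map (algebraMap A (A ⊗[S] R)) P = (Polynomial.X - Polynomial.C b) ^ Fintype.card G) ∧
    (∀ a : A, algebraMap A (A ⊗[S] R) a = 0 →
      ∀ i : ℕ, i < Fintype.card G → ((Polynomial.X - Polynomial.C a) ^ Fintype.card G).coeff i = 0) := by
  let P := MvPolynomial A S
  let π : P →ₐ[S] A := MvPolynomial.aeval id
  have hπ : Function.Surjective π := fun a => ⟨MvPolynomial.X a, MvPolynomial.aeval_X _ a⟩
  let F : P →+* TensorProduct S P R := algebraMap P (TensorProduct S P R)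
  let act : G → TensorProduct S P R →+* TensorProduct S P R := fun σ =>
    (Algebra.TensorProduct.map (AlgHom.id S P) (φ σ)).toRingHom
  let Φ : TensorProduct S P R →ₐ[S] TensorProduct S A R := Algebra.TensorProduct.map π (AlgHom.id S R)
  have hΦ : Function.Surjective Φ := TensorProduct.map_surjective hπ Function.surjective_id
  have hmul : ∀ σ τ x, act σ (act τ x) = act (σ * τ) x := fun σ τ x => by
    induction x using TensorProduct.induction_on with
    | zero => simp
    | tmul p r => simp [act, hφ]
    | add a b ha hb => simp only [map_add, ha, hb]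
  have hfix : ∀ σ p, act σ (F p) = F p := fun σ p => by
    show Algebra.TensorProduct.map (AlgHom.id S P) (φ σ) (p ⊗ₜ[S] (1 : R)) = p ⊗ₜ[S] (1 : R)
    rw [Algebra.TensorProduct.map_tmul, map_one]
    rfl
  have hinv : ∀ y, (∀ σ, act σ y = y) → y ∈ F.range :=
    (tensor_invariants S R P (fun σ : G => φ σ)
      hi hinvR).2
  have hΦF : Φ.toRingHom.comp F = (algebraMap A (TensorProduct S A R)).comp π.toRingHom := by
    refine RingHom.ext fun p => ?_
    show Φ (p ⊗ₜ[S] (1 : R)) = (π p) ⊗ₜ[S] (1 : R)
    rw [Algebra.TensorProduct.map_tmul, map_one]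
  have hΦact : ∀ σ x, Φ (act σ x) =
      Algebra.TensorProduct.map (AlgHom.id S A) (φ σ) (Φ x) := fun σ x => by
    induction x using TensorProduct.induction_on with
    | zero => simp
    | tmul p r => simp [act, Φ]
    | add a b ha hb => simp only [map_add, ha, hb]
  have hker : ∀ p, algebraMap A (TensorProduct S A R) (π.toRingHom p) = 0 → F p ∈ (RingHom.ker π.toRingHom).map F := by
    intro p hp
    have h1 : F p ∈ RingHom.ker Φ := (RingHom.congr_fun hΦF p).trans hp
    rw [Algebra.TensorProduct.rTensor_ker π hπ] at h1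
    exact h1
  have hinj := (tensor_invariants S R P (fun σ : G => φ σ)
    hi hinvR).1
  have H := pol_lifting (G := G) π.toRingHom hπ Φ.toRingHom hΦ F hinj
    (algebraMap A (TensorProduct S A R)) hΦF hker act hmul hfix hinv
  exact ⟨fun b hb => H.1 b fun σ x hx => (hΦact σ x).trans ((congrArg _ hx).trans (hb σ)), H.2⟩

end Groth.Agent.CAlg48.InvPol
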