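import Mathlib.RingTheory.MvPowerSeries.Substitution
import Mathlib.RingTheory.MvPowerSeries.Order
import Mathlib.LinearAlgebra.Matrix.NonsingularInverse
import Mathlib.RingTheory.LocalRing.ResidueField.Basic

/-!
The inverse function theorem for formal power series over a commutative ring.
-/

set_option autoImplicit false

noncomputable section

namespace Groth.Agent.CAlg48.InverseFunction

open MvPowerSeries Finsupp

variable {R : Type*} [CommRing R] {σ : Type*} [Fintype σ] [DecidableEq σ]

/-- `a` and `a'` have order at least `n` and agree up to order `n`. -/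
def Agree (n : ℕ) (a a' : MvPowerSeries σ R) : Prop :=
  (n : ℕ∞) ≤ a.order ∧ (n : ℕ∞) ≤ a'.order ∧ ((n + 1 : ℕ) : ℕ∞) ≤ (a - a').order

omit [Fintype σ] [DecidableEq σ] in
theorem le_order_add {n : ℕ∞} {f g : MvPowerSeries σ R} (hf : n ≤ f.order) (hg : n ≤ g.order) :
    n ≤ (f + g).order :=
  (le_min hf hg).trans min_order_le_add

omit [Fintype σ] [DecidableEq σ] in
theorem agree_one : Agree 0 (1 : MvPowerSeries σ R) 1 :=
  ⟨by simp, by simp, by rw [sub_self, MvPowerSeries.order_zero]; exact le_top⟩

omit [Fintype σ] [DecidableEq σ] in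
theorem Agree.mul {n m : ℕ} {a a' b b' : MvPowerSeries σ R} (h : Agree n a a') (h' : Agree m b b') :
    Agree (n + m) (a * b) (a' * b') := by
  refine ⟨?_, ?_, ?_⟩
  · push_cast
    exact (add_le_add h.1 h'.1).trans le_order_mul
  · push_cast
    exact (add_le_add h.2.1 h'.2.1).trans le_order_mul
  · rw [show a * b - a' * b' = (a - a') * b + a' * (b - b') by ring]
    refine le_order_add ((le_of_eq ?_).trans ((add_le_add h.2.2 h'.1).trans le_order_mul))
      ((le_of_eq ?_).trans ((add_le_add h.2.1 h'.2.2).trans le_order_mul))
    · push_cast; ring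
    · push_cast; ring

omit [Fintype σ] [DecidableEq σ] in
theorem Agree.pow {n : ℕ} {a a' : MvPowerSeries σ R} (h : Agree n a a') (k : ℕ) :
    Agree (n * k) (a ^ k) (a' ^ k) := by
  induction k with
  | zero => simpa using agree_one
  | succ k ih => rw [pow_succ, pow_succ, Nat.mul_succ]; exact ih.mul h

variable {y : σ → MvPowerSeries σ R}

omit [Fintype σ] [DecidableEq σ] in
theorem agree_prod (hy : ∀ i, Agree 1 (y i) (X i)) (d : σ →₀ ℕ) :
    Agree d.degree (d.prod fun s e => (y s) ^ e) (monomial d (1 : R)) := by
  classical
  rw [monomial_one_eq, Finsupp.degree_apply]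
  change Agree (∑ s ∈ d.support, d s) (∏ s ∈ d.support, (y s) ^ d s) (∏ s ∈ d.support, (X s) ^ d s)
  induction d.support using Finset.induction with
  | empty => simpa using agree_one
  | insert s t hs ih =>
    rw [Finset.sum_insert hs, Finset.prod_insert hs, Finset.prod_insert hs]
    have := (hy s).pow (d s)
    rw [one_mul] at this
    exact this.mul ih

omit [DecidableEq σ] in
theorem hasSubst_of_agree (hy : ∀ i, Agree 1 (y i) (X i)) : HasSubst y :=
  hasSubst_of_constantCoeff_zero fun i => by
    rw [← coeff_zero_eq_constantCoeff_apply]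
    exact coeff_of_lt_order (lt_of_lt_of_le (by simp) (hy i).1)

omit [DecidableEq σ] in
/-- Substituting `X + higher` fixes the leading part. -/
theorem le_order_subst_sub (hy : ∀ i, Agree 1 (y i) (X i)) {k : ℕ} {h : MvPowerSeries σ R}
    (hh : (k : ℕ∞) ≤ h.order) : ((k + 1 : ℕ) : ℕ∞) ≤ (subst y h - h).order := by
  classical
  refine nat_le_order fun e he => ?_
  rw [map_sub, coeff_subst (hasSubst_of_agree hy), sub_eq_zero, finsum_eq_single _ e]
  · by_cases hek : e.degree < k
    · rw [coeff_of_lt_order (lt_of_lt_of_le (by exact_mod_cast hek) hh), zero_smul]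
    · have hdeg : e.degree = k := by omega
      have h1 : coeff e (e.prod fun s n => (y s) ^ n) = 1 := by
        have h2 := coeff_of_lt_order (f := (e.prod fun s n => (y s) ^ n) - monomial e (1 : R)) (d := e)
          (lt_of_lt_of_le (by exact_mod_cast Nat.lt_succ_self _) (agree_prod hy e).2.2)
        rwa [map_sub, coeff_monomial_same, sub_eq_zero] at h2
      rw [h1, smul_eq_mul, mul_one]
  · intro d hd
    rcases lt_trichotomy d.degree e.degree with hlt | heq | hgt
    · rw [coeff_of_lt_order (lt_of_lt_of_le (by exact_mod_cast (show d.degree < k by omega)) hh),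
        zero_smul]
    · have h2 := coeff_of_lt_order (f := (d.prod fun s n => (y s) ^ n) - monomial d (1 : R)) (d := e)
        (lt_of_lt_of_le (by exact_mod_cast (show e.degree < d.degree + 1 by omega)) (agree_prod hy d).2.2)
      rw [map_sub, coeff_monomial_ne hd.symm, sub_zero] at h2
      rw [h2, smul_zero]
    · rw [coeff_of_lt_order (lt_of_lt_of_le (by exact_mod_cast hgt) (agree_prod hy d).1), smul_zero]

omit [DecidableEq σ] in
/-- Substituting `X + higher` is bijective. -/
theorem bijective_of_agree (hy : ∀ i, Agree 1 (y i) (X i)) :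
    Function.Bijective (subst y : MvPowerSeries σ R → MvPowerSeries σ R) := by
  classical
  have hs := hasSubst_of_agree hy
  have hzero : ∀ h : MvPowerSeries σ R, subst y h = 0 → h = 0 := by
    intro h hh
    have : ∀ k : ℕ, (k : ℕ∞) ≤ h.order := by
      intro k
      induction k with
      | zero => simp
      | succ k ih =>
        have := le_order_subst_sub hy ih
        rwa [hh, zero_sub, order_neg] at this
    ext e
    rw [map_zero]
    exact coeff_of_lt_order (lt_of_lt_of_le (by exact_mod_cast Nat.lt_succ_self _) (this (e.degree + 1)))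
  refine ⟨fun f g hfg => sub_eq_zero.1 (hzero _ (by rw [subst_sub hs, hfg, sub_self])), fun g => ?_⟩
  let F : ℕ → MvPowerSeries σ R := fun k => k.rec 0 fun _ f => f + (g - subst y f)
  have hF : ∀ k : ℕ, (k : ℕ∞) ≤ (g - subst y (F k)).order := by
    intro k
    induction k with
    | zero => simp
    | succ k ih =>
      rw [show g - subst y (F (k + 1)) = -(subst y (g - subst y (F k)) - (g - subst y (F k))) by
        show g - subst y (F k + (g - subst y (F k))) = _
        rw [subst_add hs]; ring, order_neg]
      exact le_order_subst_sub hy ih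
  have hstep : ∀ m k : ℕ, m ≤ k → (m : ℕ∞) ≤ (F k - F m).order := by
    intro m k hmk
    induction k, hmk using Nat.le_induction with
    | base => rw [sub_self, MvPowerSeries.order_zero]; exact le_top
    | succ k hmk ih =>
      rw [show F (k + 1) - F m = (F k - F m) + (g - subst y (F k)) by
        show F k + (g - subst y (F k)) - F m = _
        ring]
      exact le_order_add ih ((Nat.cast_le.2 hmk).trans (hF k))
  let f : MvPowerSeries σ R := fun e => coeff e (F (e.degree + 1))
  have hf : ∀ k : ℕ, (k : ℕ∞) ≤ (f - F k).order := by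
    intro k
    refine nat_le_order fun e he => ?_
    rw [map_sub, sub_eq_zero]
    show coeff e (F (e.degree + 1)) = coeff e (F k)
    rw [eq_comm, ← sub_eq_zero, ← map_sub]
    exact coeff_of_lt_order (lt_of_lt_of_le (by exact_mod_cast Nat.lt_succ_self _) (hstep _ _ he))
  refine ⟨f, ?_⟩
  ext e
  set k := e.degree + 1
  have h1 : (k : ℕ∞) ≤ (subst y f - g).order := by
    rw [show subst y f - g = ((subst y (f - F k) - (f - F k)) + (f - F k)) + -(g - subst y (F k)) by
      rw [subst_sub hs]; ring]
    refine le_order_add (le_order_add ?_ (hf k)) (by rw [order_neg]; exact hF k)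
    exact (Nat.cast_le.2 k.le_succ).trans (le_order_subst_sub hy (hf k))
  have h2 := coeff_of_lt_order (d := e) (lt_of_lt_of_le (by exact_mod_cast Nat.lt_succ_self _) h1)
  rwa [map_sub, sub_eq_zero] at h2

/-- The linear forms of a matrix. -/
def linForm (A : Matrix σ σ R) (i : σ) : MvPowerSeries σ R := ∑ j, A i j • X j

theorem hasSubst_linForm (A : Matrix σ σ R) : HasSubst (linForm A) :=
  hasSubst_of_constantCoeff_zero fun i => by simp [linForm, map_sum]

omit [DecidableEq σ] in
theorem subst_linForm_apply {z : σ → MvPowerSeries σ R} (hz : HasSubst z) (A : Matrix σ σ R) (i : σ) :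
    subst z (linForm A i) = ∑ j, A i j • z j := by
  rw [linForm, ← substAlgHom_apply hz, map_sum]
  exact Finset.sum_congr rfl fun j _ => by rw [map_smul, substAlgHom_apply, subst_X hz]

theorem bijective_linForm {A B : Matrix σ σ R} (hAB : A * B = 1) :
    Function.Bijective (subst (linForm A) : MvPowerSeries σ R → MvPowerSeries σ R) := by
  have key : ∀ A B : Matrix σ σ R, A * B = 1 →
      (subst (linForm B) : MvPowerSeries σ R → MvPowerSeries σ R) ∘ subst (linForm A) = id := by
    intro A B hAB
    rw [subst_comp_subst (hasSubst_linForm A) (hasSubst_linForm B), ← subst_self]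
    congr 1
    funext i
    rw [subst_linForm_apply (hasSubst_linForm B)]
    simp only [linForm, Finset.smul_sum, smul_smul]
    rw [Finset.sum_comm]
    simp only [← Finset.sum_smul, ← Matrix.mul_apply, hAB, Matrix.one_apply, ite_smul, one_smul,
      zero_smul, Finset.sum_ite_eq, Finset.mem_univ, if_true]
  exact ⟨Function.LeftInverse.injective (congrFun (key A B hAB)),
    Function.RightInverse.surjective (congrFun (key B A (mul_eq_one_comm.1 hAB)))⟩

/-- The Jacobian matrix at the origin. -/
def jacobian (y : σ → MvPowerSeries σ R) : Matrix σ σ R :=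
  fun i j => coeff (Finsupp.single j 1) (y i)

/-- Inverse function theorem. -/
theorem bijective_subst (hy0 : ∀ i, constantCoeff (y i) = 0) (hy : IsUnit (jacobian y).det) :
    Function.Bijective (subst y : MvPowerSeries σ R → MvPowerSeries σ R) := by
  classical
  have hs : HasSubst y := hasSubst_of_constantCoeff_zero hy0
  let A := (jacobian y)⁻¹
  have hA : A * jacobian y = 1 := Matrix.nonsing_inv_mul _ hy
  let z : σ → MvPowerSeries σ R := fun i => subst y (linForm A i)
  have hz : ∀ i, z i = ∑ j, A i j • y j := fun i => subst_linForm_apply hs A i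
  have hagree : ∀ i, Agree 1 (z i) (X i) := by
    intro i
    have hz1 : constantCoeff (z i) = 0 := by simp [hz, map_sum, hy0]
    refine ⟨?_, ?_, nat_le_order fun e he => ?_⟩
    · rw [Nat.cast_one]; exact one_le_order_iff_constCoeff_eq_zero.2 hz1
    · rw [Nat.cast_one]; exact one_le_order_iff_constCoeff_eq_zero.2 (constantCoeff_X i)
    · rcases Nat.lt_or_ge e.degree 1 with h0 | h1
      · rw [show e = 0 from (Finsupp.degree_eq_zero_iff e).1 (by omega),
          coeff_zero_eq_constantCoeff_apply, map_sub, hz1, constantCoeff_X, sub_zero]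
      · obtain ⟨l, rfl⟩ : ∃ l, e = Finsupp.single l 1 := by
          obtain ⟨l, hl⟩ := (Finsupp.sum_eq_one_iff e).1 (show e.degree = 1 by omega)
          exact ⟨l, hl⟩
        have := congrFun (congrFun hA i) l
        rw [Matrix.mul_apply] at this
        rw [map_sub, hz, map_sum, sub_eq_zero, coeff_X]
        simp only [coeff_smul, smul_eq_mul]
        refine this.trans ?_
        simp [Matrix.one_apply, Finsupp.single_left_inj, eq_comm]
  have hb := bijective_of_agree hagree
  have hL := bijective_linForm hA
  have hcomp : (subst y : MvPowerSeries σ R → MvPowerSeries σ R) ∘ (subst (linForm A) : MvPowerSeries σ R → MvPowerSeries σ R) = subst z :=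
    subst_comp_subst (hasSubst_linForm A) hs
  rw [← hcomp] at hb
  exact ⟨(Function.Injective.of_comp_right hb.1 hL.2), hb.2.of_comp⟩

/-- If the `y i` and an element of constants generate the variables, the Jacobian is invertible
modulo that ideal. -/
theorem isUnit_det_jacobian [IsLocalRing R] (hy0 : ∀ i, constantCoeff (y i) = 0) (p : R)
    (hp : p ∈ IsLocalRing.maximalIdeal R)
    (hX : ∀ j, (X j : MvPowerSeries σ R) ∈ Ideal.span (insert (MvPowerSeries.C p) (Set.range y))) :
    IsUnit (jacobian y).det := by
  classical
  choose a b hb hab using fun j => Ideal.mem_span_insert.1 (hX j)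
  choose c hc using fun j => Ideal.mem_span_range_iff_exists_fun.1 (hb j)
  let κ := IsLocalRing.ResidueField R
  let π := IsLocalRing.residue R
  let M : Matrix σ σ R := fun j i => constantCoeff (c j i)
  have h1 : (M * jacobian y).map π = 1 := by
    ext j l
    have h2 := congrArg (coeff (Finsupp.single l 1)) (hab j)
    rw [map_add, ← hc j, map_sum, coeff_X, coeff_mul_C] at h2
    have h3 : ∀ i, coeff (Finsupp.single l 1) (c j i * y i) = M j i * jacobian y i l := by
      intro i
      rw [coeff_mul, Finsupp.antidiagonal_single,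
        show Finset.HasAntidiagonal.antidiagonal 1 = ({(0, 1), (1, 0)} : Finset (ℕ × ℕ)) from rfl]
      simp [hy0, M, jacobian]
    simp only [h3] at h2
    rw [Matrix.map_apply, Matrix.mul_apply]
    have hπp : π p = 0 := Ideal.Quotient.eq_zero_iff_mem.2 hp
    have h4 := congrArg π h2
    rw [map_add, map_mul, hπp, mul_zero, zero_add] at h4
    rw [← h4]
    simp [Matrix.one_apply, Finsupp.single_left_inj, apply_ite π, eq_comm]
  have h2 : IsUnit ((M * jacobian y).map π).det := by rw [h1, Matrix.det_one]; exact isUnit_one
  rw [← RingHom.mapMatrix_apply, ← RingHom.map_det, Matrix.det_mul, map_mul] at h2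
  exact isUnit_of_map_unit π _ (isUnit_of_mul_isUnit_right h2)

end Groth.Agent.CAlg48.InverseFunction
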