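import Groth.Agent.CAlg48.HilbertKunz
import Groth.Agent.RegLoc.Miracle
import Groth.Agent.RegLoc.Homological
import Groth.Agent.Depth.CM
import Mathlib.RingTheory.RingHom.Flat
import Mathlib.RingTheory.Flat.EquationalCriterion

/-!
# Kunz's theorem: regular iff Frobenius is flat
-/

set_option autoImplicit false
set_option linter.unusedSectionVars false
set_option linter.style.haveILetI false
universe u

open IsLocalRing Groth.Agent.CAlg48.HilbertKunz

namespace Groth.Agent.CAlg48.Kunz

variable {R : Type u} [CommRing R]

/-- Independence in the sense of Lech. -/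
def Ind {n : ℕ} (y : Fin n → R) : Prop :=
  ∀ c : Fin n → R, ∑ j, c j * y j = 0 → ∀ j, c j ∈ Ideal.span (Set.range y)

theorem span_update_le {n : ℕ} (y : Fin n → R) (i : Fin n) {a : R} (h : a ∣ y i) :
    Ideal.span (Set.range y) ≤ Ideal.span (Set.range (Function.update y i a)) := by
  refine Ideal.span_le.2 ?_
  rintro _ ⟨j, rfl⟩
  by_cases hj : j = i
  · subst hj
    exact Ideal.mem_of_dvd _ h (Ideal.subset_span ⟨j, Function.update_self j a y⟩)
  · exact Ideal.subset_span ⟨j, Function.update_of_ne hj a y⟩

theorem Ind.update {n : ℕ} {y : Fin n → R} (hy : Ind y) (i : Fin n) {a b : R} (h : y i = a * b) :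
    Ind (Function.update y i a) := by
  intro c hc
  have hle := span_update_le y i (a := a) ⟨b, h⟩
  have ha : a ∈ Ideal.span (Set.range (Function.update y i a)) :=
    Ideal.subset_span ⟨i, Function.update_self i a y⟩
  have h1 := hy (fun j => if j = i then c i else b * c j) (by
    have : ∀ j, (if j = i then c i else b * c j) * y j = b * (c j * Function.update y i a j) := by
      intro j
      by_cases hj : j = i
      · subst hj; rw [if_pos rfl, Function.update_self, h]; ring
      · rw [if_neg hj, Function.update_of_ne hj]; ring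
    rw [Finset.sum_congr rfl fun j _ => this j, ← Finset.mul_sum, hc, mul_zero])
  have hci : c i ∈ Ideal.span (Set.range y) := by simpa using h1 i
  obtain ⟨e, he⟩ := Ideal.mem_span_range_iff_exists_fun.1 hci
  have h2 := hy (fun j => if j = i then e i * a else e j * a + c j) (by
    have : ∀ j, (if j = i then e i * a else e j * a + c j) * y j =
        a * (e j * y j) + (c j * Function.update y i a j - if j = i then c i * a else 0) := by
      intro j
      by_cases hj : j = i
      · subst hj; rw [if_pos rfl, if_pos rfl, Function.update_self]; ring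
      · rw [if_neg hj, if_neg hj, Function.update_of_ne hj]; ring
    rw [Finset.sum_congr rfl fun j _ => this j, Finset.sum_add_distrib, ← Finset.mul_sum, he,
      Finset.sum_sub_distrib, hc, Finset.sum_ite_eq' Finset.univ i, if_pos (Finset.mem_univ i)]
    ring)
  intro j
  by_cases hj : j = i
  · subst hj; exact hle hci
  · have h3 := h2 j
    simp only [if_neg hj] at h3
    have := Ideal.sub_mem _ (hle h3) (Ideal.mul_mem_left _ (e j) ha)
    rwa [add_sub_cancel_left] at this

theorem length_split {n : ℕ} {y : Fin n → R} (hy : Ind y) (i : Fin n) {a b : R} (h : y i = a * b) :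
    Module.length R (R ⧸ Ideal.span (Set.range (Function.update y i a))) +
      Module.length R (R ⧸ Ideal.span (Set.range (Function.update y i b))) ≤
      Module.length R (R ⧸ Ideal.span (Set.range y)) := by
  set K := Ideal.span (Set.range y)
  set Ka := Ideal.span (Set.range (Function.update y i a))
  set Kb := Ideal.span (Set.range (Function.update y i b))
  have hle : K ≤ Ka := span_update_le y i ⟨b, h⟩
  have hleb : K ≤ Kb := span_update_le y i ⟨a, by rw [h, mul_comm]⟩
  let g : (R ⧸ K) →ₗ[R] R ⧸ Ka := Submodule.factor hle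
  have hmul : ∀ z ∈ Kb, a * z ∈ K := by
    intro z hz
    induction hz using Submodule.span_induction with
    | mem z hz =>
      obtain ⟨j, rfl⟩ := hz
      by_cases hj : j = i
      · subst hj; rw [Function.update_self, ← h]; exact Ideal.subset_span ⟨j, rfl⟩
      · rw [Function.update_of_ne hj]; exact Ideal.mul_mem_left _ _ (Ideal.subset_span ⟨j, rfl⟩)
    | zero => simp
    | add u v _ _ hu hv => rw [mul_add]; exact add_mem hu hv
    | smul r u _ hu => rw [smul_eq_mul, mul_left_comm]; exact Ideal.mul_mem_left _ _ hu
  let f₀ : (R ⧸ Kb) →ₗ[R] R ⧸ K := Submodule.liftQ _ (K.mkQ ∘ₗ LinearMap.mulLeft R a) (fun z hz => by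
    rw [LinearMap.mem_ker, LinearMap.comp_apply, Submodule.mkQ_apply, Submodule.Quotient.mk_eq_zero]
    exact hmul z hz)
  let f : (R ⧸ Kb) →ₗ[R] LinearMap.ker g := f₀.codRestrict _ (fun w => by
    obtain ⟨z, rfl⟩ := Submodule.Quotient.mk_surjective _ w
    rw [LinearMap.mem_ker]
    refine (Submodule.Quotient.mk_eq_zero Ka).2 ?_
    exact Ideal.mul_mem_right _ _ (Ideal.subset_span ⟨i, Function.update_self i a y⟩))
  have hf : Function.Injective f := by
    rw [injective_iff_map_eq_zero]
    intro w hw
    obtain ⟨z, rfl⟩ := Submodule.Quotient.mk_surjective _ w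
    have h0 : a * z ∈ K := (Submodule.Quotient.mk_eq_zero K).1 (congrArg Subtype.val hw)
    obtain ⟨e, he⟩ := Ideal.mem_span_range_iff_exists_fun.1 h0
    have h1 := hy (fun j => if j = i then z - e i * b else -(b * e j)) (by
      have : ∀ j, (if j = i then z - e i * b else -(b * e j)) * y j =
          (if j = i then b * (a * z) else 0) - b * (e j * y j) := by
        intro j
        by_cases hj : j = i
        · subst hj; rw [if_pos rfl, if_pos rfl, h]; ring
        · rw [if_neg hj, if_neg hj]; ring
      rw [Finset.sum_congr rfl fun j _ => this j, Finset.sum_sub_distrib,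
        Finset.sum_ite_eq' Finset.univ i, if_pos (Finset.mem_univ i), ← Finset.mul_sum, he, sub_self])
    have h2 := h1 i
    simp only [if_pos] at h2
    refine (Submodule.Quotient.mk_eq_zero Kb).2 ?_
    have := add_mem (hleb h2) (Ideal.mul_mem_left Kb (e i)
      (Ideal.subset_span ⟨i, Function.update_self i b y⟩))
    rwa [sub_add_cancel] at this
  rw [Module.length_eq_add_of_exact (LinearMap.ker g).subtype g Subtype.val_injective
    (Submodule.factor_surjective hle) (LinearMap.exact_subtype_ker_map g), add_comm]
  gcongr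
  exact Module.length_le_of_injective f hf

theorem le_length_pow [IsLocalRing R] {n : ℕ} (x : Fin n → R) (hx : ∀ i, x i ∈ maximalIdeal R) :
    ∀ (N : ℕ) (t : Fin n → ℕ), (∑ i, t i) = N → (∀ i, 0 < t i) → Ind (fun i => x i ^ t i) →
      ((∏ i, t i : ℕ) : ℕ∞) ≤ Module.length R (R ⧸ Ideal.span (Set.range fun i => x i ^ t i)) := by
  intro N
  induction N using Nat.strong_induction_on with
  | _ N ih =>
    intro t hN ht hind
    by_cases h : ∃ i, 1 < t i
    · obtain ⟨i, hi⟩ := h
      have hup : ∀ s : ℕ, Function.update (fun j => x j ^ t j) i (x i ^ s) =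
          fun j => x j ^ Function.update t i s j := by
        intro s
        funext j
        by_cases hj : j = i
        · subst hj; simp
        · simp [Function.update_of_ne hj]
      have hsplit : x i ^ t i = x i ^ 1 * x i ^ (t i - 1) := by
        rw [← pow_add]; congr 1; omega
      have key : ∀ s r : ℕ, 0 < s → s < t i → x i ^ t i = x i ^ s * x i ^ r →
          ((∏ j, Function.update t i s j : ℕ) : ℕ∞) ≤
            Module.length R (R ⧸ Ideal.span (Set.range fun j => x j ^ Function.update t i s j)) := by
        intro s r hs hlt heq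
        refine ih _ ?_ _ rfl (fun j => ?_) ?_
        · rw [← hN]
          refine Finset.sum_lt_sum (fun j _ => ?_) ⟨i, Finset.mem_univ i, by simpa using hlt⟩
          by_cases hj : j = i
          · subst hj; simpa using hlt.le
          · simp [Function.update_of_ne hj]
        · by_cases hj : j = i
          · subst hj; simpa using hs
          · simpa [Function.update_of_ne hj] using ht j
        · rw [← hup]; exact hind.update i heq
      have h1 := key 1 (t i - 1) one_pos hi hsplit
      have h2 := key (t i - 1) 1 (by omega) (by omega) (hsplit.trans (mul_comm _ _))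
      have h3 := length_split hind i (a := x i ^ 1) (b := x i ^ (t i - 1)) hsplit
      rw [hup, hup] at h3
      refine le_trans ?_ ((add_le_add h1 h2).trans h3)
      rw [Finset.prod_update_of_mem (Finset.mem_univ i), Finset.prod_update_of_mem (Finset.mem_univ i),
        ← Finset.mul_prod_erase Finset.univ t (Finset.mem_univ i), Finset.sdiff_singleton_eq_erase,
        ← Nat.cast_add, ← add_mul, show 1 + (t i - 1) = t i by omega]
    · push Not at h
      have h1 : ∀ i, t i = 1 := fun i => le_antisymm (h i) (ht i)
      have hprod : (∏ i, t i) = 1 := Finset.prod_eq_one fun i _ => h1 i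
      rw [hprod, Nat.cast_one, ENat.one_le_iff_ne_zero, Ne, Module.length_eq_zero_iff,
        Ideal.Quotient.subsingleton_iff]
      intro htop
      refine (maximalIdeal.isMaximal R).ne_top (eq_top_iff.2 (htop ▸ Ideal.span_le.2 ?_))
      rintro _ ⟨i, rfl⟩
      simpa [h1 i] using hx i

variable [IsNoetherianRing R] [IsLocalRing R] (p : ℕ) [Fact p.Prime] [CharP R p]

theorem flat_iterate (h : (frobenius R p).Flat) (e : ℕ) : (iterateFrobenius R p e).Flat := by
  induction e with
  | zero => rw [iterateFrobenius_zero]; exact RingHom.Flat.id R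
  | succ k ih => rw [iterateFrobenius_add, iterateFrobenius_one]; exact h.comp ih

omit [IsNoetherianRing R] in
theorem ind_pow (e : ℕ) [Module.Flat R (FPush R p e)] {n : ℕ} (x : Fin n → R)
    (hspan : Ideal.span (Set.range x) = maximalIdeal R)
    (hmin : ∀ a : Fin n → R, ∑ i, x i * a i = 0 → ∀ i, a i ∈ maximalIdeal R) :
    Ind (fun i => x i ^ p ^ e) := by
  intro c hc
  let c' : Fin n → FPush R p e := c
  have hrel : ∑ i, x i • c' i = 0 := by
    refine Eq.trans (Finset.sum_congr rfl fun i _ => ?_) hc
    rw [Algebra.smul_def]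
    show iterateFrobenius R p e (x i) * c i = c i * x i ^ p ^ e
    rw [iterateFrobenius_def, mul_comm]
  have htriv : Module.IsTrivialRelation (R := R) (M := FPush R p e) x c' :=
    Module.Flat.isTrivialRelation_of_sum_smul_eq_zero hrel
  obtain ⟨k, a, z, hz, ha⟩ := htriv
  intro i
  have hz' : ∀ i, c' i = ∑ j, algebraMap R (FPush R p e) (a i j) * z j := fun i =>
    (hz i).trans (Finset.sum_congr rfl fun j _ => Algebra.smul_def _ _)
  have hmem : ∀ i j, iterateFrobenius R p e (a i j) ∈ Ideal.span (Set.range fun i => x i ^ p ^ e) := by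
    intro i j
    have hm : a i j ∈ maximalIdeal R := hmin (fun i => a i j) (ha j) i
    rw [← hspan] at hm
    have := Ideal.mem_map_of_mem (iterateFrobenius R p e) hm
    rw [Ideal.map_span, ← Set.range_comp] at this
    exact this
  have hci : c i = ∑ j, iterateFrobenius R p e (a i j) * (show R from z j) := hz' i
  rw [hci]
  exact Ideal.sum_mem _ fun j _ => Ideal.mul_mem_right _ _ (hmem i j)

theorem isRegularLocalRing_of_flat (h : (frobenius R p).Flat) : IsRegularLocalRing R := by
  classical
  set m := maximalIdeal R
  have hfg : Submodule.FG m := IsNoetherian.noetherian m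
  set S := (Submodule.FG.finite_generators hfg).toFinset with hS
  have hScard : S.card = Submodule.spanFinrank m := by
    rw [hS, ← Set.ncard_eq_toFinset_card _ (Submodule.FG.finite_generators hfg),
      Submodule.FG.generators_ncard hfg]
  set n := S.card
  let x : Fin n → R := fun i => (S.equivFin.symm i).1
  have hrange : Set.range x = (S : Set R) := by
    ext r
    exact ⟨fun ⟨i, hi⟩ => hi ▸ (S.equivFin.symm i).2, fun hr => ⟨S.equivFin ⟨r, hr⟩, by simp [x]⟩⟩
  have hspan : Ideal.span (Set.range x) = m := by
    rw [hrange, hS, Set.Finite.coe_toFinset]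
    exact Submodule.span_generators m
  have hx : ∀ i, x i ∈ m := fun i => hspan ▸ Ideal.subset_span ⟨i, rfl⟩
  have hmin : ∀ a : Fin n → R, ∑ i, x i * a i = 0 → ∀ i, a i ∈ m := by
    intro a ha i
    by_contra hi
    have hu : IsUnit (a i) := notMem_maximalIdeal.1 hi
    set T := (Finset.univ.erase i).image x
    have hxi : x i ∈ Ideal.span (T : Set R) := by
      refine (Ideal.mul_unit_mem_iff_mem _ hu).1 ?_
      rw [← Finset.add_sum_erase _ _ (Finset.mem_univ i)] at ha
      rw [eq_neg_of_add_eq_zero_left ha]
      refine neg_mem (Ideal.sum_mem _ fun j hj => Ideal.mul_mem_right _ _ (Ideal.subset_span ?_))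
      exact Finset.mem_image_of_mem x hj
    have hT : Ideal.span (T : Set R) = m := by
      refine le_antisymm (Ideal.span_le.2 fun r hr => ?_) ?_
      · obtain ⟨j, -, rfl⟩ := Finset.mem_image.1 hr; exact hx j
      · rw [← hspan, Ideal.span_le]
        rintro _ ⟨j, rfl⟩
        by_cases hj : j = i
        · exact hj ▸ hxi
        · exact Ideal.subset_span (Finset.mem_image_of_mem x (Finset.mem_erase.2 ⟨hj, Finset.mem_univ j⟩))
    have h1 : Submodule.spanFinrank m ≤ T.card := by
      rw [← hT]
      exact (Submodule.spanFinrank_span_le_ncard_of_finite T.finite_toSet).trans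
        (le_of_eq (Set.ncard_coe_finset T))
    have h2 : T.card ≤ n - 1 := Finset.card_image_le.trans (le_of_eq (by simp))
    have h3 : 0 < n := Nat.lt_of_le_of_lt (Nat.zero_le _) i.2
    omega
  have hind : ∀ e, Ind (fun i => x i ^ p ^ e) := fun e =>
    haveI : Module.Flat R (FPush R p e) := flat_iterate p h e
    ind_pow p e x hspan hmin
  obtain ⟨d, hd, -⟩ := RegLoc.exists_natCast_eq_ringKrullDim R
  obtain ⟨C, hC⟩ := exists_lenA_sup_le p m ⟨1, by rw [pow_one]⟩ ⊥ d (by
    rw [ringKrullDim_eq_of_ringEquiv (RingEquiv.quotientBot R), hd])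
  have hbound : ∀ e, (p ^ n) ^ e ≤ C * (p ^ d) ^ e := by
    intro e
    have h1 := le_length_pow x hx _ (fun _ => p ^ e) rfl
      (fun _ => pow_pos (Fact.out : p.Prime).pos e) (hind e)
    have heq : Ideal.span (Set.range fun i => x i ^ p ^ e) = fpow p m e ⊔ ⊥ := by
      rw [sup_bot_eq, fpow, ← hspan, Ideal.map_span, ← Set.range_comp]
      rfl
    rw [heq] at h1
    have hfin := length_ne_top' (Primary.fpow p (a := m) ⟨1, by rw [pow_one]⟩ e)
    have h2 := ENat.toNat_le_toNat h1 (by rwa [sup_bot_eq])
    rw [ENat.toNat_natCast, Finset.prod_const, Finset.card_univ, Fintype.card_fin, ← pow_mul,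
      mul_comm, pow_mul] at h2
    exact h2.trans (hC e)
  have hnd : n ≤ d := by
    by_contra hlt
    push Not at hlt
    have hp : 1 < p := (Fact.out : p.Prime).one_lt
    have h1 : (p ^ d) ^ C * p ^ C ≤ C * (p ^ d) ^ C := by
      refine le_trans ?_ (hbound C)
      rw [← mul_pow, ← pow_succ]
      exact Nat.pow_le_pow_left (Nat.pow_le_pow_right (by omega) hlt) C
    rw [mul_comm C] at h1
    exact absurd (Nat.le_of_mul_le_mul_left h1 (pow_pos (pow_pos (by omega) d) C))
      (not_le.2 (Nat.lt_pow_self hp))
  refine IsRegularLocalRing.of_spanFinrank_maximalIdeal_le _ ?_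
  rw [hd, ← hScard]
  exact_mod_cast hnd

theorem flat_of_isRegularLocalRing [IsRegularLocalRing R] : (frobenius R p).Flat := by
  rw [← iterateFrobenius_one]
  show Module.Flat R (FPush R p 1)
  haveI : IsRegularLocalRing (FPush R p 1) := inferInstanceAs (IsRegularLocalRing R)
  haveI : LocCoh.IsCohenMacaulayLocalRing (FPush R p 1) :=
    Depth.isCohenMacaulayLocalRing_of_isRegularLocalRing
  haveI hloc : IsLocalHom (algebraMap R (FPush R p 1)) := ⟨fun a ha => by
    change IsUnit (iterateFrobenius R p 1 a : R) at ha
    rw [iterateFrobenius_def] at ha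
    exact (isUnit_pow_iff (pow_ne_zero 1 (Fact.out : p.Prime).ne_zero)).1 ha⟩
  refine RegLoc.Miracle.flat_of_ringKrullDim_eq_add ?_
  set I := (maximalIdeal R).map (algebraMap R (FPush R p 1))
  have hne : I ≤ maximalIdeal (FPush R p 1) := Ideal.map_le_iff_le_comap.2 fun a ha => by
    rw [Ideal.mem_comap, mem_maximalIdeal]
    exact fun hu => ha (hloc.map_nonunit a hu)
  haveI : Nontrivial (FPush R p 1 ⧸ I) :=
    Ideal.Quotient.nontrivial_iff.2 (ne_top_of_le_ne_top (maximalIdeal.isMaximal _).ne_top hne)
  have h0 : ringKrullDim (FPush R p 1 ⧸ I) = 0 := by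
    rw [← ringKrullDimZero_iff_ringKrullDim_eq_zero]
    refine Ring.KrullDimLE.mk₀ (fun P hP => ?_)
    have hP' : (P.comap (Ideal.Quotient.mk I)).IsPrime := Ideal.comap_isPrime _ _
    have hmax : P.comap (Ideal.Quotient.mk I) = maximalIdeal (FPush R p 1) := by
      refine le_antisymm (le_maximalIdeal hP'.ne_top) fun a ha => ?_
      refine hP'.mem_of_pow_mem (p ^ 1) ?_
      have hI : (a ^ p ^ 1 : FPush R p 1) ∈ I := by
        have := Ideal.mem_map_of_mem (algebraMap R (FPush R p 1)) (show (a : R) ∈ maximalIdeal R from ha)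
        exact this
      rw [Ideal.mem_comap, Ideal.Quotient.eq_zero_iff_mem.2 hI]
      exact P.zero_mem
    rw [← Ideal.map_comap_of_surjective _ Ideal.Quotient.mk_surjective P, hmax]
    exact Ideal.IsMaximal.map_of_surjective_of_ker_le Ideal.Quotient.mk_surjective
      (by rw [Ideal.mk_ker]; exact hne)
  rw [h0, add_zero]
  rfl

omit [IsLocalRing R] in
theorem isRegularRing_iff_flat : IsRegularRing R ↔ (frobenius R p).Flat := by
  have hcomap : ∀ (P : Ideal R) [P.IsPrime], P = P.comap (frobenius R p) := by
    intro P hP
    ext x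
    rw [Ideal.mem_comap, frobenius_def]
    exact ⟨fun h => Ideal.pow_mem_of_mem P h p (Fact.out : p.Prime).pos,
      fun h => hP.mem_of_pow_mem p h⟩
  have hchar : ∀ (P : Ideal R) [P.IsPrime], CharP (Localization.AtPrime P) p := fun P _ =>
    (CharP.charP_iff_prime_eq_zero (Fact.out : p.Prime)).2
      (by rw [← map_natCast (algebraMap R (Localization.AtPrime P)), CharP.cast_eq_zero, map_zero])
  have hloc : ∀ (P : Ideal R) [P.IsPrime] [CharP (Localization.AtPrime P) p],
      Localization.localRingHom P P (frobenius R p) (hcomap P) =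
        frobenius (Localization.AtPrime P) p := by
    intro P _ _
    refine IsLocalization.ringHom_ext P.primeCompl ?_
    ext x
    rw [RingHom.comp_apply, RingHom.comp_apply, Localization.localRingHom_to_map, frobenius_def,
      frobenius_def, map_pow]
  constructor
  · intro hR
    refine RingHom.Flat.ofLocalizationPrime _ fun P hP => ?_
    haveI := hchar P
    haveI := IsRegularRing.isRegularLocalRing_localization (R := R) P
    have h2 := flat_of_isRegularLocalRing (R := Localization.AtPrime P) p
    rw [← hloc P] at h2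
    have key : ∀ (Q : Ideal R) [Q.IsPrime] (hQ : Q = P.comap (frobenius R p)), Q = P →
        (Localization.localRingHom Q P (frobenius R p) hQ).Flat := by
      intro Q _ hQ hQP
      subst hQP
      exact h2
    exact key _ rfl (hcomap P).symm
  · intro hF
    refine isRegularRing_iff.2 fun P hP => ?_
    haveI := hchar P
    refine isRegularLocalRing_of_flat p ?_
    rw [← hloc P]
    exact hF.localRingHom P P (hcomap P)

end Groth.Agent.CAlg48.Kunz
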