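import Mathlib
import Groth.Prelude.Def_W4c4lgringredgrpLG

/-!
Finite projective modules over LG-rings are determined by their ranks.
-/

set_option autoImplicit false
set_option linter.style.haveILetI false

universe u v

open TensorProduct

namespace Groth.Agent.CAlg48.LGProjective

variable {R : Type u} [CommRing R]

/-- A stabilised endomorphism detecting bijectivity. -/
theorem bijective_of_stabilized {M : Type v} [AddCommGroup M] [Module R M] {a : ℕ}
    (π : (Fin a → R) →ₗ[R] M) (ι : M →ₗ[R] (Fin a → R)) (hπι : π ∘ₗ ι = LinearMap.id)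
    (g : M →ₗ[R] M)
    (h : Function.Bijective (ι ∘ₗ g ∘ₗ π + (LinearMap.id - ι ∘ₗ π) : (Fin a → R) →ₗ[R] _)) :
    Function.Bijective g := by
  have hx : ∀ x, π (ι x) = x := fun x => LinearMap.congr_fun hπι x
  refine ⟨(injective_iff_map_eq_zero g).2 fun x hx0 => ?_, fun y => ?_⟩
  · have : (ι ∘ₗ g ∘ₗ π + (LinearMap.id - ι ∘ₗ π) : (Fin a → R) →ₗ[R] (Fin a → R)) (ι x) = 0 := by
      simp [hx, hx0]
    rw [← hx x, (injective_iff_map_eq_zero _).1 h.1 _ this, map_zero]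
  · obtain ⟨z, hz⟩ := h.2 (ι y)
    refine ⟨π z, ?_⟩
    have := congrArg π hz
    simpa [hx] using this

/-- Modules with isomorphic reductions at every maximal ideal are isomorphic over an LG-ring. -/
theorem nonempty_linearEquiv (hR : LGRing.IsLGRing R) (M₁ M₂ : Type v) [AddCommGroup M₁]
    [Module R M₁] [Module.Finite R M₁] [Module.Projective R M₁] [AddCommGroup M₂] [Module R M₂]
    [Module.Finite R M₂] [Module.Projective R M₂]
    (h : ∀ (m : Ideal R) [m.IsMaximal],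
      Nonempty ((M₁ ⧸ m • (⊤ : Submodule R M₁)) ≃ₗ[R] M₂ ⧸ m • (⊤ : Submodule R M₂))) :
    Nonempty (M₁ ≃ₗ[R] M₂) := by
  classical
  obtain ⟨a₁, π₁, ι₁, -, -, h₁⟩ := Module.Finite.exists_comp_eq_id_of_projective R M₁
  obtain ⟨a₂, π₂, ι₂, -, -, h₂⟩ := Module.Finite.exists_comp_eq_id_of_projective R M₂
  have hfin : ∀ {X Y : Type v} [AddCommGroup X] [Module R X] [AddCommGroup Y] [Module R Y]
      {a b : ℕ} (π : (Fin a → R) →ₗ[R] X) (ι : X →ₗ[R] (Fin a → R)) (_ : π ∘ₗ ι = LinearMap.id)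
      (π' : (Fin b → R) →ₗ[R] Y) (ι' : Y →ₗ[R] (Fin b → R)) (_ : π' ∘ₗ ι' = LinearMap.id),
      Module.Finite R (X →ₗ[R] Y) := fun π ι h π' ι' h' =>
    Module.Finite.of_surjective ((LinearMap.lcomp R _ ι) ∘ₗ (LinearMap.compRight R π'))
      fun g => ⟨ι' ∘ₗ g ∘ₗ π, LinearMap.ext fun x => by
        show π' (ι' (g (π (ι x)))) = g x
        rw [show π (ι x) = x from LinearMap.congr_fun h x]
        exact LinearMap.congr_fun h' (g x)⟩
  haveI := hfin π₁ ι₁ h₁ π₂ ι₂ h₂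
  haveI := hfin π₂ ι₂ h₂ π₁ ι₁ h₁
  obtain ⟨P, u, hu⟩ := Module.Finite.exists_fin (R := R) (M := M₁ →ₗ[R] M₂)
  obtain ⟨Q, v, hv⟩ := Module.Finite.exists_fin (R := R) (M := M₂ →ₗ[R] M₁)
  let E₁ : (M₁ →ₗ[R] M₁) → Matrix (Fin a₁) (Fin a₁) R := fun g =>
    LinearMap.toMatrix' (ι₁ ∘ₗ g ∘ₗ π₁ + (LinearMap.id - ι₁ ∘ₗ π₁))
  let E₂ : (M₂ →ₗ[R] M₂) → Matrix (Fin a₂) (Fin a₂) R := fun g =>
    LinearMap.toMatrix' (ι₂ ∘ₗ g ∘ₗ π₂ + (LinearMap.id - ι₂ ∘ₗ π₂))
  let σ := Fin P ⊕ Fin Q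
  let XY : Fin P → Fin Q → MvPolynomial σ R := fun i j =>
    MvPolynomial.X (Sum.inl i) * MvPolynomial.X (Sum.inr j)
  let F₁ : Matrix (Fin a₁) (Fin a₁) (MvPolynomial σ R) :=
    (LinearMap.toMatrix' (LinearMap.id - ι₁ ∘ₗ π₁)).map MvPolynomial.C +
      ∑ i, ∑ j, XY i j • (LinearMap.toMatrix' (ι₁ ∘ₗ (v j ∘ₗ u i) ∘ₗ π₁)).map MvPolynomial.C
  let F₂ : Matrix (Fin a₂) (Fin a₂) (MvPolynomial σ R) :=
    (LinearMap.toMatrix' (LinearMap.id - ι₂ ∘ₗ π₂)).map MvPolynomial.C +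
      ∑ i, ∑ j, XY i j • (LinearMap.toMatrix' (ι₂ ∘ₗ (u i ∘ₗ v j) ∘ₗ π₂)).map MvPolynomial.C
  let φ : (σ → R) → (M₁ →ₗ[R] M₂) := fun s => ∑ i, s (Sum.inl i) • u i
  let ψ : (σ → R) → (M₂ →ₗ[R] M₁) := fun s => ∑ j, s (Sum.inr j) • v j
  have hF₁ : ∀ s, (MvPolynomial.eval s).mapMatrix F₁ = E₁ (ψ s ∘ₗ φ s) := by
    intro s
    ext k l
    simp only [F₁, E₁, φ, ψ, XY, RingHom.mapMatrix_apply, Matrix.map_apply, Matrix.add_apply,
      Matrix.sum_apply, Matrix.smul_apply, map_add, map_sum, map_smul, smul_eq_mul, map_mul,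
      MvPolynomial.eval_C, MvPolynomial.eval_X, LinearMap.toMatrix'_apply, LinearMap.comp_apply,
      LinearMap.add_apply, LinearMap.sum_apply, LinearMap.smul_apply, Finset.sum_apply,
      Pi.add_apply, Pi.smul_apply, Finset.mul_sum]
    rw [add_comm]
    refine congrArg₂ (· + ·) ?_ rfl
    first
      | exact Finset.sum_congr rfl fun i _ => Finset.sum_congr rfl fun j _ => by ring
      | (rw [Finset.sum_comm]; exact Finset.sum_congr rfl fun i _ => Finset.sum_congr rfl fun j _ => by ring)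
  have hF₂ : ∀ s, (MvPolynomial.eval s).mapMatrix F₂ = E₂ (φ s ∘ₗ ψ s) := by
    intro s
    ext k l
    simp only [F₂, E₂, φ, ψ, XY, RingHom.mapMatrix_apply, Matrix.map_apply, Matrix.add_apply,
      Matrix.sum_apply, Matrix.smul_apply, map_add, map_sum, map_smul, smul_eq_mul, map_mul,
      MvPolynomial.eval_C, MvPolynomial.eval_X, LinearMap.toMatrix'_apply, LinearMap.comp_apply,
      LinearMap.add_apply, LinearMap.sum_apply, LinearMap.smul_apply, Finset.sum_apply,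
      Pi.add_apply, Pi.smul_apply, Finset.mul_sum]
    rw [add_comm]
    refine congrArg₂ (· + ·) ?_ rfl
    first
      | exact Finset.sum_congr rfl fun i _ => Finset.sum_congr rfl fun j _ => by ring
      | (rw [Finset.sum_comm]; exact Finset.sum_congr rfl fun i _ => Finset.sum_congr rfl fun j _ => by ring)
  let f : MvPolynomial σ R := F₁.det * F₂.det
  let es : σ ≃ Fin (P + Q) := finSumFinEquiv
  have hrep : LGRing.RepresentsUnit (MvPolynomial.rename es f) R := by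
    refine hR _ _ fun m _ => ?_
    obtain ⟨e⟩ := h m
    obtain ⟨φ₀, hφ₀⟩ := Module.projective_lifting_property (m • (⊤ : Submodule R M₂)).mkQ
      (e.toLinearMap ∘ₗ (m • (⊤ : Submodule R M₁)).mkQ) (Submodule.mkQ_surjective _)
    obtain ⟨ψ₀, hψ₀⟩ := Module.projective_lifting_property (m • (⊤ : Submodule R M₁)).mkQ
      (e.symm.toLinearMap ∘ₗ (m • (⊤ : Submodule R M₂)).mkQ) (Submodule.mkQ_surjective _)
    have e₁ : ∀ x, ψ₀ (φ₀ x) - x ∈ m • (⊤ : Submodule R M₁) := fun x => by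
      rw [← Submodule.Quotient.eq]
      refine (LinearMap.congr_fun hψ₀ (φ₀ x)).trans ?_
      show e.symm (Submodule.Quotient.mk (φ₀ x)) = _
      rw [show (Submodule.Quotient.mk (φ₀ x) : M₂ ⧸ m • (⊤ : Submodule R M₂)) =
        e (Submodule.Quotient.mk x) from LinearMap.congr_fun hφ₀ x, e.symm_apply_apply]
    have e₂ : ∀ x, φ₀ (ψ₀ x) - x ∈ m • (⊤ : Submodule R M₂) := fun x => by
      rw [← Submodule.Quotient.eq]
      refine (LinearMap.congr_fun hφ₀ (ψ₀ x)).trans ?_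
      show e (Submodule.Quotient.mk (ψ₀ x)) = _
      rw [show (Submodule.Quotient.mk (ψ₀ x) : M₁ ⧸ m • (⊤ : Submodule R M₁)) =
        e.symm (Submodule.Quotient.mk x) from LinearMap.congr_fun hψ₀ x, e.apply_symm_apply]
    obtain ⟨s₁, hs₁⟩ := (Submodule.mem_span_range_iff_exists_fun R).1
      (show φ₀ ∈ Submodule.span R (Set.range u) by rw [hu]; trivial)
    obtain ⟨s₂, hs₂⟩ := (Submodule.mem_span_range_iff_exists_fun R).1
      (show ψ₀ ∈ Submodule.span R (Set.range v) by rw [hv]; trivial)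
    let s : σ → R := Sum.elim s₁ s₂
    refine ⟨fun i => Ideal.Quotient.mk m (s (es.symm i)), ?_⟩
    rw [MvPolynomial.aeval_rename]
    have hs : MvPolynomial.aeval ((fun i => Ideal.Quotient.mk m (s (es.symm i))) ∘ es) f =
        Ideal.Quotient.mk m (MvPolynomial.eval s f) := by
      rw [show ((fun i => Ideal.Quotient.mk m (s (es.symm i))) ∘ es) =
        algebraMap R (R ⧸ m) ∘ s from funext fun i => by simp]
      exact MvPolynomial.aeval_algebraMap_apply (R ⧸ m) s f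
    rw [hs, map_mul, RingHom.map_det, RingHom.map_det, hF₁, hF₂, map_mul, RingHom.map_det,
      RingHom.map_det]
    have key : ∀ {M : Type v} [AddCommGroup M] [Module R M] {a : ℕ} (π : (Fin a → R) →ₗ[R] M)
        (ι : M →ₗ[R] (Fin a → R)) (g : M →ₗ[R] M) (hg : ∀ x, g x - x ∈ m • (⊤ : Submodule R M)),
        (Ideal.Quotient.mk m).mapMatrix
          (LinearMap.toMatrix' (ι ∘ₗ g ∘ₗ π + (LinearMap.id - ι ∘ₗ π))) = 1 := by
      intro M _ _ a π ι g hg
      ext k l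
      have hz : ι (g (π (Pi.single l 1)) - π (Pi.single l 1)) k ∈ m := by
        refine Submodule.smul_induction_on (hg (π (Pi.single l 1))) (fun r hr x _ => ?_)
          fun x y hx hy => by rw [map_add]; exact add_mem hx hy
        rw [map_smul]
        exact Ideal.mul_mem_right _ _ hr
      rw [RingHom.mapMatrix_apply, Matrix.map_apply, LinearMap.toMatrix'_apply, Matrix.one_apply,
        ← Pi.single_apply]
      have : (ι ∘ₗ g ∘ₗ π + (LinearMap.id - ι ∘ₗ π) : (Fin a → R) →ₗ[R] (Fin a → R)) (Pi.single l 1) k =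
          (Pi.single l (1 : R) : Fin a → R) k + ι (g (π (Pi.single l 1)) - π (Pi.single l 1)) k := by
        simp [map_sub]
        ring
      rw [this, map_add, Ideal.Quotient.eq_zero_iff_mem.2 hz, add_zero, Pi.single_apply,
        Pi.single_apply]
      split <;> simp
    have hφs : φ s = φ₀ := hs₁
    have hψs : ψ s = ψ₀ := hs₂
    rw [hφs, hψs, key π₁ ι₁ (ψ₀ ∘ₗ φ₀) e₁, key π₂ ι₂ (φ₀ ∘ₗ ψ₀) e₂, Matrix.det_one,
      Matrix.det_one, mul_one]
    exact isUnit_one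
  obtain ⟨t, ht⟩ := hrep
  rw [MvPolynomial.aeval_rename] at ht
  set s := t ∘ es
  have ht' : IsUnit (MvPolynomial.eval s f) := ht
  rw [map_mul, RingHom.map_det, RingHom.map_det, hF₁, hF₂, IsUnit.mul_iff] at ht'
  have hb₁ : Function.Bijective (ψ s ∘ₗ φ s) := bijective_of_stabilized π₁ ι₁ h₁ _ (by
    have := (Matrix.isUnit_iff_isUnit_det _).2 ht'.1
    rw [← Module.End.isUnit_iff]
    exact (isUnit_map_iff LinearMap.toMatrixAlgEquiv' _).1 this)
  have hb₂ : Function.Bijective (φ s ∘ₗ ψ s) := bijective_of_stabilized π₂ ι₂ h₂ _ (by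
    have := (Matrix.isUnit_iff_isUnit_det _).2 ht'.2
    rw [← Module.End.isUnit_iff]
    exact (isUnit_map_iff LinearMap.toMatrixAlgEquiv' _).1 this)
  exact ⟨LinearEquiv.ofBijective (φ s) ⟨Function.Injective.of_comp (f := ψ s) hb₁.1,
    Function.Surjective.of_comp (g := ψ s) hb₂.2⟩⟩

/-- Reductions at a maximal ideal with equal dimension are isomorphic. -/
theorem quot_equiv_of_finrank_eq {M₁ M₂ : Type v} [AddCommGroup M₁] [Module R M₁] [Module.Finite R M₁]
    [AddCommGroup M₂] [Module R M₂] [Module.Finite R M₂] (m : Ideal R) [m.IsMaximal]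
    (h : Module.finrank (R ⧸ m) ((R ⧸ m) ⊗[R] M₁) = Module.finrank (R ⧸ m) ((R ⧸ m) ⊗[R] M₂)) :
    Nonempty ((M₁ ⧸ m • (⊤ : Submodule R M₁)) ≃ₗ[R] M₂ ⧸ m • (⊤ : Submodule R M₂)) := by
  letI := Ideal.Quotient.field m
  exact ⟨(TensorProduct.quotTensorEquivQuotSMul M₁ m).symm ≪≫ₗ
    (LinearEquiv.ofFinrankEq _ _ h).restrictScalars R ≪≫ₗ TensorProduct.quotTensorEquivQuotSMul M₂ m⟩

end Groth.Agent.CAlg48.LGProjective
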