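import Groth.Agent.Props.N2Local

/-!
# Finiteness of integral closures in a fixed field: locality (variants of `Props.N2Local`)
-/

set_option autoImplicit false

namespace Groth.Agent.CAlg48.N1Local

universe u

variable {D : Type u} [CommRing D] [IsDomain D]

/-- finiteness of the integral closure in a fixed algebra passes to localizations -/
theorem finite_localization (M : Submonoid D) (D' : Type u) [CommRing D'] [Algebra D D'] [IsLocalization M D']
    (L : Type u) [CommRing L] [Algebra D L] [Algebra D' L] [IsScalarTower D D' L]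
    (hC : Module.Finite D (integralClosure D L)) : Module.Finite D' (integralClosure D' L) := by
  classical
  obtain ⟨s, hs⟩ := hC.fg_top
  refine ⟨⟨s.image fun c => ⟨c.1, c.2.tower_top⟩, ?_⟩⟩
  refine Submodule.eq_top_iff'.mpr fun z => ?_
  obtain ⟨m, hm⟩ := IsIntegral.exists_multiple_integral_of_isLocalization M z.1 z.2
  obtain ⟨c, hc⟩ := Submodule.mem_span_finset'.mp
    (hs ▸ Submodule.mem_top : (⟨m • z.1, hm⟩ : integralClosure D L) ∈ Submodule.span D (s : Set _))
  obtain ⟨w, hw⟩ := IsLocalization.map_units D' m
  have hz : z = (↑w⁻¹ : D') • ∑ a : s, algebraMap D D' (c a) •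
      (⟨a.1.1, a.1.2.tower_top⟩ : integralClosure D' L) := by
    apply Subtype.ext
    have h1 : (m : D) • z.1 = ∑ a : s, c a • (a.1.1 : L) := by
      simpa [Submonoid.smul_def] using (congrArg (fun t : integralClosure D L => t.1) hc).symm
    simp only [SetLike.val_smul, AddSubmonoidClass.coe_finset_sum, algebraMap_smul]
    refine Eq.trans ?_ (congrArg ((↑w⁻¹ : D') • ·) h1)
    change z.1 = (↑w⁻¹ : D') • ((m : D) • z.1)
    rw [← algebraMap_smul (R := D) D' (m : D) z.1, ← hw, smul_smul, Units.inv_mul, one_smul]
  rw [hz]
  refine Submodule.smul_mem _ _ (Submodule.sum_mem _ fun a _ => Submodule.smul_mem _ _ ?_)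
  refine Submodule.subset_span (Finset.mem_coe.mpr (Finset.mem_image.mpr ⟨a.1, a.2, rfl⟩))

/-- finiteness of the integral closure in a field is local for a spanning family -/
theorem finite_of_span (L : Type u) [Field L] [Algebra D L] (hinj : Function.Injective (algebraMap D L))
    (s : Finset D) (hs : Ideal.span (s : Set D) = ⊤) (Df : D → Type u)
    [∀ f, CommRing (Df f)] [∀ f, Algebra D (Df f)] [∀ f, IsLocalization.Away f (Df f)]
    (h : ∀ f ∈ s, f ≠ 0 → ∀ [Algebra (Df f) L] [IsScalarTower D (Df f) L],
      Module.Finite (Df f) (integralClosure (Df f) L)) : Module.Finite D (integralClosure D L) := by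
  classical
  have hex : ∀ f ∈ s, f ≠ 0 → ∃ T : Finset (integralClosure D L), ∀ z : integralClosure D L,
      ∃ n : ℕ, f ^ n • z ∈ Submodule.span D (T : Set (integralClosure D L)) := by
    intro f hf hf0
    have hle : Submonoid.powers f ≤ nonZeroDivisors D :=
      powers_le_nonZeroDivisors_of_noZeroDivisors hf0
    have hu : ∀ y : Submonoid.powers f, IsUnit (algebraMap D L y) := fun y => by
      refine IsUnit.mk0 _ fun e => ?_
      exact nonZeroDivisors.ne_zero (hle y.2) (hinj (by rw [e, map_zero]))
    letI : Algebra (Df f) L := (IsLocalization.lift hu).toAlgebra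
    haveI : IsScalarTower D (Df f) L :=
      IsScalarTower.of_algebraMap_eq fun r => (IsLocalization.lift_eq hu r).symm
    have hC := h f hf hf0
    obtain ⟨t, ht⟩ := hC.fg_top
    have hmul : ∀ a : integralClosure (Df f) L, ∃ k : ℕ, IsIntegral D (f ^ k • (a : L)) := by
      intro a
      obtain ⟨⟨_, k, rfl⟩, hk⟩ :=
        IsIntegral.exists_multiple_integral_of_isLocalization (Submonoid.powers f) a.1 a.2
      exact ⟨k, hk⟩
    choose k hk using hmul
    refine ⟨t.image fun a => ⟨f ^ k a • (a : L), hk a⟩, fun z => ?_⟩
    obtain ⟨c, hc⟩ := Submodule.mem_span_finset'.mp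
      (ht ▸ Submodule.mem_top : (⟨z.1, z.2.tower_top⟩ : integralClosure (Df f) L) ∈
        Submodule.span (Df f) (t : Set _))
    -- clear the denominators of the coefficients
    obtain ⟨⟨_, n, rfl⟩, hn⟩ := IsLocalization.exist_integer_multiples (Submonoid.powers f)
      Finset.univ c
    choose d hd using fun a : t => hn a (Finset.mem_univ a)
    refine ⟨n + t.sup k, ?_⟩
    have hz : f ^ (n + t.sup k) • z = ∑ a : t, (d a * f ^ (t.sup k - k a.1)) •
        (⟨f ^ k a.1 • (a.1 : L), hk a.1⟩ : integralClosure D L) := by
      apply Subtype.ext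
      have h1 : ∑ a : t, c a • (a.1.1 : L) = z.1 := by
        simpa using congrArg (fun w : integralClosure (Df f) L => w.1) hc
      simp only [SetLike.val_smul, AddSubmonoidClass.coe_finset_sum, ← h1, Finset.smul_sum]
      refine Finset.sum_congr rfl fun a _ => ?_
      have hda : f ^ n • (c a • (a.1.1 : L)) = d a • (a.1.1 : L) := by
        rw [← smul_assoc, ← hd a, algebraMap_smul]
      rw [pow_add, mul_comm, mul_smul, hda, smul_smul, smul_smul, mul_assoc, ← pow_add,
        Nat.sub_add_cancel (Finset.le_sup a.2), mul_comm]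
    rw [hz]
    exact Submodule.sum_mem _ fun a _ => Submodule.smul_mem _ _
      (Submodule.subset_span (Finset.mem_coe.mpr (Finset.mem_image.mpr ⟨a.1, a.2, rfl⟩)))
  choose T hT using hex
  let N : Finset (integralClosure D L) :=
    s.attach.biUnion fun f => if h0 : f.1 = 0 then ∅ else T f.1 f.2 h0
  refine ⟨⟨N, Submodule.eq_top_iff'.mpr fun z => ?_⟩⟩
  refine Submodule.mem_of_span_eq_top_of_smul_pow_mem _ (s : Set D) hs z fun f => ?_
  by_cases h0 : f.1 = 0
  · exact ⟨1, by simp [h0]⟩
  obtain ⟨n, hn⟩ := hT f.1 f.2 h0 z
  refine ⟨n, Submodule.span_mono ?_ hn⟩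
  intro a ha
  exact Finset.mem_coe.mpr (Finset.mem_biUnion.mpr
    ⟨⟨f.1, f.2⟩, Finset.mem_attach _ _, by rw [dif_neg h0]; exact ha⟩)


end Groth.Agent.CAlg48.N1Local

namespace Groth.Agent.CAlg48.N1Local

universe v

variable {D : Type v} [CommRing D] [IsDomain D]

/-- the `N-1` condition with an arbitrary fraction field -/
theorem finite_of_isN1 (h : CAlg.IsN1 D) (K : Type v) [Field K] [Algebra D K] [IsFractionRing D K] :
    Module.Finite D (integralClosure D K) := by
  haveI : Module.Finite D (integralClosure D (FractionRing D)) := h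
  exact Module.Finite.equiv (AlgEquiv.mapIntegralClosure (FractionRing.algEquiv D K)).toLinearEquiv

/-- localizations away from a nonzero element have the same fraction field -/
theorem isFractionRing_of_isLocalization (M : Submonoid D) (D' : Type v) [CommRing D'] [IsDomain D']
    [Algebra D D'] [IsLocalization M D'] (K : Type v) [Field K] [Algebra D' K] [IsFractionRing D' K]
    [Algebra D K] [IsScalarTower D D' K] (hM : M ≤ nonZeroDivisors D) : IsFractionRing D K := by
  have h1 := IsLocalization.localization_localization_isLocalization_of_has_all_units M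
    (nonZeroDivisors D') K fun x hx => hx.mem_nonZeroDivisors
  have e : (nonZeroDivisors D').comap (algebraMap D D') = nonZeroDivisors D := by
    ext x
    simp only [Submonoid.mem_comap, mem_nonZeroDivisors_iff_ne_zero, ne_eq,
      map_eq_zero_iff _ (IsLocalization.injective D' hM)]
  rwa [e] at h1

omit [IsDomain D] in
/-- a submonoid with domain localization consists of nonzero elements -/
theorem le_nonZeroDivisors [IsDomain D] (M : Submonoid D) (D' : Type v) [CommRing D'] [Nontrivial D']
    [Algebra D D'] [IsLocalization M D'] : M ≤ nonZeroDivisors D := fun m hm =>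
  mem_nonZeroDivisors_of_ne_zero fun h => by
    have := IsLocalization.map_units D' (⟨m, hm⟩ : M)
    rw [show ((⟨m, hm⟩ : M) : D) = 0 from h, map_zero] at this
    exact not_isUnit_zero this

end Groth.Agent.CAlg48.N1Local
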