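import Mathlib
import Groth.Prelude.Def_CAlgX
import Groth.Prelude.Def_FlatCA
import Groth.Agent.CAlg48.QRBase
import Groth.Agent.SymGr.Regular
import Groth.Agent.EGA41Lib.QuasiRegular
import Groth.Agent.FlatOpen.Slice
import Groth.Agent.FlatOpen.API
import Groth.Agent.FlatOpen.GenericFlat

/-!
Slicing a flat finitely presented algebra by a sequence which is quasi-regular in the fibre.
-/

set_option autoImplicit false
set_option linter.style.haveILetI false

universe u

open TensorProduct Function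

namespace Groth.Agent.CAlg48.QRSlice

/-- The localization at a prime over the generic point of a finite type algebra over a Noetherian
fraction field is Noetherian. -/
theorem isNoetherianRing_localization {D C : Type u} [CommRing D] [IsDomain D] [CommRing C]
    [Algebra D C] [Algebra.FiniteType D C] (P : Ideal C) [P.IsPrime]
    (hP : P.comap (algebraMap D C) = ⊥) : IsNoetherianRing (Localization.AtPrime P) := by
  let K := FractionRing D
  let M := Algebra.algebraMapSubmonoid C (nonZeroDivisors D)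
  let C0 := Localization M
  haveI : IsNoetherianRing (K ⊗[D] C) := Algebra.FiniteType.isNoetherianRing K _
  letI : Algebra K C0 := localizationAlgebra (nonZeroDivisors D) C
  haveI : IsScalarTower D K C0 := IsScalarTower.of_algebraMap_eq' (IsLocalization.map_comp _).symm
  haveI : Algebra.IsPushout D C K C0 := Algebra.isPushout_of_isLocalization (nonZeroDivisors D) K C C0
  haveI : Algebra.IsPushout D K C C0 := Algebra.IsPushout.symm inferInstance
  haveI : IsNoetherianRing C0 :=
    isNoetherianRing_of_ringEquiv (K ⊗[D] C) (Algebra.IsPushout.equiv D K C C0).toRingEquiv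
  have hle : M ≤ P.primeCompl := by
    rintro _ ⟨a, ha, rfl⟩ hmem
    have h : a ∈ P.comap (algebraMap D C) := hmem
    rw [hP] at h
    exact nonZeroDivisors.ne_zero ha h
  letI : Algebra C0 (Localization.AtPrime P) :=
    IsLocalization.localizationAlgebraOfSubmonoidLe C0 (Localization.AtPrime P) M P.primeCompl hle
  haveI : IsScalarTower C C0 (Localization.AtPrime P) :=
    IsLocalization.localization_isScalarTower_of_submonoid_le C0 (Localization.AtPrime P) M
      P.primeCompl hle
  haveI : IsLocalization (P.primeCompl.map (algebraMap C C0)) (Localization.AtPrime P) :=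
    IsLocalization.isLocalization_of_submonoid_le C0 (Localization.AtPrime P) M P.primeCompl hle
  exact IsLocalization.isNoetherianRing (P.primeCompl.map (algebraMap C C0)) _ inferInstance

variable {R S : Type u} [CommRing R] [CommRing S] [Algebra R S] {r : ℕ} (f : Fin r → S)

/-- Quasi-regularity modulo `p` gives regularity at a prime over `p`. -/
theorem regular_of_quasiRegular [Algebra.FiniteType R S] (Q : Ideal S) [Q.IsPrime]
    (p : Ideal R) [p.IsPrime] (hQp : Q.comap (algebraMap R S) = p) (hf : ∀ i, f i ∈ Q)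
    (hq : CAlgX.IsQuasiRegular fun i => Ideal.Quotient.mk (p.map (algebraMap R S)) (f i))
    (i : ℕ) (hi : i < r) (m : S)
    (hm : f ⟨i, hi⟩ * m ∈ Ideal.span (f '' {j | (j : ℕ) < i}) ⊔ p.map (algebraMap R S)) :
    ∃ s ∉ Q, s * m ∈ Ideal.span (f '' {j | (j : ℕ) < i}) ⊔ p.map (algebraMap R S) := by
  let K := p.map (algebraMap R S)
  let C := S ⧸ K
  have hKQ : K ≤ Q := Ideal.map_le_iff_le_comap.2 hQp.ge
  let Qb := Q.map (Ideal.Quotient.mk K)
  haveI : Qb.IsPrime :=
    Ideal.map_isPrime_of_surjective Ideal.Quotient.mk_surjective (by rwa [Ideal.mk_ker])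
  have hQb : ∀ x, Ideal.Quotient.mk K x ∈ Qb ↔ x ∈ Q := fun x => by
    rw [← Ideal.mem_comap, Ideal.comap_map_of_surjective' _ Ideal.Quotient.mk_surjective,
      Ideal.mk_ker, sup_eq_left.2 hKQ]
  haveI : IsScalarTower R (R ⧸ p) C :=
    IsScalarTower.of_algebraMap_eq (R := R) (S := R ⧸ p) (A := C) fun _ => rfl
  haveI : Algebra.FiniteType R C :=
    Algebra.FiniteType.of_surjective (Ideal.Quotient.mkₐ R K) Ideal.Quotient.mk_surjective
  haveI : Algebra.FiniteType (R ⧸ p) C := Algebra.FiniteType.of_restrictScalars_finiteType R (R ⧸ p) C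
  let L := Localization.AtPrime Qb
  haveI : IsNoetherianRing L := isNoetherianRing_localization (D := R ⧸ p) Qb (by
    ext x
    obtain ⟨x, rfl⟩ := Ideal.Quotient.mk_surjective x
    show Ideal.Quotient.mk K (algebraMap R S x) ∈ Qb ↔ _
    rw [hQb, ← Ideal.mem_comap, hQp, Ideal.mem_bot, Ideal.Quotient.eq_zero_iff_mem])
  haveI : Module.Flat C L := IsLocalization.flat L Qb.primeCompl
  have hqL : CAlgX.IsQuasiRegular fun j => algebraMap C L (Ideal.Quotient.mk K (f j)) :=
    QRBase.isQuasiRegular_of_flat hq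
  have hwr := SymGr.Regular.isWeaklyRegular_of_isQuasiRegular r
    (fun j => algebraMap C L (Ideal.Quotient.mk K (f j))) (fun j => by
      rw [Ring.jacobson_eq_sInf_isMaximal]
      refine Submodule.mem_sInf.2 fun M hM => ?_
      rw [IsLocalRing.eq_maximalIdeal hM, IsLocalization.AtPrime.to_map_mem_maximal_iff L Qb]
      exact (hQb _).2 (hf j)) hqL
  rw [EGA41Lib.QReg.isWeaklyRegular_iff_forall] at hwr
  let Jb : Ideal C := Ideal.span ((fun j => Ideal.Quotient.mk K (f j)) '' {j | (j : ℕ) < i})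
  have hJL : EGA41Lib.QReg.J (fun j => algebraMap C L (Ideal.Quotient.mk K (f j)))
      (EGA41Lib.QReg.init r i) = Jb.map (algebraMap C L) := by
    rw [EGA41Lib.QReg.J, EGA41Lib.QReg.init, Ideal.map_span, Set.image_image]
  have hJb : Jb = (Ideal.span (f '' {j | (j : ℕ) < i}) ⊔ K).map (Ideal.Quotient.mk K) := by
    rw [Ideal.map_sup, Ideal.map_quotient_self, sup_bot_eq, Ideal.map_span, Set.image_image]
  have h := hwr i hi (algebraMap C L (Ideal.Quotient.mk K m)) (by
    rw [hJL, ← map_mul, ← map_mul]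
    refine Ideal.mem_map_of_mem _ ?_
    rw [hJb]
    exact Ideal.mem_map_of_mem _ hm)
  rw [hJL, IsLocalization.mem_map_algebraMap_iff Qb.primeCompl L] at h
  obtain ⟨⟨⟨a, ha⟩, ⟨t, ht⟩⟩, hat⟩ := h
  rw [← map_mul] at hat
  obtain ⟨⟨c, hc⟩, hc'⟩ := (IsLocalization.eq_iff_exists Qb.primeCompl L).1 hat
  obtain ⟨c, rfl⟩ := Ideal.Quotient.mk_surjective c
  obtain ⟨t, rfl⟩ := Ideal.Quotient.mk_surjective t
  refine ⟨c * t, fun hmem => ?_, ?_⟩
  · rcases (inferInstance : Q.IsPrime).mem_or_mem hmem with h1 | h1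
    · exact hc ((hQb c).2 h1)
    · exact ht ((hQb t).2 h1)
  · have h2 : Ideal.Quotient.mk K (c * t * m) ∈ Jb := by
      have h3 : Ideal.Quotient.mk K c * (Ideal.Quotient.mk K m * Ideal.Quotient.mk K t) ∈ Jb := by
        rw [hc']
        exact Ideal.mul_mem_left _ _ ha
      rwa [map_mul, map_mul, mul_assoc, mul_comm (Ideal.Quotient.mk K t)]
    rw [hJb, ← Ideal.mem_comap, Ideal.comap_map_of_surjective' _ Ideal.Quotient.mk_surjective,
      Ideal.mk_ker, sup_assoc, sup_idem] at h2
    exact h2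

/-- Flatness at a prime is invariant under algebra isomorphisms. -/
theorem flatAt_of_bijective {S₁ S₂ : Type u} [CommRing S₁] [CommRing S₂] [Algebra R S₁] [Algebra R S₂]
    (e : S₁ →ₐ[R] S₂) (he : Bijective e) (Q : Ideal S₂) [Q.IsPrime]
    (h : FlatCA.FlatAt R (Q.comap e.toRingHom) S₁) : FlatCA.FlatAt R Q S₂ := by
  haveI : Module.Flat R (Localization.AtPrime (Q.comap e.toRingHom)) := h
  have hmap : (Q.comap e.toRingHom).primeCompl.map (RingEquiv.ofBijective e he).toMonoidHom =
      Q.primeCompl := by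
    ext x
    constructor
    · rintro ⟨y, hy, rfl⟩; exact hy
    · intro hx
      obtain ⟨y, rfl⟩ := he.2 x
      exact ⟨y, hx, rfl⟩
  let E := IsLocalization.ringEquivOfRingEquiv (Localization.AtPrime (Q.comap e.toRingHom))
    (Localization.AtPrime Q) (RingEquiv.ofBijective e he) hmap
  let E' : Localization.AtPrime (Q.comap e.toRingHom) ≃ₗ[R] Localization.AtPrime Q :=
    { E.toAddEquiv with
      map_smul' := fun a x => by
        show E (a • x) = a • E x
        rw [Algebra.smul_def, Algebra.smul_def, map_mul]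
        congr 1
        rw [IsScalarTower.algebraMap_apply R S₁ (Localization.AtPrime _),
          IsScalarTower.algebraMap_apply R S₂ (Localization.AtPrime Q)]
        refine (IsLocalization.ringEquivOfRingEquiv_eq _ _).trans ?_
        exact congrArg _ (e.commutes a) }
  exact Module.Flat.of_linearEquiv E'.symm

/-- One slicing step. -/
theorem flatAt_step {S₁ S₂ : Type u} [CommRing S₁] [CommRing S₂] [Algebra R S₁] [Algebra R S₂]
    [Algebra.FinitePresentation R S₁] (ψ : S₁ →ₐ[R] S₂) (hψ : Surjective ψ) (h : S₁)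
    (hker : RingHom.ker ψ.toRingHom = Ideal.span {h}) (Q : Ideal S₂) [Q.IsPrime]
    (hflat : FlatCA.FlatAt R (Q.comap ψ.toRingHom) S₁)
    (hreg : ∀ m : S₁, h * m ∈ ((Q.comap ψ.toRingHom).comap (algebraMap R S₁)).map (algebraMap R S₁) →
      ∃ s ∉ Q.comap ψ.toRingHom,
        s * m ∈ ((Q.comap ψ.toRingHom).comap (algebraMap R S₁)).map (algebraMap R S₁)) :
    FlatCA.FlatAt R Q S₂ := by
  let Q₁ := Q.comap ψ.toRingHom
  obtain ⟨g, hg, hfl⟩ := FlatOpen.exists_slice Q₁ hflat h hreg
  obtain ⟨-, hflg⟩ := hfl (Localization.Away g)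
  letI : Algebra S₁ S₂ := ψ.toRingHom.toAlgebra
  haveI : IsScalarTower R S₁ S₂ := IsScalarTower.of_algebraMap_eq fun a => (ψ.commutes a).symm
  let T := Submonoid.powers g
  -- flatness after inverting `g`
  let e : S₂ ≃ₗ[S₁] S₁ ⧸ Ideal.span {h} :=
    ((Submodule.quotEquivOfEq _ _ hker.symm).trans
      (LinearMap.quotKerEquivOfSurjective (Algebra.linearMap S₁ S₂) hψ)).symm
  let W := Localization.Away g ⧸ Ideal.span {algebraMap S₁ (Localization.Away g) h}
  let q : (S₁ ⧸ Ideal.span {h}) →ₗ[S₁] W :=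
    Submodule.liftQ _ (Algebra.linearMap S₁ W) (by
      rw [Ideal.span, Submodule.span_le]
      rintro _ rfl
      exact Ideal.Quotient.eq_zero_iff_mem.2 (Ideal.subset_span rfl))
  have hsmul : ∀ (a : S₁) (w : W), a • w = algebraMap S₁ W a * w := fun a w => by
    obtain ⟨z, rfl⟩ := Ideal.Quotient.mk_surjective w
    show Ideal.Quotient.mk _ (a • z) =
      Ideal.Quotient.mk _ (algebraMap S₁ (Localization.Away g) a) * Ideal.Quotient.mk _ z
    rw [Algebra.smul_def, map_mul]
  haveI : IsLocalizedModule T q := by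
    refine ⟨fun t => ?_, fun y => ?_, fun {x₁ x₂} hx => ?_⟩
    · rw [Module.End.isUnit_iff]
      have hu : IsUnit (algebraMap S₁ W t) := by
        rw [IsScalarTower.algebraMap_apply S₁ (Localization.Away g) W]
        exact (IsLocalization.map_units (Localization.Away g) t).map _
      obtain ⟨v, hv⟩ := hu.exists_left_inv
      refine ⟨fun a b hab => ?_, fun b => ⟨v * b, ?_⟩⟩
      · have : algebraMap S₁ W t * a = algebraMap S₁ W t * b := by
          rw [← hsmul, ← hsmul]; exact hab
        exact hu.mul_left_cancel this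
      · show (t : S₁) • (v * b) = b
        refine (hsmul _ _).trans ?_
        rw [← mul_assoc, mul_comm (algebraMap S₁ W t) v, hv, one_mul]
    · obtain ⟨y, rfl⟩ := Ideal.Quotient.mk_surjective y
      obtain ⟨⟨a, t⟩, hat⟩ := IsLocalization.surj T y
      refine ⟨⟨Ideal.Quotient.mk _ a, t⟩, ?_⟩
      show (t : S₁) • Ideal.Quotient.mk _ y = algebraMap S₁ W a
      refine (hsmul _ _).trans ?_
      rw [IsScalarTower.algebraMap_apply S₁ (Localization.Away g) W a,
        IsScalarTower.algebraMap_apply S₁ (Localization.Away g) W, mul_comm]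
      exact (map_mul _ _ _).symm.trans (congrArg _ hat)
    · obtain ⟨x₁, rfl⟩ := Ideal.Quotient.mk_surjective x₁
      obtain ⟨x₂, rfl⟩ := Ideal.Quotient.mk_surjective x₂
      have h1 : algebraMap S₁ (Localization.Away g) (x₁ - x₂) ∈
          (Ideal.span {h}).map (algebraMap S₁ (Localization.Away g)) := by
        rw [Ideal.map_span, Set.image_singleton, map_sub]
        exact Ideal.Quotient.eq.1 hx
      rw [IsLocalization.mem_map_algebraMap_iff T] at h1
      obtain ⟨⟨⟨a, ha⟩, t⟩, hat⟩ := h1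
      rw [← map_mul] at hat
      obtain ⟨c, hc⟩ := (IsLocalization.eq_iff_exists T _).1 hat
      refine ⟨c * t, ?_⟩
      show ((c * t : T) : S₁) • Ideal.Quotient.mk _ x₁ = ((c * t : T) : S₁) • Ideal.Quotient.mk _ x₂
      refine Ideal.Quotient.eq.2 ?_
      rw [← smul_sub, Submonoid.coe_mul, smul_eq_mul, mul_assoc, mul_comm (t : S₁), hc]
      exact Ideal.mul_mem_left _ _ ha
  haveI : IsLocalizedModule T (q ∘ₗ e.toLinearMap) := inferInstance
  haveI : Module.Flat R W := hflg
  haveI : Module.Flat R (LocalizedModule T S₂) :=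
    Module.Flat.of_linearEquiv ((IsLocalizedModule.iso T (q ∘ₗ e.toLinearMap)).restrictScalars R)
  have hT : T ≤ Q₁.primeCompl :=
    Submonoid.powers_le.2 hg
  have h1 : FlatCA.FlatAt R Q₁ S₂ :=
    FlatOpen.GenericFlat.flatAt_of_flat_localized T Q₁ hT
  -- the localizations agree
  have hmap : Q.primeCompl = Algebra.algebraMapSubmonoid S₂ Q₁.primeCompl := by
    ext x
    constructor
    · intro hx
      obtain ⟨y, rfl⟩ := hψ x
      exact ⟨y, hx, rfl⟩
    · rintro ⟨y, hy, rfl⟩
      exact hy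
  haveI := FlatOpen.isLocalizedModule_restrict Q₁.primeCompl Q.primeCompl hmap
    (LocalizedModule.mkLinearMap Q.primeCompl S₂)
  haveI : Module.Flat R (LocalizedModule Q₁.primeCompl S₂) := h1
  exact Module.Flat.of_linearEquiv ((IsLocalizedModule.iso Q₁.primeCompl
    ((LocalizedModule.mkLinearMap Q.primeCompl S₂).restrictScalars S₁)).restrictScalars R).symm

/-- The inductive step of `flatAt_partial`. -/
theorem flatAt_succ [Algebra.FinitePresentation R S] (i : ℕ) (hi : i < r) (J₁ J₂ : Ideal S)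
    (hJ₁ : J₁ = Ideal.span (f '' {j | (j : ℕ) < i})) (hJ₂ : J₂ = J₁ ⊔ Ideal.span {f ⟨i, hi⟩})
    (hle : J₁ ≤ J₂) (Q : Ideal (S ⧸ J₂)) [Q.IsPrime] (hfQ : ∀ j, Ideal.Quotient.mk J₂ (f j) ∈ Q)
    (hq : ∀ (p : Ideal R), p.IsPrime → Q.comap (algebraMap R _) = p →
      CAlgX.IsQuasiRegular fun i => Ideal.Quotient.mk (p.map (algebraMap R S)) (f i))
    (hflat : FlatCA.FlatAt R (Q.comap (Ideal.Quotient.factorₐ R hle).toRingHom) (S ⧸ J₁)) :
    FlatCA.FlatAt R Q (S ⧸ J₂) := by
  haveI : Algebra.FinitePresentation R (S ⧸ J₁) :=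
    Algebra.FinitePresentation.quotient (hJ₁ ▸ Submodule.fg_span ((Set.toFinite _).image f))
  refine flatAt_step (Ideal.Quotient.factorₐ R hle) (Ideal.Quotient.factor_surjective hle)
    (Ideal.Quotient.mk _ (f ⟨i, hi⟩)) ?_ Q hflat fun m hm => ?_
  · show RingHom.ker (Ideal.Quotient.factor hle) = _
    rw [Ideal.Quotient.factor_ker hle, hJ₂, Ideal.map_sup, Ideal.map_quotient_self, bot_sup_eq,
      Ideal.map_span, Set.image_singleton]
  obtain ⟨m, rfl⟩ := Ideal.Quotient.mk_surjective m
  let P := (Q.comap (Ideal.Quotient.factorₐ R hle).toRingHom).comap (Ideal.Quotient.mk J₁)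
  let p := (Q.comap (Ideal.Quotient.factorₐ R hle).toRingHom).comap (algebraMap R (S ⧸ J₁))
  have hp : Q.comap (algebraMap R (S ⧸ J₂)) = p := rfl
  have hPp : P.comap (algebraMap R S) = p := rfl
  have hsup : ∀ x, Ideal.Quotient.mk J₁ x ∈ p.map (algebraMap R (S ⧸ J₁)) ↔
      x ∈ Ideal.span (f '' {j | (j : ℕ) < i}) ⊔ p.map (algebraMap R S) := fun x => by
    rw [show p.map (algebraMap R (S ⧸ J₁)) = (p.map (algebraMap R S)).map (Ideal.Quotient.mk J₁)
      from (Ideal.map_map _ _).symm, ← Ideal.mem_comap,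
      Ideal.comap_map_of_surjective' _ Ideal.Quotient.mk_surjective, Ideal.mk_ker, sup_comm, hJ₁]
  rw [← map_mul, hsup] at hm
  obtain ⟨s, hs, hsm⟩ := regular_of_quasiRegular f P p hPp (fun j => hfQ j)
    (hq p inferInstance hp) i hi m hm
  exact ⟨Ideal.Quotient.mk _ s, hs, by rw [← map_mul, hsup]; exact hsm⟩

/-- Slicing by the first `i` members of the sequence. -/
theorem flatAt_partial [Algebra.FinitePresentation R S]
    (hflat : ∀ P : Ideal S, [P.IsPrime] → FlatCA.FlatAt R P S) :
    ∀ (i : ℕ), i ≤ r → ∀ (J : Ideal S), J = Ideal.span (f '' {j | (j : ℕ) < i}) →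
      ∀ (Q : Ideal (S ⧸ J)) [Q.IsPrime], (∀ j, Ideal.Quotient.mk J (f j) ∈ Q) →
      (∀ (p : Ideal R), p.IsPrime → Q.comap (algebraMap R _) = p →
        CAlgX.IsQuasiRegular fun i => Ideal.Quotient.mk (p.map (algebraMap R S)) (f i)) →
      FlatCA.FlatAt R Q (S ⧸ J) := by
  intro i
  induction i with
  | zero =>
    intro _ J hJ Q _ _ _
    exact flatAt_of_bijective (Ideal.Quotient.mkₐ R J)
      ⟨(injective_iff_map_eq_zero _).2 fun x hx => by
        have hx' : x ∈ J := Ideal.Quotient.eq_zero_iff_mem.1 hx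
        rw [hJ] at hx'
        simpa using hx', Ideal.Quotient.mk_surjective⟩ Q (hflat _)
  | succ i ih =>
    intro hi J hJ Q _ hfQ hq
    have hJ₂ : J = Ideal.span (f '' {j | (j : ℕ) < i}) ⊔ Ideal.span {f ⟨i, hi⟩} := by
      rw [hJ, ← Ideal.span_union]
      congr 1
      ext x
      simp only [Set.mem_image, Set.mem_setOf_eq, Set.union_singleton, Set.mem_insert_iff]
      constructor
      · rintro ⟨j, hj, rfl⟩
        rcases Nat.lt_succ_iff_lt_or_eq.1 hj with hj | hj
        · exact Or.inr ⟨j, hj, rfl⟩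
        · exact Or.inl (congrArg f (Fin.ext hj))
      · rintro (rfl | ⟨j, hj, rfl⟩)
        · exact ⟨⟨i, hi⟩, Nat.lt_succ_self i, rfl⟩
        · exact ⟨j, Nat.lt_succ_of_lt hj, rfl⟩
    have hle : Ideal.span (f '' {j | (j : ℕ) < i}) ≤ J := hJ₂ ▸ le_sup_left
    exact flatAt_succ f i hi _ J rfl hJ₂ hle Q hfQ hq
      (ih (Nat.le_of_succ_le hi) _ rfl _ (fun j => hfQ j) fun p hp h => hq p hp h)

/-- Slicing by a sequence quasi-regular modulo `p`. -/
theorem flatAt_quotient [Algebra.FinitePresentation R S] (Q : Ideal (S ⧸ Ideal.span (Set.range f)))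
    [Q.IsPrime] (hflat : ∀ P : Ideal S, [P.IsPrime] → FlatCA.FlatAt R P S)
    (hq : ∀ (p : Ideal R), p.IsPrime → Q.comap (algebraMap R _) = p →
      CAlgX.IsQuasiRegular fun i => Ideal.Quotient.mk (p.map (algebraMap R S)) (f i)) :
    FlatCA.FlatAt R Q (S ⧸ Ideal.span (Set.range f)) := by
  refine flatAt_partial f hflat r le_rfl _ ?_ Q (fun j => ?_) hq
  · congr 1
    ext x
    simp
  · rw [Ideal.Quotient.eq_zero_iff_mem.2 (Ideal.subset_span (Set.mem_range_self j))]
    exact zero_mem _

end Groth.Agent.CAlg48.QRSlice
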