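import Groth.Agent.NoetherInt.Basic
import Mathlib.RingTheory.AlgebraicIndependent.TranscendenceBasis
import Mathlib.RingTheory.LocalRing.ResidueField.Instances
import Mathlib.Algebra.MvPolynomial.Equiv

/-!
Refined Noether normalization: a finite endomorphism of `k[x_1..x_n]` pulling a given prime back to
a coordinate linear subspace (Nagata).
-/

namespace Groth.Agent.CAlg48.RefinedNoether

open Polynomial

universe u

variable {k : Type u} [Field k]

/-- `X ↦ p` with unit leading coefficient and positive degree, coefficients through an integral map -/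
theorem isIntegral_eval₂ {A B : Type u} [CommRing A] [CommRing B] [Nontrivial B] (ψ : A →+* B)
    (hψ : ψ.IsIntegral) {p : B[X]} (hp : IsUnit p.leadingCoeff) (hd : 0 < p.natDegree) :
    (eval₂RingHom (C.comp ψ) p).IsIntegral := by
  have hX : (eval₂RingHom (C.comp ψ) p).IsIntegralElem (X : B[X]) := by
    -- first over `B`
    have h1 : (eval₂RingHom (C : B →+* B[X]) p).IsIntegralElem (X : B[X]) := by
      let q : B[X] := C (↑hp.unit⁻¹ : B) * p
      have hq : q.Monic := by
        rw [Monic, leadingCoeff_mul' (by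
          rw [leadingCoeff_C, hp.val_inv_mul]; exact one_ne_zero), leadingCoeff_C, hp.val_inv_mul]
      refine ⟨q.map C - C (C (↑hp.unit⁻¹ : B) * X), (hq.map _).sub_of_left ?_, ?_⟩
      · refine lt_of_le_of_lt degree_C_le ?_
        rw [degree_map_eq_of_leadingCoeff_ne_zero _ (by rw [hq.leadingCoeff, map_one]; exact one_ne_zero),
          degree_eq_natDegree hq.ne_zero, Nat.cast_pos]
        refine hd.trans_le (le_of_eq ?_)
        rw [natDegree_C_mul_of_mul_ne_zero]
        rw [hp.val_inv_mul]; exact one_ne_zero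
      · rw [eval₂_sub, eval₂_map, eval₂_C,
          show (eval₂RingHom (C : B →+* B[X]) p).comp C = C from RingHom.ext fun a => by simp,
          eval₂_C_X]
        simp [q]
    have h2 : (mapRingHom ψ).IsIntegral := fun f => by
      induction f using Polynomial.induction_on' with
      | add a b ha hb => exact ha.add _ hb
      | monomial i b =>
        rw [← C_mul_X_pow_eq_monomial]
        refine RingHom.IsIntegralElem.mul (f := mapRingHom ψ) ?_ ?_
        · obtain ⟨P, hP, hPb⟩ := hψ b
          refine ⟨P.map C, hP.map _, ?_⟩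
          rw [eval₂_map, show (mapRingHom ψ).comp C = (C : B →+* B[X]).comp ψ from
            RingHom.ext fun a => by simp, ← hom_eval₂, hPb, map_zero]
        · exact ⟨X - C (X ^ i), monic_X_sub_C _, by
            rw [eval₂_sub, eval₂_X, eval₂_C, coe_mapRingHom, Polynomial.map_pow, map_X, sub_self]⟩
    have hcomp : eval₂RingHom (C.comp ψ) p = (eval₂RingHom (C : B →+* B[X]) p).comp (mapRingHom ψ) := by
      refine Polynomial.ringHom_ext (fun a => ?_) ?_ <;> simp
    rw [hcomp]
    have hall : (eval₂RingHom (C : B →+* B[X]) p).IsIntegral := fun f => by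
      induction f using Polynomial.induction_on' with
      | add a b ha hb => exact ha.add _ hb
      | monomial i b =>
        rw [← C_mul_X_pow_eq_monomial]
        have hb : (eval₂RingHom (C : B →+* B[X]) p).IsIntegralElem (C b) :=
          ⟨X - C (C b), monic_X_sub_C _, by simp⟩
        induction i with
        | zero => simpa using hb
        | succ i ih => rw [pow_succ, ← mul_assoc]; exact ih.mul _ h1
    exact (RingHom.IsIntegral.trans _ _ h2 hall) X
  intro f
  induction f using Polynomial.induction_on' with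
  | add a b ha hb => exact ha.add _ hb
  | monomial i b =>
    rw [← C_mul_X_pow_eq_monomial]
    have hb : (eval₂RingHom (C.comp ψ) p).IsIntegralElem (C b) := by
      obtain ⟨P, hP, hPb⟩ := hψ b
      refine ⟨P.map C, hP.map _, ?_⟩
      rw [eval₂_map, show (eval₂RingHom (C.comp ψ) p).comp C = (C : B →+* B[X]).comp ψ from
        RingHom.ext fun a => by simp, ← hom_eval₂, hPb, map_zero]
    induction i with
    | zero => simpa using hb
    | succ i ih => rw [pow_succ, ← mul_assoc]; exact ih.mul _ hX

/-- transcendence degree is invariant under injective integral maps of domains -/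
theorem trdeg_eq_of_isIntegral {S T : Type u} [CommRing S] [IsDomain S] [CommRing T] [IsDomain T]
    [Algebra k S] [Algebra k T] (f : S →ₐ[k] T) (hf : Function.Injective f) (hi : f.toRingHom.IsIntegral) :
    Algebra.trdeg k S = Algebra.trdeg k T := by
  letI : Algebra S T := f.toRingHom.toAlgebra
  haveI : IsScalarTower k S T := IsScalarTower.of_algebraMap_eq fun x => (f.commutes x).symm
  haveI : FaithfulSMul S T := (faithfulSMul_iff_algebraMap_injective _ _).2 hf
  haveI : Algebra.IsIntegral S T := ⟨hi⟩
  rw [← trdeg_add_eq k S (A := T), trdeg_eq_zero (R := S) (A := T), add_zero]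

theorem trdeg_residueField {B : Type u} [CommRing B] [Algebra k B] (q : Ideal B) [q.IsPrime] :
    Algebra.trdeg k (B ⧸ q) = Algebra.trdeg k q.ResidueField := by
  haveI : Algebra.IsAlgebraic (B ⧸ q) q.ResidueField :=
    IsLocalization.isAlgebraic _ (nonZeroDivisors (B ⧸ q))
  rw [← trdeg_add_eq k (B ⧸ q) (A := q.ResidueField),
    trdeg_eq_zero (R := B ⧸ q) (A := q.ResidueField), add_zero]

theorem trdeg_le {n : ℕ} (q : Ideal (MvPolynomial (Fin n) k)) :
    Algebra.trdeg k (MvPolynomial (Fin n) k ⧸ q) ≤ (n : Cardinal.{u}) :=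
  (trdeg_le_of_surjective (Ideal.Quotient.mkₐ k q) (Ideal.Quotient.mkₐ_surjective k q)).trans
    (le_of_eq (by simp [MvPolynomial.trdeg_of_isDomain]))

/-- the coordinate subspace `(y_{r}, …, y_{n-1})` -/
noncomputable def lin (k : Type u) [Field k] (n r : ℕ) : Ideal (MvPolynomial (Fin n) k) :=
  Ideal.span (Set.range fun i : {i : Fin n // r ≤ (i : ℕ)} => MvPolynomial.X (i : Fin n))

theorem eq_zero_of_rename_mem_lin {n r : ℕ} (h : r ≤ n) {a : MvPolynomial (Fin r) k}
    (ha : MvPolynomial.rename (Fin.castLE h) a ∈ lin k n r) : a = 0 := by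
  let ρ : MvPolynomial (Fin n) k →ₐ[k] MvPolynomial (Fin r) k :=
    MvPolynomial.aeval fun i => if hi : (i : ℕ) < r then MvPolynomial.X ⟨i, hi⟩ else 0
  have hker : lin k n r ≤ RingHom.ker ρ := Ideal.span_le.2 (by
    rintro _ ⟨⟨i, hi⟩, rfl⟩
    simp [ρ, not_lt.2 hi])
  have h2 : ρ (MvPolynomial.rename (Fin.castLE h) a) = a := by
    rw [MvPolynomial.aeval_rename]
    conv_rhs => rw [← MvPolynomial.aeval_X_left_apply a]
    exact congrArg (fun g => MvPolynomial.aeval g a) (funext fun i => by simp)
  rw [← h2]
  exact hker ha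

/-- anything mapping the subspace coordinates into a prime with zero trace on the others pulls it
back to the subspace -/
theorem comap_eq_lin {n r : ℕ} (h : r ≤ n) {B : Type u} [CommRing B] [Algebra k B]
    (φ : MvPolynomial (Fin n) k →ₐ[k] B) (q : Ideal B)
    (h1 : ∀ i : Fin n, r ≤ (i : ℕ) → φ (MvPolynomial.X i) ∈ q)
    (h2 : ∀ a : MvPolynomial (Fin r) k, φ (MvPolynomial.rename (Fin.castLE h) a) ∈ q → a = 0) :
    q.comap φ = lin k n r := by
  have hle : lin k n r ≤ q.comap φ := Ideal.span_le.2 (by rintro _ ⟨⟨i, hi⟩, rfl⟩; exact h1 i hi)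
  refine le_antisymm (fun x hx => ?_) hle
  -- split `x` into its trace on the first `r` coordinates and a member of the subspace
  have hdec : ∀ x, ∃ a, x - MvPolynomial.rename (Fin.castLE h) a ∈ lin k n r := by
    intro x
    induction x using MvPolynomial.induction_on with
    | C c => exact ⟨MvPolynomial.C c, by rw [MvPolynomial.rename_C, sub_self]; exact zero_mem _⟩
    | add x y hx hy =>
      obtain ⟨a, ha⟩ := hx
      obtain ⟨b, hb⟩ := hy
      refine ⟨a + b, ?_⟩
      rw [map_add, add_sub_add_comm]
      exact add_mem ha hb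
    | mul_X x i hx =>
      obtain ⟨a, ha⟩ := hx
      by_cases hi : (i : ℕ) < r
      · refine ⟨a * MvPolynomial.X ⟨i, hi⟩, ?_⟩
        rw [map_mul, MvPolynomial.rename_X, show Fin.castLE h ⟨i, hi⟩ = i from rfl, ← sub_mul]
        exact Ideal.mul_mem_right _ _ ha
      · refine ⟨0, ?_⟩
        rw [map_zero, sub_zero]
        exact Ideal.mul_mem_left _ _ (Ideal.subset_span ⟨⟨i, not_lt.1 hi⟩, rfl⟩)
  obtain ⟨a, ha⟩ := hdec x
  have ha0 : a = 0 := h2 a (by
    have h3 : φ x - φ (x - MvPolynomial.rename (Fin.castLE h) a) ∈ q := sub_mem hx (hle ha)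
    rwa [map_sub, sub_sub_cancel] at h3)
  simpa [ha0] using ha

theorem exists_normalization : ∀ (n r : ℕ) (q : Ideal (MvPolynomial (Fin n) k)) [q.IsPrime],
    Algebra.trdeg k (MvPolynomial (Fin n) k ⧸ q) = r →
    r ≤ n ∧ ∃ φ : MvPolynomial (Fin n) k →ₐ[k] MvPolynomial (Fin n) k,
      φ.toRingHom.IsIntegral ∧ q.comap φ = lin k n r := by
  intro n
  induction n with
  | zero =>
    intro r q _ hr
    have hr0 : r = 0 := Nat.le_zero.1 (Nat.cast_le.1 (hr ▸ trdeg_le q))
    subst hr0
    refine ⟨le_rfl, AlgHom.id k _, fun x => RingHom.isIntegralElem_map _ (x := x), comap_eq_lin le_rfl _ q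
      (fun i => i.elim0) fun a ha => ?_⟩
    rw [MvPolynomial.eq_C_of_isEmpty a, MvPolynomial.rename_C, AlgHom.id_apply] at ha
    by_contra h0
    refine Ideal.IsPrime.ne_top ‹q.IsPrime› (q.eq_top_of_isUnit_mem ha (IsUnit.map _ (Ne.isUnit ?_)))
    intro h
    exact h0 (by rw [MvPolynomial.eq_C_of_isEmpty a, h, map_zero])
  | succ n ih =>
    intro r q _ hr
    rcases eq_or_ne q ⊥ with rfl | hq
    · have hrn : r = n + 1 := by
        have e := (AlgEquiv.quotientBot k (MvPolynomial (Fin (n + 1)) k)).trdeg_eq
        rw [hr, MvPolynomial.trdeg_of_isDomain] at e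
        simp at e
        exact_mod_cast e
      subst hrn
      refine ⟨le_rfl, AlgHom.id k _, fun x => RingHom.isIntegralElem_map _ (x := x), comap_eq_lin le_rfl _ _
        (fun i hi => absurd i.2 (not_lt.2 hi)) fun a ha => ?_⟩
      exact eq_zero_of_rename_mem_lin le_rfl (Submodule.mem_bot _ |>.1 ha ▸ zero_mem _)
    obtain ⟨f, hfq, hf0⟩ := Submodule.exists_mem_ne_zero_of_ne_bot hq
    let θ : MvPolynomial (Fin (n + 1)) k ≃ₐ[k] (MvPolynomial (Fin n) k)[X] :=
      (NoetherInt.T f).trans (MvPolynomial.finSuccEquiv k n)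
    have hu : IsUnit (θ f).leadingCoeff := NoetherInt.T_leadingcoeff_isUnit f hf0
    have hd : 0 < (θ f).natDegree := by
      by_contra h
      rw [Nat.pos_iff_ne_zero, not_not] at h
      have hu' : IsUnit (θ f) := by
        rw [eq_C_of_natDegree_eq_zero h]
        rw [leadingCoeff, h] at hu
        exact hu.map C
      exact Ideal.IsPrime.ne_top ‹q.IsPrime› (q.eq_top_of_isUnit_mem hfq
        (by simpa using hu'.map θ.symm))
    let q' : Ideal (MvPolynomial (Fin n) k)[X] := q.comap θ.symm
    let p₀ : Ideal (MvPolynomial (Fin n) k) := q'.comap C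
    have hfq' : θ f ∈ q' := by simpa [q'] using hfq
    have htr : Algebra.trdeg k (MvPolynomial (Fin n) k ⧸ p₀) = r := by
      rw [← hr]
      let e : ((MvPolynomial (Fin n) k)[X] ⧸ q') ≃ₐ[k] MvPolynomial (Fin (n + 1)) k ⧸ q :=
        Ideal.quotientEquivAlg q' q θ.symm (Ideal.map_comap_of_surjective _ θ.symm.surjective q).symm
      refine Eq.trans (trdeg_eq_of_isIntegral
        (Ideal.quotientMapₐ q' ((Polynomial.CAlgHom (R := MvPolynomial (Fin n) k)).restrictScalars k) (le_refl p₀))
        (Ideal.quotientMap_injective) ?_) (AlgEquiv.trdeg_eq (A := (MvPolynomial (Fin n) k)[X] ⧸ q') e)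
      have h := (Polynomial.monic_of_isUnit_leadingCoeff_inv_smul hu).quotient_isIntegral
        (I := q') (Submodule.smul_of_tower_mem _ _ hfq')
      intro x
      obtain ⟨P, hP, hPx⟩ := h x
      refine ⟨P.map (Ideal.Quotient.mk p₀), hP.map _, ?_⟩
      rw [eval₂_map]
      exact hPx
    obtain ⟨hrn, ψ, hψ, hψq⟩ := ih r p₀ htr
    refine ⟨hrn.trans (Nat.le_succ n), ?_⟩
    let e : MvPolynomial (Fin (n + 1)) k ≃ₐ[k] (MvPolynomial (Fin n) k)[X] :=
      (MvPolynomial.renameEquiv k finSuccEquivLast).trans (MvPolynomial.optionEquivLeft k (Fin n))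
    let Φ : (MvPolynomial (Fin n) k)[X] →ₐ[k] (MvPolynomial (Fin n) k)[X] :=
      { toRingHom := eval₂RingHom (C.comp ψ.toRingHom) (θ f)
        commutes' := fun c => by simp [Polynomial.algebraMap_apply] }
    have hΦC : ∀ a, Φ (C a) = C (ψ a) := fun a => by simp [Φ]
    have hΦX : Φ X = θ f := by simp [Φ]
    refine ⟨θ.symm.toAlgHom.comp (Φ.comp e.toAlgHom), ?_, comap_eq_lin (hrn.trans (Nat.le_succ n)) _ q (fun i hi => ?_)
      fun a ha => ?_⟩
    · exact RingHom.IsIntegral.trans _ θ.symm.toRingHom
        (RingHom.IsIntegral.trans e.toRingHom Φ.toRingHom (RingHom.isIntegral_of_surjective _ e.surjective)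
          (isIntegral_eval₂ ψ.toRingHom hψ hu hd))
        (RingHom.isIntegral_of_surjective _ θ.symm.surjective)
    · show θ.symm (Φ (e (MvPolynomial.X i))) ∈ q
      induction i using Fin.lastCases with
      | last =>
        have he : e (MvPolynomial.X (Fin.last n)) = X := by
          simp [e, MvPolynomial.optionEquivLeft_X_none]
        rw [he, hΦX, AlgEquiv.symm_apply_apply]
        exact hfq
      | cast i =>
        have he : e (MvPolynomial.X i.castSucc) = C (MvPolynomial.X i) := by
          simp [e, MvPolynomial.optionEquivLeft_X_some]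
        rw [he, hΦC]
        have : MvPolynomial.X i ∈ p₀.comap ψ := hψq ▸ Ideal.subset_span ⟨⟨i, hi⟩, rfl⟩
        exact this
    · have he : ∀ b : MvPolynomial (Fin r) k,
          e (MvPolynomial.rename (Fin.castLE (hrn.trans (Nat.le_succ n))) b) =
            C (MvPolynomial.rename (Fin.castLE hrn) b) := fun b => by
        induction b using MvPolynomial.induction_on with
        | C c => simp [e]
        | add x y hx hy => simp [map_add, hx, hy]
        | mul_X x i hx =>
          rw [map_mul, map_mul, hx, map_mul, map_mul]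
          congr 1
          rw [MvPolynomial.rename_X, MvPolynomial.rename_X,
            show Fin.castLE (hrn.trans (Nat.le_succ n)) i = (Fin.castLE hrn i).castSucc from rfl]
          simp only [e, AlgEquiv.trans_apply, MvPolynomial.renameEquiv_apply, MvPolynomial.rename_X,
            finSuccEquivLast_castSucc, MvPolynomial.optionEquivLeft_X_some]
      change θ.symm (Φ (e _)) ∈ q at ha
      rw [he, hΦC] at ha
      have : MvPolynomial.rename (Fin.castLE hrn) a ∈ p₀.comap ψ := ha
      rw [hψq] at this
      exact eq_zero_of_rename_mem_lin hrn this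

end Groth.Agent.CAlg48.RefinedNoether
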