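import Groth.Agent.CAlg48.ColimBC
import Groth.Agent.CAlg99.CotGen
import Groth.Agent.RegLoc.Basic
import Mathlib

/-!
# Directed colimits of flat algebras and of regular rings
-/

set_option autoImplicit false
set_option linter.style.haveILetI false

namespace Groth.Agent.CAlg48.RegColim

open Groth.Agent.CAlg48.ColimBC TensorProduct IsLocalRing

universe u

/-- A directed colimit of flat algebras is flat. -/
theorem flat {R : Type u} [CommRing R] {ι : Type u} {G : ι → Type u} [∀ i, CommRing (G i)] [∀ i, Algebra R (G i)]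
    {A : Type u} [CommRing A] [Algebra R A] {g : ∀ i, G i →ₐ[R] A} (hc : IsColim g)
    (hflat : ∀ i, Module.Flat R (G i)) : Module.Flat R A := by
  rw [Module.Flat.iff_lTensor_injective']
  intro I
  rw [injective_iff_map_eq_zero]
  intro z hz
  obtain ⟨i, x, rfl⟩ := hc.surj_rTensor I z
  have h1 : (g i).toLinearMap.rTensor R (LinearMap.lTensor (G i) I.subtype x) = 0 := by
    rw [← LinearMap.comp_apply, LinearMap.rTensor_comp_lTensor, ← LinearMap.lTensor_comp_rTensor,
      LinearMap.comp_apply]
    exact hz
  obtain ⟨j, φ, hφ, h2⟩ := hc.kill_rTensor R i _ h1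
  haveI := hflat j
  have h3 : φ.toLinearMap.rTensor I x = 0 := by
    apply Module.Flat.lTensor_preserves_injective_linearMap (M := G j) I.subtype I.injective_subtype
    rw [map_zero, ← LinearMap.comp_apply, LinearMap.lTensor_comp_rTensor, ← LinearMap.rTensor_comp_lTensor,
      LinearMap.comp_apply]
    exact h2
  rw [← show (g j).toLinearMap.comp φ.toLinearMap = (g i).toLinearMap from congrArg AlgHom.toLinearMap hφ,
    LinearMap.rTensor_comp_apply, h3, map_zero]

/-- A Noetherian directed colimit of regular rings is regular. -/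
theorem isRegularRing {R : Type u} [CommRing R] {ι : Type u} {G : ι → Type u} [∀ i, CommRing (G i)] [∀ i, Algebra R (G i)]
    {A : Type u} [CommRing A] [Algebra R A] [IsNoetherianRing A] {g : ∀ i, G i →ₐ[R] A} (hc : IsColim g)
    (hreg : ∀ i, IsRegularRing (G i)) : IsRegularRing A := by
  classical
  rw [isRegularRing_iff]
  intro Q _
  let L := Localization.AtPrime Q
  let d := (maximalIdeal L).spanFinrank
  have hd : Module.finrank (ResidueField L) (CotangentSpace L) = d :=
    (spanFinrank_maximalIdeal_eq_finrank_cotangentSpace L).symm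
  let b := Module.finBasisOfFinrankEq (ResidueField L) (CotangentSpace L) hd
  choose z hz using fun t => (maximalIdeal L).toCotangent_surjective (b t)
  choose a s has using fun t => IsLocalization.exists_mk'_eq Q.primeCompl (z t : L)
  -- numerators
  let w : Fin d → maximalIdeal L := fun t => ⟨algebraMap A L (a t), by
    have := (z t).2
    rw [← has t, IsLocalization.AtPrime.mk'_mem_maximal_iff L Q] at this
    exact (IsLocalization.AtPrime.to_map_mem_maximal_iff L Q (a t)).mpr this⟩
  have hzw : ∀ t, (z t : L) = IsLocalization.mk' L (1 : A) (s t) * (w t : L) := fun t => by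
    rw [← has t, IsLocalization.mk'_eq_mul_mk'_one]
    exact mul_comm _ _
  have hspan : Ideal.span (Set.range fun t => (w t : L)) = maximalIdeal L := by
    apply RegLoc.eq_maximalIdeal_of_le_sup_sq
    · rw [Ideal.span_le]; rintro _ ⟨t, rfl⟩; exact (w t).2
    · intro x hx
      have hmem : (maximalIdeal L).toCotangent ⟨x, hx⟩ ∈
          Submodule.span (ResidueField L) (Set.range fun t => (maximalIdeal L).toCotangent (z t)) := by
        simp only [hz, Module.Basis.span_eq, Submodule.mem_top]
      obtain ⟨c, hcx⟩ := CAlg99.CotGen.exists_sub_mem_sq z ⟨x, hx⟩ hmem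
      refine Submodule.mem_sup.mpr ⟨∑ t, c t * (z t : L), ?_, x - ∑ t, c t * (z t : L), hcx, add_sub_cancel _ _⟩
      exact Ideal.sum_mem _ fun t _ => Ideal.mul_mem_left _ _
        (hzw t ▸ Ideal.mul_mem_left _ _ (Ideal.subset_span ⟨t, rfl⟩))
  have hli : LinearIndependent (ResidueField L) (fun t => (maximalIdeal L).toCotangent (w t)) := by
    have hu : ∀ t, IsUnit (residue L (IsLocalization.mk' L (1 : A) (s t))) := fun t => by
      refine IsUnit.map _ (IsUnit.of_mul_eq_one (algebraMap A L (s t)) ?_)
      rw [IsLocalization.mk'_spec, map_one]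
    have e : (fun t => (maximalIdeal L).toCotangent (w t)) = fun t => ((hu t).unit⁻¹ : (ResidueField L)ˣ) • b t := by
      funext t
      rw [← hz, eq_inv_smul_iff, Units.smul_def, IsUnit.unit_spec]
      show residue L _ • (maximalIdeal L).toCotangent (w t) = _
      rw [← ResidueField.algebraMap_eq, algebraMap_smul, ← map_smul]
      congr 1
      exact Subtype.ext (hzw t).symm
    rw [e]
    exact b.linearIndependent.units_smul fun t => (hu t).unit⁻¹
  -- the `w` form a regular sequence
  have hreg' : RingTheory.Sequence.IsWeaklyRegular L (List.ofFn fun t => (w t : L)) := by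
    refine ⟨fun k hk => ?_⟩
    simp only [List.length_ofFn] at hk
    set I : Ideal L := Ideal.ofList ((List.ofFn fun t => (w t : L)).take k) with hI
    have hI' : I = Ideal.span (Set.range fun t : Fin k => (w (Fin.castLE hk.le t) : L)) := by
      rw [hI, Ideal.ofList]
      congr 1
      ext v
      simp only [List.mem_take_iff_getElem, List.getElem_ofFn, List.length_ofFn, Set.mem_range]
      constructor
      · rintro ⟨j, hj, rfl⟩
        exact ⟨⟨j, (lt_min_iff.mp hj).1⟩, rfl⟩
      · rintro ⟨⟨j, hj⟩, rfl⟩
        exact ⟨j, lt_min hj (hj.trans hk), rfl⟩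
    clear_value I
    have hIs : (I • ⊤ : Submodule L L) = I := Ideal.mul_top I
    simp only [List.getElem_ofFn]
    rw [hIs]
    intro a₁ a₂ hab
    induction a₁ using Submodule.Quotient.induction_on with | _ a₁ => ?_
    induction a₂ using Submodule.Quotient.induction_on with | _ a₂ => ?_
    simp only [← Submodule.Quotient.mk_smul, Submodule.Quotient.eq] at hab ⊢
    rw [← smul_sub, smul_eq_mul] at hab
    set v := a₁ - a₂
    obtain ⟨v', sv, hv⟩ := IsLocalization.exists_mk'_eq Q.primeCompl v
    rw [← hv, hI'] at hab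
    rw [← hv, hI', IsLocalization.mk'_eq_mul_mk'_one]
    refine Ideal.mul_mem_right _ _ ?_
    have hab' : algebraMap A L (a ⟨k, hk⟩ * v') ∈
        (Ideal.span (Set.range fun t : Fin k => a (Fin.castLE hk.le t))).map (algebraMap A L) := by
      rw [Ideal.map_span, ← Set.range_comp, map_mul]
      have hm := Ideal.mul_mem_right (algebraMap A L (sv : A)) _ hab
      rw [mul_assoc, IsLocalization.mk'_spec] at hm
      exact hm
    rw [IsLocalization.algebraMap_mem_map_algebraMap_iff Q.primeCompl] at hab'
    obtain ⟨u, hu, huv⟩ := hab'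
    obtain ⟨c, hc'⟩ := (Submodule.mem_span_range_iff_exists_fun A).mp huv
    obtain ⟨i, x, hx⟩ := hc.exists_lift_family
      (Sum.elim (Sum.elim a c) (fun t : Fin 2 => if t = 0 then v' else u))
    let ax : Fin d → G i := fun t => x (Sum.inl (Sum.inl t))
    have hax : ∀ t, g i (ax t) = a t := fun t => hx _
    have hvx : g i (x (Sum.inr 0)) = v' := by rw [hx]; simp
    have hux : g i (x (Sum.inr 1)) = u := by rw [hx]; simp
    obtain ⟨j, φ, hφ, hkill⟩ := hc.kill i
      (x (Sum.inr 1) * (ax ⟨k, hk⟩ * x (Sum.inr 0)) - ∑ t, x (Sum.inl (Sum.inr t)) * ax (Fin.castLE hk.le t))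
      (by
        simp only [map_sub, map_mul, map_sum, hax, hvx, hux, hx, Sum.elim_inl, Sum.elim_inr]
        rw [← hc', sub_eq_zero]
        rfl)
    let P := Q.comap (g j).toRingHom
    haveI : P.IsPrime := Ideal.comap_isPrime _ _
    let Lj := Localization.AtPrime P
    haveI : IsRegularLocalRing Lj := (hreg j).isRegularLocalRing_localization P
    let Φ : Lj →+* L := Localization.localRingHom P Q (g j).toRingHom rfl
    haveI : IsLocalHom Φ := Localization.isLocalHom_localRingHom _ _ _ rfl
    have hΦ : ∀ y, Φ (algebraMap (G j) Lj y) = algebraMap A L (g j y) := fun y =>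
      Localization.localRingHom_to_map _ _ _ _ y
    have hgφ : ∀ y, g j (φ y) = g i y := fun y => AlgHom.congr_fun hφ y
    have hym : ∀ t, algebraMap (G j) Lj (φ (ax t)) ∈ maximalIdeal Lj := fun t => by
      refine (IsLocalization.AtPrime.to_map_mem_maximal_iff Lj P _).mpr ?_
      show g j (φ (ax t)) ∈ Q
      rw [hgφ, hax]
      exact (IsLocalization.AtPrime.to_map_mem_maximal_iff L Q (a t)).mp (w t).2
    let y : Fin d → maximalIdeal Lj := fun t => ⟨_, hym t⟩
    have hyw : ∀ t, Φ (y t : Lj) = (w t : L) := fun t => by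
      show Φ (algebraMap (G j) Lj (φ (ax t))) = algebraMap A L (a t)
      rw [hΦ, hgφ, hax]
    have hliy : LinearIndependent (ResidueField Lj)
        (fun t : Fin k => (maximalIdeal Lj).toCotangent (y (Fin.castLE hk.le t))) := by
      rw [Fintype.linearIndependent_iff]
      intro cs hcs
      choose cs' hcs' using fun t => residue_surjective (cs t)
      have h1 : ∑ t, cs' t * (y (Fin.castLE hk.le t) : Lj) ∈ maximalIdeal Lj ^ 2 := by
        have h0 : (maximalIdeal Lj).toCotangent (∑ t, cs' t • y (Fin.castLE hk.le t)) = 0 := by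
          rw [map_sum, ← hcs]
          refine Finset.sum_congr rfl fun t _ => ?_
          rw [map_smul, ← hcs', ← ResidueField.algebraMap_eq, algebraMap_smul]
        simpa using (Ideal.toCotangent_eq_zero _ _).mp h0
      have h2 : ∑ t, Φ (cs' t) * (w (Fin.castLE hk.le t) : L) ∈ maximalIdeal L ^ 2 := by
        have hle : (maximalIdeal Lj).map Φ ≤ maximalIdeal L := by
          refine Ideal.map_le_iff_le_comap.mpr fun r hr => ?_
          rw [Ideal.mem_comap, mem_maximalIdeal, mem_nonunits_iff, isUnit_map_iff]
          exact hr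
        have := Ideal.mem_map_of_mem Φ h1
        rw [map_sum, Ideal.map_pow] at this
        simpa only [map_mul, hyw] using Ideal.pow_right_mono hle 2 this
      have h3 : ∑ t, residue L (Φ (cs' t)) • (maximalIdeal L).toCotangent (w (Fin.castLE hk.le t)) = 0 := by
        simp only [← ResidueField.algebraMap_eq, algebraMap_smul, ← map_smul, ← map_sum]
        rw [Ideal.toCotangent_eq_zero]
        simpa using h2
      intro t
      have h4 := Fintype.linearIndependent_iff.mp (hli.comp _ (Fin.castLE_injective hk.le)) _ h3 t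
      rw [residue_eq_zero_iff, mem_maximalIdeal, mem_nonunits_iff, isUnit_map_iff, ← mem_nonunits_iff,
        ← mem_maximalIdeal, ← residue_eq_zero_iff, hcs'] at h4
      exact h4
    haveI := CAlg99.CotGen.isRegularLocalRing_quotient_of_indep (fun t : Fin k => y (Fin.castLE hk.le t)) hliy
    set J := Ideal.span (Set.range fun t : Fin k => (y (Fin.castLE hk.le t) : Lj)) with hJ
    haveI := RegLoc.isDomain (Lj ⧸ J)
    have hJI : J.map Φ ≤ Ideal.span (Set.range fun t : Fin k => (w (Fin.castLE hk.le t) : L)) := by
      rw [hJ, Ideal.map_span, ← Set.range_comp]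
      exact le_of_eq (by simp only [Function.comp_def, hyw])
    have hu' : IsUnit (algebraMap (G j) Lj (φ (x (Sum.inr 1)))) := by
      refine IsLocalization.map_units Lj (⟨φ (x (Sum.inr 1)), ?_⟩ : P.primeCompl)
      show ¬ g j (φ (x (Sum.inr 1))) ∈ Q
      rw [hgφ, hux]
      exact hu
    have hmemJ : (y ⟨k, hk⟩ : Lj) * algebraMap (G j) Lj (φ (x (Sum.inr 0))) ∈ J := by
      refine (Ideal.unit_mul_mem_iff_mem J hu').mp ?_
      have h0 := congrArg (algebraMap (G j) Lj) hkill
      rw [map_zero, map_sub, map_sub, sub_eq_zero] at h0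
      simp only [map_mul, map_sum] at h0
      rw [h0]
      exact Ideal.sum_mem _ fun t _ => Ideal.mul_mem_left _ _ (Ideal.subset_span ⟨t, rfl⟩)
    rcases ((Ideal.Quotient.isDomain_iff_prime J).mp inferInstance).mem_or_mem hmemJ with hyJ | hvJ
    · exfalso
      have h5 : (w ⟨k, hk⟩ : L) ∈ Ideal.span (Set.range fun t : Fin k => (w (Fin.castLE hk.le t) : L)) :=
        hJI (hyw ⟨k, hk⟩ ▸ Ideal.mem_map_of_mem Φ hyJ)
      obtain ⟨c', hc''⟩ := (Submodule.mem_span_range_iff_exists_fun L).mp h5
      have h6 : (maximalIdeal L).toCotangent (w ⟨k, hk⟩) ∈ Submodule.span (ResidueField L)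
          ((fun t => (maximalIdeal L).toCotangent (w t)) '' (Set.range (Fin.castLE hk.le))) := by
        have : w ⟨k, hk⟩ = ∑ t, c' t • w (Fin.castLE hk.le t) := Subtype.ext (by simpa using hc''.symm)
        rw [this, map_sum]
        refine Submodule.sum_mem _ fun t _ => ?_
        rw [map_smul, ← algebraMap_smul (ResidueField L)]
        exact Submodule.smul_mem _ _ (Submodule.subset_span ⟨_, ⟨t, rfl⟩, rfl⟩)
      exact hli.notMem_span_image (by rintro ⟨t, ht⟩; exact Nat.ne_of_lt t.2 (congrArg Fin.val ht)) h6
    · have := hJI (Ideal.mem_map_of_mem Φ hvJ)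
      rwa [hΦ, hgφ, hvx] at this
  have hseq : RingTheory.Sequence.IsRegular L (List.ofFn fun t => (w t : L)) :=
    (IsLocalRing.isRegular_iff_isWeaklyRegular_of_subset_maximalIdeal (by intro v hv; obtain ⟨t, rfl⟩ := List.mem_ofFn.mp hv; exact (w t).2)).mpr hreg'
  have hdim := ringKrullDim_add_length_eq_ringKrullDim_of_isRegular _ hseq
  refine IsRegularLocalRing.of_spanFinrank_maximalIdeal_le _ ?_
  rw [← hdim, List.length_ofFn]
  have h0 : (0 : WithBot ℕ∞) ≤ ringKrullDim (L ⧸ Ideal.ofList (List.ofFn fun t => (w t : L))) := by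
    have hle : Ideal.ofList (List.ofFn fun t => (w t : L)) ≤ maximalIdeal L := by
      rw [Ideal.ofList, Ideal.span_le]
      intro v hv
      obtain ⟨t, rfl⟩ := List.mem_ofFn.mp hv
      exact (w t).2
    haveI : Nontrivial (L ⧸ Ideal.ofList (List.ofFn fun t => (w t : L))) :=
      Ideal.Quotient.nontrivial_iff.mpr (ne_top_of_le_ne_top (maximalIdeal.isMaximal L).ne_top hle)
    exact ringKrullDim_nonneg_of_nontrivial
  exact le_add_of_nonneg_left h0

end Groth.Agent.CAlg48.RegColim
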