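import Mathlib

/-!
# Standard étale algebras and splitting algebras
-/

namespace Groth.Agent.CAlg48.SplitCover

universe u

open Polynomial

/-- Finitely many monic polynomials split over one finite free algebra. -/
theorem exists_splits_finset {R : Type u} [CommRing R] [Nontrivial R] (s : Finset R[X])
    (hs : ∀ f ∈ s, f.Monic) :
    ∃ (S : Type u) (_ : CommRing S) (_ : Algebra R S) (_ : Module.Finite R S) (_ : Module.Free R S)
      (_ : Nontrivial S), ∀ f ∈ s, (f.map (algebraMap R S)).Splits := by
  classical
  induction s using Finset.induction_on with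
  | empty => exact ⟨R, inferInstance, inferInstance, inferInstance, inferInstance, inferInstance, by simp⟩
  | insert f s hf ih =>
    obtain ⟨S, _, _, _, _, _, hS⟩ := ih fun g hg => hs g (Finset.mem_insert_of_mem hg)
    obtain ⟨T, _, _, _, _, _, hT⟩ := ((hs f (Finset.mem_insert_self f s)).map (algebraMap R S)).exists_splits_map
    algebraize [(algebraMap S T).comp (algebraMap R S)]
    refine ⟨T, ‹_›, ‹_›, .trans S _, .trans (S := S), ‹_›, fun g hg => ?_⟩
    rw [IsScalarTower.algebraMap_eq R S T, ← Polynomial.map_map]
    rcases Finset.mem_insert.mp hg with rfl | hg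
    · exact hT
    · exact (hS g hg).map _

variable {R : Type u} [CommRing R] {S : Type u} [CommRing S] [Algebra R S]

/-- If the polynomial of a standard étale presentation of `S` splits in `S'`, then at every prime `q'`
of `S'` lying over the same prime as a prime `q` of `S` there is a map `S → S'_{g'}` pulling `q'`
back to `q`. -/
theorem exists_hom (P : StandardEtalePresentation R S) {S' : Type u} [CommRing S'] [Algebra R S']
    (hsplit : (P.f.map (algebraMap R S')).Splits) (q : Ideal S) [q.IsPrime] (q' : Ideal S') [q'.IsPrime]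
    (h : q'.under R = q.under R) :
    ∃ (g' : S') (_ : g' ∉ q') (φ : S →ₐ[R] Localization.Away g'),
      (q'.map (algebraMap S' (Localization.Away g'))).comap φ = q := by
  classical
  obtain ⟨m, hm⟩ := splits_iff_exists_multiset.mp hsplit
  rw [(P.monic_f.map _).leadingCoeff, C_1, one_mul] at hm
  -- a common field extension of the two residue fields
  let p := q.under R
  letI : Algebra p.ResidueField q.ResidueField :=
    (Ideal.ResidueField.map p q (algebraMap R S) rfl).toAlgebra
  letI : Algebra p.ResidueField q'.ResidueField :=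
    (Ideal.ResidueField.map p q' (algebraMap R S') h.symm).toAlgebra
  let T := TensorProduct p.ResidueField q.ResidueField q'.ResidueField
  obtain ⟨M, hM⟩ := Ideal.exists_maximal T
  letI : Field (T ⧸ M) := Ideal.Quotient.field M
  let a₁ : S →+* T ⧸ M := (Ideal.Quotient.mk M).comp
    (Algebra.TensorProduct.includeLeftRingHom.comp (algebraMap S q.ResidueField))
  let a₂ : S' →+* T ⧸ M := (Ideal.Quotient.mk M).comp
    ((Algebra.TensorProduct.includeRight (R := p.ResidueField) (A := q.ResidueField)).toRingHom.comp
      (algebraMap S' q'.ResidueField))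
  have hk₁ : RingHom.ker a₁ = q := by
    show RingHom.ker (((Ideal.Quotient.mk M).comp Algebra.TensorProduct.includeLeftRingHom).comp
      (algebraMap S q.ResidueField)) = q
    rw [RingHom.ker_comp_of_injective _ (RingHom.injective _), Ideal.ker_algebraMap_residueField]
  have hk₂ : RingHom.ker a₂ = q' := by
    show RingHom.ker (((Ideal.Quotient.mk M).comp
      (Algebra.TensorProduct.includeRight (R := p.ResidueField) (A := q.ResidueField)).toRingHom).comp
      (algebraMap S' q'.ResidueField)) = q'
    rw [RingHom.ker_comp_of_injective _ (RingHom.injective _), Ideal.ker_algebraMap_residueField]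
  have hcomm : a₁.comp (algebraMap R S) = a₂.comp (algebraMap R S') := by
    ext r
    have e₁ : algebraMap S q.ResidueField (algebraMap R S r) =
        algebraMap p.ResidueField q.ResidueField (algebraMap R p.ResidueField r) :=
      (Ideal.ResidueField.map_algebraMap p q (algebraMap R S) rfl r).symm
    have e₂ : algebraMap S' q'.ResidueField (algebraMap R S' r) =
        algebraMap p.ResidueField q'.ResidueField (algebraMap R p.ResidueField r) :=
      (Ideal.ResidueField.map_algebraMap p q' (algebraMap R S') h.symm r).symm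
    show Ideal.Quotient.mk M (Algebra.TensorProduct.includeLeftRingHom _) = Ideal.Quotient.mk M _
    rw [e₁]
    show _ = Ideal.Quotient.mk M (Algebra.TensorProduct.includeRight _)
    rw [e₂, AlgHom.commutes]
    rfl
  letI : Algebra R (T ⧸ M) := (a₂.comp (algebraMap R S')).toAlgebra
  let b₁ : S →ₐ[R] T ⧸ M := ⟨a₁, fun r => RingHom.congr_fun hcomm r⟩
  let b₂ : S' →ₐ[R] T ⧸ M := ⟨a₂, fun r => rfl⟩
  set ξ := b₁ P.x
  -- a root of `f` in `S'` mapping to the root given by `q`
  have hξ : aeval ξ P.f = 0 := by rw [aeval_algHom_apply, P.hasMap.1, map_zero]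
  have hprod : aeval ξ P.f = (m.map fun α => ξ - b₂ α).prod := by
    rw [show aeval ξ P.f = eval₂ ((b₂ : S' →+* T ⧸ M).comp (algebraMap R S')) ξ P.f from rfl]
    rw [← eval₂_map, hm, eval₂_multiset_prod, Multiset.map_map]
    simp [Function.comp_def]
  rw [hξ] at hprod
  obtain ⟨α, hα, hαξ⟩ := Multiset.mem_map.mp (Multiset.prod_eq_zero_iff.mp hprod.symm)
  rw [sub_eq_zero] at hαξ
  have hfα : aeval α P.f = 0 := by
    rw [aeval_def, ← eval_map, hm, eval_multiset_prod, Multiset.map_map]
    exact Multiset.prod_eq_zero (Multiset.mem_map.mpr ⟨α, hα, by simp⟩)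
  set g' := aeval α P.g
  have hg' : g' ∉ q' := fun hmem => by
    rw [← hk₂, RingHom.mem_ker] at hmem
    have h1 : aeval ξ P.g = 0 := by
      rw [hαξ, aeval_algHom_apply]
      exact hmem
    exact (P.hasMap.map b₁).2.ne_zero h1
  let L := Localization.Away g'
  have hmap : P.HasMap (algebraMap S' L α) :=
    ⟨by rw [aeval_algebraMap_apply, hfα, map_zero],
     by rw [aeval_algebraMap_apply]; exact IsLocalization.Away.algebraMap_isUnit g'⟩
  let φ : S →ₐ[R] L := (P.lift _ hmap).comp P.equivRing.toAlgHom
  refine ⟨g', hg', φ, ?_⟩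
  have hu : IsUnit (b₂ g') := isUnit_iff_ne_zero.mpr fun h0 => hg' (hk₂ ▸ (RingHom.mem_ker.mpr h0))
  let b₃ : L →ₐ[R] T ⧸ M := ⟨IsLocalization.Away.lift g' hu, fun r => by
    show IsLocalization.Away.lift g' hu (algebraMap R L r) = _
    rw [IsScalarTower.algebraMap_apply R S' L, IsLocalization.Away.lift_eq]
    exact b₂.commutes r⟩
  have hb : b₃.comp φ = b₁ := by
    have h1 : (b₃.comp φ).comp P.equivRing.symm.toAlgHom = b₁.comp P.equivRing.symm.toAlgHom := by
      refine StandardEtalePair.hom_ext ?_
      simp only [AlgHom.comp_apply, AlgEquiv.coe_toAlgHom, StandardEtalePresentation.equivRing_symm_X]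
      show b₃ (P.lift _ hmap (P.equivRing P.x)) = ξ
      rw [StandardEtalePresentation.equivRing_x, StandardEtalePair.lift_X, hαξ]
      exact IsLocalization.Away.lift_eq g' hu α
    refine AlgHom.ext fun s => ?_
    obtain ⟨y, rfl⟩ := P.equivRing.symm.surjective s
    exact AlgHom.congr_fun h1 y
  have hker : q'.map (algebraMap S' L) = RingHom.ker b₃.toRingHom := by
    conv_lhs => rw [← hk₂]
    rw [show RingHom.ker a₂ = (RingHom.ker b₃.toRingHom).comap (algebraMap S' L) from ?_,
      IsLocalization.map_comap (Submonoid.powers g')]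
    ext x
    simp only [RingHom.mem_ker, Ideal.mem_comap]
    exact iff_of_eq (congrArg (· = 0) (IsLocalization.Away.lift_eq g' hu x).symm)
  rw [hker]
  ext s
  rw [Ideal.mem_comap, RingHom.mem_ker]
  show (b₃.comp φ) s = 0 ↔ _
  rw [hb]
  conv_rhs => rw [← hk₁]
  rfl

end Groth.Agent.CAlg48.SplitCover
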