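import Mathlib
import Groth.Agent.FlatMisc.WeakAssFlat

/-!
Weakly associated primes under base change along a field extension.
-/

set_option autoImplicit false
set_option linter.style.haveILetI false

universe u

open TensorProduct

namespace Groth.Agent.CAlg48.WeakAssField

open Groth.Agent.WeakAss (mem_ann mem_weakAss_iff)

/-- A polynomial with a coefficient outside `p` kills no finite family unless it dies at `p`. -/
theorem exists_smul_eq_zero_of_polynomial {R : Type u} [CommRing R] {ι : Type u}
    {M : Type u} [AddCommGroup M] [Module R M] (p : Ideal R) [p.IsPrime]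
    (h : MvPolynomial ι R) (hh : h ∉ p.map (MvPolynomial.C (σ := ι)))
    (z : MvPolynomial ι R ⊗[R] M) (hz : h • z = 0) :
    ∃ c : R, c ∉ p ∧ c • z = 0 := by
  classical
  let B := MvPolynomial.basisMonomials ι R
  let m := TensorProduct.equivFinsuppOfBasisLeft B z
  have hsum : z = m.sum fun d x => B d ⊗ₜ[R] x := by
    rw [← (TensorProduct.equivFinsuppOfBasisLeft B).symm_apply_apply z,
      TensorProduct.equivFinsuppOfBasisLeft_symm_apply]
  let N := Submodule.span R (m.frange : Set M)
  haveI : Module.Finite R N := Module.Finite.iff_fg.2 (Submodule.fg_span m.frange.finite_toSet)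
  let n : (ι →₀ ℕ) → N := fun d => ⟨m d, by
    by_cases hd : m d = 0
    · rw [hd]; exact zero_mem _
    · exact Submodule.subset_span (Finsupp.mem_frange.2 ⟨hd, d, rfl⟩)⟩
  let z' : MvPolynomial ι R ⊗[R] N := ∑ d ∈ m.support, B d ⊗ₜ[R] n d
  have hz' : TensorProduct.AlgebraTensorModule.lTensor (MvPolynomial ι R) (MvPolynomial ι R)
      N.subtype z' = z := by
    rw [hsum, map_sum, Finsupp.sum]
    exact Finset.sum_congr rfl fun d _ => rfl
  have hinj : Function.Injective (TensorProduct.AlgebraTensorModule.lTensor (MvPolynomial ι R)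
      (MvPolynomial ι R) N.subtype) := fun x y hxy =>
    Module.Flat.lTensor_preserves_injective_linearMap N.subtype N.injective_subtype hxy
  have hz0 : h • z' = 0 := hinj (by rw [map_smul, hz', hz, map_zero])
  let κ := p.ResidueField
  let ρ : MvPolynomial ι R →+* MvPolynomial ι κ := MvPolynomial.map (algebraMap R κ)
  have hρ : ρ h ≠ 0 := by
    intro h0
    apply hh
    rw [MvPolynomial.mem_map_C_iff]
    intro d
    have := congrArg (MvPolynomial.coeff d) h0
    rwa [MvPolynomial.coeff_map, MvPolynomial.coeff_zero,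
      Ideal.algebraMap_residueField_eq_zero] at this
  have hcoord : ∀ φ : Module.Dual κ (κ ⊗[R] N), ∀ d ∈ m.support, φ (1 ⊗ₜ n d) = 0 := by
    intro φ d hd
    let ψ : MvPolynomial ι R ⊗[R] N →ₗ[R] MvPolynomial ι κ :=
      TensorProduct.lift (LinearMap.mk₂ R (fun f x => φ (1 ⊗ₜ x) • ρ f)
        (fun f g x => by simp)
        (fun r f x => by
          rw [Algebra.smul_def r f, map_mul, show ρ (algebraMap R (MvPolynomial ι R) r) =
            algebraMap R (MvPolynomial ι κ) r from MvPolynomial.map_C _ r,
            ← Algebra.smul_def r (ρ f), smul_comm])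
        (fun f x y => by simp [TensorProduct.tmul_add, add_smul])
        (fun r f x => by
          rw [TensorProduct.tmul_smul, LinearMap.map_smul_of_tower, smul_assoc]))
    have hψ : ∀ y, ψ (h • y) = ρ h * ψ y := by
      intro y
      induction y using TensorProduct.induction_on with
      | zero => simp
      | tmul f x =>
        rw [smul_tmul', smul_eq_mul]
        show φ (1 ⊗ₜ x) • ρ (h * f) = ρ h * (φ (1 ⊗ₜ x) • ρ f)
        rw [map_mul, mul_smul_comm]
      | add x y hx hy => rw [smul_add, map_add, hx, hy, map_add, mul_add]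
    have h1 : ψ z' = 0 := by
      have := hψ z'
      rw [hz0, map_zero] at this
      exact (mul_eq_zero.1 this.symm).resolve_left hρ
    have h2 := congrArg (MvPolynomial.coeff d) h1
    rw [map_sum, MvPolynomial.coeff_sum, MvPolynomial.coeff_zero, Finset.sum_eq_single d] at h2
    · simpa [ψ, B, ρ] using h2
    · intro e _ he
      simp [ψ, B, ρ, MvPolynomial.coeff_monomial, he]
    · exact fun h => absurd hd h
  have hn : ∀ x : N, (1 : κ) ⊗ₜ[R] x = 0 := by
    intro x
    have hx : (x : N) ∈ Submodule.span R (n '' (m.support : Set (ι →₀ ℕ))) := by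
      have : Submodule.map N.subtype (Submodule.span R (n '' (m.support : Set (ι →₀ ℕ)))) = N := by
        rw [Submodule.map_span, Set.image_image]
        congr 1
        ext y
        simp [n, Finsupp.mem_frange]
        constructor
        · rintro ⟨d, hd, rfl⟩
          exact ⟨hd, d, rfl⟩
        · rintro ⟨hy, d, rfl⟩
          exact ⟨d, hy, rfl⟩
      have h2 : (x : M) ∈ Submodule.map N.subtype
          (Submodule.span R (n '' (m.support : Set (ι →₀ ℕ)))) := by rw [this]; exact x.2
      obtain ⟨y, hy, hxy⟩ := Submodule.mem_map.1 h2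
      rwa [show y = x from Subtype.ext hxy] at hy
    induction hx using Submodule.span_induction with
    | mem y hy =>
      obtain ⟨d, hd, rfl⟩ := hy
      exact (Module.forall_dual_apply_eq_zero_iff κ _).1 fun φ => hcoord φ d hd
    | zero => simp
    | add x y _ _ hx hy => rw [TensorProduct.tmul_add, hx, hy, add_zero]
    | smul r y _ hy => rw [TensorProduct.tmul_smul, hy, smul_zero]
  have hsub : Subsingleton (κ ⊗[R] N) := subsingleton_of_forall_eq 0 fun y => by
    induction y using TensorProduct.induction_on with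
    | zero => rfl
    | tmul a x => rw [← mul_one a, ← smul_eq_mul, ← smul_tmul', hn, smul_zero]
    | add x y hx hy => rw [hx, hy, add_zero]
  have hsupp : (⟨p, ‹_›⟩ : PrimeSpectrum R) ∉ Module.support R N := by
    rw [Module.mem_support_iff_nontrivial_residueField_tensorProduct]
    exact not_nontrivial_iff_subsingleton.2 hsub
  rw [Module.support_eq_zeroLocus, PrimeSpectrum.mem_zeroLocus, SetLike.coe_subset_coe,
    SetLike.not_le_iff_exists] at hsupp
  obtain ⟨c, hc, hcp⟩ := hsupp
  refine ⟨c, hcp, ?_⟩
  have hc' : ∀ x : N, c • x = 0 := Module.mem_annihilator.1 hc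
  rw [← hz', ← LinearMap.map_smul_of_tower, Finset.smul_sum]
  rw [Finset.sum_eq_zero fun d _ => by rw [← TensorProduct.tmul_smul, hc', TensorProduct.tmul_zero],
    map_zero]

/-- Weakly associated primes of a polynomial base change contract to weakly associated primes. -/
theorem comap_mem_of_polynomial {R : Type u} [CommRing R] {ι : Type u}
    {M : Type u} [AddCommGroup M] [Module R M] (q : Ideal (MvPolynomial ι R)) [q.IsPrime]
    (hq : q ∈ FlatCA.weakAss (MvPolynomial ι R) (MvPolynomial ι R ⊗[R] M)) :
    q.comap MvPolynomial.C ∈ FlatCA.weakAss R M := by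
  classical
  set p := q.comap (MvPolynomial.C (σ := ι) (R := R)) with hpdef
  haveI : p.IsPrime := Ideal.comap_isPrime _ _
  obtain ⟨z, hzq⟩ := hq
  have hzle : ∀ h : MvPolynomial ι R, h • z = 0 → h ∈ q := fun h hh => hzq.1.2 (mem_ann.2 hh)
  have hsmul : ∀ (c : R), c • z = 0 → c ∈ p := fun c hc => hzle _ (by
    rw [← MvPolynomial.algebraMap_eq, algebraMap_smul, hc])
  -- the annihilator lies in `p[X]`, hence `q = p[X]`
  have hsub : (Submodule.span (MvPolynomial ι R) {z}).annihilator ≤ p.map MvPolynomial.C := by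
    intro h hh
    by_contra hn
    obtain ⟨c, hc, hcz⟩ := exists_smul_eq_zero_of_polynomial p h hn z (mem_ann.1 hh)
    exact hc (hsmul c hcz)
  haveI : (p.map (MvPolynomial.C (σ := ι))).IsPrime := by
    rw [← Ideal.Quotient.isDomain_iff_prime]
    exact (MvPolynomial.quotientEquivQuotientMvPolynomial p).symm.toMulEquiv.isDomain _
  have hqeq : q = p.map MvPolynomial.C :=
    le_antisymm (hzq.2 ⟨inferInstance, hsub⟩ Ideal.map_comap_le) Ideal.map_comap_le
  have hq2 : q ∈ (Submodule.span (MvPolynomial ι R) {z}).annihilator.minimalPrimes := hzq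
  rw [Groth.Agent.WeakAss.minimalPrimes_iff] at hq2
  let B := MvPolynomial.basisMonomials ι R
  let m := TensorProduct.equivFinsuppOfBasisLeft B z
  obtain ⟨d, hd⟩ : ∃ d, ∀ a : R, a • m d = 0 → a ∈ p := by
    by_contra hne
    push Not at hne
    choose c hc hcp using hne
    let C₀ := ∏ d ∈ m.support, c d
    have hC₀ : C₀ • z = 0 := by
      apply (TensorProduct.equivFinsuppOfBasisLeft B).injective
      rw [LinearEquiv.map_smul, map_zero]
      ext d
      rw [Finsupp.smul_apply, Finsupp.zero_apply]
      by_cases hd : d ∈ m.support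
      · obtain ⟨e, he⟩ := Finset.dvd_prod_of_mem c hd
        show C₀ • m d = 0
        rw [show C₀ = e * c d by rw [mul_comm]; exact he, mul_smul, hc, smul_zero]
      · show C₀ • m d = 0
        rw [Finsupp.notMem_support_iff.1 hd, smul_zero]
    obtain ⟨d, -, hd⟩ := (Ideal.IsPrime.prod_mem_iff).1 (hsmul _ hC₀)
    exact hcp d hd
  refine mem_weakAss_iff.2 ⟨m d, hd, fun a ha => ?_⟩
  obtain ⟨h, hh, k, hk⟩ := hq2.2 (MvPolynomial.C a) ha
  rw [mem_ann, mul_comm, mul_smul] at hk
  have hk' : h • (a ^ k • z) = 0 := by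
    rw [← algebraMap_smul (MvPolynomial ι R) (a ^ k) z, MvPolynomial.algebraMap_eq, map_pow,
      ← mul_smul, mul_comm, mul_smul]
    exact hk
  obtain ⟨c, hc, hcz⟩ := exists_smul_eq_zero_of_polynomial p h (hqeq ▸ hh) _ hk'
  refine ⟨c, hc, k, ?_⟩
  have h3 := congrArg (fun w => TensorProduct.equivFinsuppOfBasisLeft B w d) hcz
  simpa [mul_smul, m] using h3

/-- Descent of minimality along a flat ring map. -/
theorem comap_mem_minimalPrimes {A B : Type u} [CommRing A] [CommRing B] [Algebra A B]
    [Module.Flat A B] {N : Type u} [AddCommGroup N] [Module A N] (w : N) (q : Ideal B) [q.IsPrime]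
    (hq : q ∈ (Submodule.span B {(1 : B) ⊗ₜ[A] w}).annihilator.minimalPrimes) :
    q.comap (algebraMap A B) ∈ (Submodule.span A {w}).annihilator.minimalPrimes := by
  refine ⟨⟨Ideal.comap_isPrime _ _, fun a ha => hq.1.2 (mem_ann.2 ?_)⟩, fun p hp hpq => ?_⟩
  · rw [algebraMap_smul, ← TensorProduct.tmul_smul, mem_ann.1 ha, TensorProduct.tmul_zero]
  · haveI := hp.1
    haveI : q.LiesOver (q.comap (algebraMap A B)) := ⟨rfl⟩
    obtain ⟨Q, hQq, hQ, hQp⟩ := Ideal.exists_ideal_le_liesOver_of_le q hpq
    have hQle : (Submodule.span B {(1 : B) ⊗ₜ[A] w}).annihilator ≤ Q := fun b hb => by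
      have h1 := FlatMisc.WeakAssFlat.ann_one_tmul w b (mem_ann.1 hb)
      refine (Ideal.map_le_iff_le_comap.2 ?_) h1
      exact hp.2.trans hQp.over.le
    have := hq.2 ⟨hQ, hQle⟩ hQq
    calc q.comap (algebraMap A B) ≤ Q.comap (algebraMap A B) := Ideal.comap_mono this
      _ = p := hQp.over.symm

/-- A weakly associated prime seen at a finite flat stage contracts to a weakly associated prime. -/
theorem comap_mem_of_finite_stage {A C B : Type u} [CommRing A] [CommRing C] [CommRing B]
    [Algebra A C] [Algebra A B] [Algebra C B] [IsScalarTower A C B] [Module.Finite A C]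
    [Module.Flat A C] [Module.Flat C B] {N : Type u} [AddCommGroup N] [Module A N]
    (q : Ideal B) [q.IsPrime] (z : B ⊗[A] N)
    (hz : q ∈ (Submodule.span B {z}).annihilator.minimalPrimes)
    (hC : z ∈ LinearMap.range ((IsScalarTower.toAlgHom A C B).toLinearMap.rTensor N)) :
    q.comap (algebraMap A B) ∈ FlatCA.weakAss A N := by
  let e := TensorProduct.AlgebraTensorModule.cancelBaseChange A C B B N
  let Ψ : C ⊗[A] N →ₗ[A] B ⊗[A] N := (IsScalarTower.toAlgHom A C B).toLinearMap.rTensor N
  have hΨ : ∀ u, e (1 ⊗ₜ u) = Ψ u := by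
    intro u
    induction u using TensorProduct.induction_on with
    | zero => rw [TensorProduct.tmul_zero, LinearEquiv.map_zero, LinearMap.map_zero]
    | tmul y n =>
      rw [TensorProduct.AlgebraTensorModule.cancelBaseChange_tmul, Algebra.smul_def, mul_one]
      rfl
    | add x y hx hy => rw [TensorProduct.tmul_add, LinearEquiv.map_add, hx, hy, LinearMap.map_add]
  obtain ⟨w, hw⟩ := hC
  have hw' : e (1 ⊗ₜ w) = z := (hΨ w).trans hw
  have hann : (Submodule.span B {(1 : B) ⊗ₜ[C] w}).annihilator =
      (Submodule.span B {z}).annihilator := by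
    rw [← hw']
    exact (WeakAss.ann_map (f := e.toLinearMap) e.injective _).symm
  rw [← hann] at hz
  have h1 : q.comap (algebraMap C B) ∈ FlatCA.weakAss C (C ⊗[A] N) :=
    ⟨w, comap_mem_minimalPrimes w q hz⟩
  haveI : (q.comap (algebraMap C B)).LiesOver (q.comap (algebraMap A B)) :=
    ⟨by rw [Ideal.under_def, Ideal.comap_comap, ← IsScalarTower.algebraMap_eq]⟩
  exact FlatMisc.WeakAssFlat.mem_of_mem_of_finite (q.comap (algebraMap A B)) _ h1

attribute [local instance] Algebra.TensorProduct.rightAlgebra

set_option maxHeartbeats 1000000 in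
/-- Weakly associated primes along an algebraic field extension. -/
theorem comap_mem_of_isAlgebraic {E K A B : Type u} [Field E] [Field K] [Algebra E K]
    [Algebra.IsAlgebraic E K] [CommRing A] [CommRing B] [Algebra E A] [Algebra E B] [Algebra A B]
    [Algebra K B] [IsScalarTower E A B] [IsScalarTower E K B] [Algebra.IsPushout E K A B]
    {N : Type u} [AddCommGroup N] [Module A N] (q : Ideal B) [q.IsPrime]
    (hq : q ∈ FlatCA.weakAss B (B ⊗[A] N)) :
    q.comap (algebraMap A B) ∈ FlatCA.weakAss A N := by
  classical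
  obtain ⟨z, hz⟩ := hq
  -- a finite set of coefficients
  have hB : ∀ b : B, ∃ s : Finset K, b ∈ Algebra.adjoin A ((algebraMap K B) '' (s : Set K)) := by
    intro b
    obtain ⟨y, rfl⟩ := (Algebra.IsPushout.equiv E K A B).surjective b
    induction y using TensorProduct.induction_on with
    | zero => exact ⟨∅, by rw [map_zero]; exact zero_mem _⟩
    | tmul x a =>
      refine ⟨{x}, ?_⟩
      rw [Algebra.IsPushout.equiv_tmul]
      exact mul_mem (Algebra.subset_adjoin ⟨x, by simp, rfl⟩) (Subalgebra.algebraMap_mem _ a)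
    | add x y hx hy =>
      obtain ⟨s, hs⟩ := hx
      obtain ⟨t, ht⟩ := hy
      refine ⟨s ∪ t, ?_⟩
      rw [map_add]
      exact add_mem (Algebra.adjoin_mono (Set.image_mono (Finset.coe_subset.2 Finset.subset_union_left)) hs)
        (Algebra.adjoin_mono (Set.image_mono (Finset.coe_subset.2 Finset.subset_union_right)) ht)
  choose s hs using hB
  obtain ⟨T, hT⟩ : ∃ T : Finset B, z ∈ Submodule.span A
      {w | ∃ b ∈ T, ∃ n : N, w = b ⊗ₜ[A] n} := by
    clear hz
    induction z using TensorProduct.induction_on with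
    | zero => exact ⟨∅, zero_mem _⟩
    | tmul b n => exact ⟨{b}, Submodule.subset_span ⟨b, by simp, n, rfl⟩⟩
    | add x y hx hy =>
      obtain ⟨T, hT⟩ := hx
      obtain ⟨U, hU⟩ := hy
      exact ⟨T ∪ U, add_mem
        (Submodule.span_mono (by rintro w ⟨b, hb, n, rfl⟩; exact ⟨b, Finset.mem_union_left _ hb, n, rfl⟩) hT)
        (Submodule.span_mono (by rintro w ⟨b, hb, n, rfl⟩; exact ⟨b, Finset.mem_union_right _ hb, n, rfl⟩) hU)⟩
  let S : Finset K := T.biUnion s
  let L := IntermediateField.adjoin E (S : Set K)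
  haveI : FiniteDimensional E L :=
    IntermediateField.finiteDimensional_adjoin fun x _ => Algebra.IsIntegral.isIntegral x
  let φ : (A ⊗[E] L) →ₐ[A] B := Algebra.TensorProduct.lift (Algebra.ofId A B)
    ((IsScalarTower.toAlgHom E K B).comp L.val) fun _ _ => Commute.all _ _
  letI : Algebra (A ⊗[E] L) B := φ.toRingHom.toAlgebra
  haveI : IsScalarTower A (A ⊗[E] L) B :=
    IsScalarTower.of_algebraMap_eq (R := A) (S := (A ⊗[E] L)) (A := B) fun a => (φ.commutes a).symm
  have hφr : ∀ l : L, φ (1 ⊗ₜ l) = algebraMap K B l := fun l => by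
    show Algebra.TensorProduct.lift _ _ _ ((1 : A) ⊗ₜ[E] l) = _
    rw [Algebra.TensorProduct.lift_tmul, map_one, one_mul]
    rfl
  haveI : IsScalarTower E (A ⊗[E] L) B := .of_algebraMap_eq fun e =>
    (IsScalarTower.algebraMap_apply E A B e).trans
      ((IsScalarTower.algebraMap_apply A (A ⊗[E] L) B _).trans
        (congrArg _ (IsScalarTower.algebraMap_apply E A (A ⊗[E] L) e).symm))
  haveI : IsScalarTower L (A ⊗[E] L) B :=
    IsScalarTower.of_algebraMap_eq (R := L) (S := (A ⊗[E] L)) (A := B) fun l => (hφr l).symm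
  haveI : IsScalarTower E L B := .of_algebraMap_eq fun e => by
    rw [IsScalarTower.algebraMap_apply E K B, IsScalarTower.algebraMap_apply E L K,
      ← IsScalarTower.algebraMap_apply L K B]
  haveI : Algebra.IsPushout L K (A ⊗[E] L) B :=
    (Algebra.IsPushout.comp_iff E L A (A ⊗[E] L) (T := K) (T' := B)).1 inferInstance
  haveI : Module.Flat (A ⊗[E] L) B :=
    Module.Flat.isBaseChange L (A ⊗[E] L) K B (Algebra.IsPushout.symm ‹Algebra.IsPushout L K (A ⊗[E] L) B›).out
  haveI : Module.Finite A (A ⊗[E] L) := inferInstance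
  haveI : Module.Flat A (A ⊗[E] L) := inferInstance
  refine comap_mem_of_finite_stage (C := A ⊗[E] L) q z hz ((Submodule.span_le.2 ?_) hT)
  rintro v ⟨b, hb, n, rfl⟩
  have hbr : b ∈ φ.range := by
    refine (Algebra.adjoin_le (S := φ.range) ?_) (hs b)
    rintro _ ⟨x, hx, rfl⟩
    exact ⟨1 ⊗ₜ ⟨x, IntermediateField.subset_adjoin E _ (Finset.mem_biUnion.2 ⟨b, hb, hx⟩)⟩,
      hφr _⟩
  obtain ⟨y, rfl⟩ := hbr
  exact ⟨y ⊗ₜ n, rfl⟩

attribute [local instance] MvPolynomial.algebraMvPolynomial

set_option maxHeartbeats 1000000 in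
/-- Weakly associated primes of a base change along a field extension contract to weakly associated
primes. -/
theorem comap_mem {k K R RK : Type u} [Field k] [Field K] [Algebra k K] [CommRing R] [Algebra k R]
    [CommRing RK] [Algebra k RK] [Algebra K RK] [Algebra R RK] [IsScalarTower k K RK]
    [IsScalarTower k R RK] [Algebra.IsPushout k K R RK] {M : Type u} [AddCommGroup M] [Module R M]
    (q : Ideal RK) [q.IsPrime] (hq : q ∈ FlatCA.weakAss RK (RK ⊗[R] M)) :
    q.comap (algebraMap R RK) ∈ FlatCA.weakAss R M := by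
  obtain ⟨ι, x, hx⟩ := exists_isTranscendenceBasis' k K
  let P₀ := MvPolynomial ι k
  let P := MvPolynomial ι R
  let E := IntermediateField.adjoin k (Set.range x)
  haveI : Algebra.IsAlgebraic E K := hx.isAlgebraic_field
  let a := hx.1.aevalEquivField
  letI : Algebra P₀ E := (a.toRingHom.comp (algebraMap P₀ (FractionRing P₀))).toAlgebra
  haveI : IsScalarTower k P₀ E := .of_algebraMap_eq fun c => by
    show _ = a (algebraMap P₀ (FractionRing P₀) (algebraMap k P₀ c))
    rw [← IsScalarTower.algebraMap_apply k P₀ (FractionRing P₀), a.commutes]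
  haveI : IsLocalization (nonZeroDivisors P₀) E :=
    IsLocalization.isLocalization_of_algEquiv (nonZeroDivisors P₀)
      (AlgEquiv.ofRingEquiv (f := a.toRingEquiv) fun _ => rfl)
  have hval : ∀ p : P₀, ((algebraMap P₀ E p : E) : K) = MvPolynomial.aeval x p := fun p =>
    hx.1.aevalEquivField_algebraMap_apply_coe p
  let T := Algebra.algebraMapSubmonoid P (nonZeroDivisors P₀)
  let C := Localization T
  let g : P₀ →+* C := algebraMap P₀ C
  have hg : ∀ y : nonZeroDivisors P₀, IsUnit (g y) := fun y => by
    rw [show g y = algebraMap P C (algebraMap P₀ P y) from IsScalarTower.algebraMap_apply P₀ P C _]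
    exact IsLocalization.map_units C (⟨_, y.1, y.2, rfl⟩ : T)
  letI : Algebra E C := (IsLocalization.lift (M := nonZeroDivisors P₀) hg).toAlgebra
  haveI : IsScalarTower P₀ E C := .of_algebraMap_eq fun p => (IsLocalization.lift_eq hg p).symm
  haveI : IsScalarTower k E C := .of_algebraMap_eq fun c => by
    rw [IsScalarTower.algebraMap_apply k P₀ E, ← IsScalarTower.algebraMap_apply P₀ E C,
      ← IsScalarTower.algebraMap_apply k P₀ C]
  haveI h1 : Algebra.IsPushout P₀ E P C :=
    (Algebra.isPushout_of_isLocalization (nonZeroDivisors P₀) E P C).symm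
  haveI h2 : Algebra.IsPushout k E R C := (Algebra.IsPushout.comp_iff k P₀ R P).2 h1
  let ev : P →ₐ[R] RK := MvPolynomial.aeval fun i => algebraMap K RK (x i)
  have hev : ∀ p : P₀, ev (algebraMap P₀ P p) = algebraMap K RK (MvPolynomial.aeval x p) := by
    intro p
    show (ev.toRingHom.comp (MvPolynomial.map (algebraMap k R))) p =
      ((algebraMap K RK).comp (MvPolynomial.aeval x).toRingHom) p
    congr 1
    refine MvPolynomial.ringHom_ext (fun c => ?_) fun i => ?_
    · show MvPolynomial.aeval _ (MvPolynomial.map (algebraMap k R) (MvPolynomial.C c)) =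
        algebraMap K RK (MvPolynomial.aeval x (MvPolynomial.C c))
      rw [MvPolynomial.map_C, MvPolynomial.aeval_C, MvPolynomial.aeval_C,
        ← IsScalarTower.algebraMap_apply k R RK, ← IsScalarTower.algebraMap_apply k K RK]
    · show MvPolynomial.aeval _ (MvPolynomial.map (algebraMap k R) (MvPolynomial.X i)) =
        algebraMap K RK (MvPolynomial.aeval x (MvPolynomial.X i))
      rw [MvPolynomial.map_X, MvPolynomial.aeval_X, MvPolynomial.aeval_X]
  have hT : ∀ t : T, IsUnit (ev t) := by
    rintro ⟨_, p, hp, rfl⟩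
    show IsUnit (ev (algebraMap P₀ P p))
    rw [hev]
    exact (Ne.isUnit fun h0 => nonZeroDivisors.ne_zero hp
      (algebraicIndependent_iff_injective_aeval.1 hx.1 (by rw [h0, map_zero]))).map _
  letI : Algebra C RK := (IsLocalization.lift (M := T) hT).toAlgebra
  haveI : IsScalarTower R C RK := IsScalarTower.of_algebraMap_eq (R := R) (S := C) (A := RK) fun r => by
    rw [IsScalarTower.algebraMap_apply R P C r]
    exact ((IsLocalization.lift_eq hT _).trans (ev.commutes r)).symm
  haveI : IsScalarTower E C RK := .of_algebraMap_eq' (by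
    refine IsLocalization.ringHom_ext (nonZeroDivisors P₀) (RingHom.ext fun p => ?_)
    show algebraMap K RK ((algebraMap P₀ E p : E) : K) =
      algebraMap C RK (algebraMap E C (algebraMap P₀ E p))
    rw [hval, ← IsScalarTower.algebraMap_apply P₀ E C, IsScalarTower.algebraMap_apply P₀ P C, ← hev]
    exact (IsLocalization.lift_eq hT _).symm)
  haveI : IsScalarTower k C RK := .of_algebraMap_eq fun c =>
    (IsScalarTower.algebraMap_apply k R RK c).trans ((IsScalarTower.algebraMap_apply R C RK _).trans
      (congrArg _ (IsScalarTower.algebraMap_apply k R C c).symm))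
  haveI : Algebra.IsPushout E K C RK :=
    (Algebra.IsPushout.comp_iff k E R C (T := K) (T' := RK)).1 inferInstance
  let e := TensorProduct.AlgebraTensorModule.cancelBaseChange R C RK RK M
  have h3 : q.comap (algebraMap C RK) ∈ FlatCA.weakAss C (C ⊗[R] M) :=
    comap_mem_of_isAlgebraic (E := E) (K := K) q
      (WeakAss.weakAss_mono (f := e.symm.toLinearMap) e.symm.injective hq)
  haveI : (q.comap (algebraMap C RK)).IsPrime := Ideal.comap_isPrime _ _
  have h4 := (FlatMisc.WeakAssFlat.mem_iff_of_isLocalization (C := P) T _).1 h3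
  have h5 := comap_mem_of_polynomial _ h4
  rwa [Ideal.comap_comap, Ideal.comap_comap, show (algebraMap C RK).comp
    ((algebraMap P C).comp MvPolynomial.C) = algebraMap R RK from by
      rw [← MvPolynomial.algebraMap_eq, ← IsScalarTower.algebraMap_eq,
        ← IsScalarTower.algebraMap_eq]] at h5

end Groth.Agent.CAlg48.WeakAssField
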